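import Mathlib
import Cfsg.Agent.Solvable.SchurZassenhausConj

/-!
# Dimensions of irreducible representations of finite solvable groups

Over an algebraically closed field in which the group order is invertible every prime divisor of the
dimension of an irreducible representation of a finite solvable group divides the group order
(`prime_dvd_of_irr`).  The characteristic is arbitrary.
-/

set_option autoImplicit false

namespace Cfsg.Agent.H575.Dim

open Module

section Basic

variable {E : Type*} [Field E] {H V : Type*} [Group H] [AddCommGroup V] [Module E V]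

/-- irreducible representations, in terms of invariant subspaces -/
def Irr (ρ : Representation E H V) : Prop :=
  Nontrivial V ∧ ∀ W : Submodule E V, (∀ h, ∀ w ∈ W, ρ h w ∈ W) → W = ⊥ ∨ W = ⊤

theorem inv_apply (ρ : Representation E H V) (h : H) (v : V) : ρ h⁻¹ (ρ h v) = v := by
  rw [← Module.End.mul_apply, ← map_mul, inv_mul_cancel, map_one, Module.End.one_apply]

theorem apply_inv (ρ : Representation E H V) (h : H) (v : V) : ρ h (ρ h⁻¹ v) = v := by
  rw [← Module.End.mul_apply, ← map_mul, mul_inv_cancel, map_one, Module.End.one_apply]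

theorem mul_apply' (ρ : Representation E H V) (g h : H) (v : V) : ρ (g * h) v = ρ g (ρ h v) := by
  rw [map_mul, Module.End.mul_apply]

/-- Schur's lemma -/
theorem Irr.scalar [IsAlgClosed E] [FiniteDimensional E V] {ρ : Representation E H V} (hρ : Irr ρ)
    (T : Module.End E V) (hT : ∀ h v, T (ρ h v) = ρ h (T v)) : ∃ c : E, ∀ v, T v = c • v := by
  have := hρ.1
  obtain ⟨c, hc⟩ := Module.End.exists_eigenvalue T
  refine ⟨c, fun v => ?_⟩
  rcases hρ.2 (T.eigenspace c) (by
    intro h w hw
    rw [Module.End.mem_eigenspace_iff] at hw ⊢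
    rw [hT, hw, map_smul]) with h | h
  · exact absurd h hc
  · have hv : v ∈ T.eigenspace c := by rw [h]; exact Submodule.mem_top
    exact Module.End.mem_eigenspace_iff.mp hv

/-- restriction of a representation to a group mapping to `H` and an invariant subspace -/
def sub (ρ : Representation E H V) {N : Type*} [Group N] (i : N →* H) (W : Submodule E V)
    (hW : ∀ n, ∀ w ∈ W, ρ (i n) w ∈ W) : Representation E N W where
  toFun n := (ρ (i n)).restrict (hW n)
  map_one' := by
    ext w
    simp
  map_mul' := by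
    intro a b
    ext w
    simp [map_mul]

@[simp] theorem sub_coe (ρ : Representation E H V) {N : Type*} [Group N] (i : N →* H)
    (W : Submodule E V) (hW : ∀ n, ∀ w ∈ W, ρ (i n) w ∈ W) (n : N) (w : W) :
    ((sub ρ i W hW n w : W) : V) = ρ (i n) w := rfl

/-- projections commuting with a finite group -/
theorem exists_proj (ρ : Representation E H V) [Finite H] (hH : (Nat.card H : E) ≠ 0)
    (W : Submodule E V) (hW : ∀ h, ∀ w ∈ W, ρ h w ∈ W) :
    ∃ T : Module.End E V, (∀ h v, T (ρ h v) = ρ h (T v)) ∧ (∀ w ∈ W, T w = w) ∧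
      ∀ v, T v ∈ W := by
  classical
  have : Fintype H := Fintype.ofFinite H
  obtain ⟨p, hp⟩ := W.exists_isCompl
  let π : V →ₗ[E] V := W.subtype ∘ₗ (Submodule.projectionOnto W p hp)
  have hπ1 : ∀ w ∈ W, π w = w := by
    intro w hw
    have := Submodule.projectionOnto_apply_left hp ⟨w, hw⟩
    change ((Submodule.projectionOnto W p hp w : W) : V) = w
    rw [this]
  have hπ2 : ∀ v, π v ∈ W := fun v => (Submodule.projectionOnto W p hp v).2
  let S : Module.End E V := ∑ h : H, ρ h * π * ρ h⁻¹
  have hS : ∀ v, S v = ∑ h : H, ρ h (π (ρ h⁻¹ v)) := by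
    intro v
    simp [S, LinearMap.sum_apply]
  refine ⟨((Nat.card H : E)⁻¹) • S, ?_, ?_, ?_⟩
  · intro g v
    rw [LinearMap.smul_apply, LinearMap.smul_apply, map_smul, hS, hS, map_sum]
    congr 1
    refine (Fintype.sum_bijective (fun x => g * x) (Group.mulLeft_bijective g) _ _ fun x => ?_).symm
    rw [mul_apply', mul_inv_rev, mul_apply', inv_apply]
  · intro w hw
    rw [LinearMap.smul_apply, hS]
    have : ∀ h ∈ (Finset.univ : Finset H), ρ h (π (ρ h⁻¹ w)) = w := by
      intro h _
      rw [hπ1 _ (hW _ _ hw), apply_inv]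
    rw [Finset.sum_congr rfl this, Finset.sum_const, Finset.card_univ, ← Nat.card_eq_fintype_card,
      ← Nat.cast_smul_eq_nsmul E, smul_smul, inv_mul_cancel₀ hH, one_smul]
  · intro v
    rw [LinearMap.smul_apply, hS]
    refine W.smul_mem _ (W.sum_mem fun h _ => hW _ _ (hπ2 _))

end Basic

section Step

variable {E : Type*} [Field E] {H V : Type*} [Group H] [AddCommGroup V] [Module E V]

/-- elements of a group with a normal subgroup of prime index -/
theorem exists_mul_pow [Finite H] (N : Subgroup H) [N.Normal] (hN : N.index.Prime) {g : H}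
    (hg : g ∉ N) (h : H) : ∃ n ∈ N, ∃ i : ℕ, h = n * g ^ i := by
  have : Fact N.index.Prime := ⟨hN⟩
  have hc : Nat.card (H ⧸ N) = N.index := rfl
  have hg1 : (g : H ⧸ N) ≠ 1 := by
    intro h
    exact hg ((QuotientGroup.eq_one_iff g).mp h)
  have h1 : ((h : H) : H ⧸ N) ∈ Subgroup.zpowers (g : H ⧸ N) :=
    mem_zpowers_of_prime_card hc hg1
  rw [← mem_powers_iff_mem_zpowers] at h1
  obtain ⟨i, hi⟩ := h1
  refine ⟨h * (g ^ i)⁻¹, ?_, i, by group⟩
  have h2 : ((h * (g ^ i)⁻¹ : H) : H ⧸ N) = 1 := by
    rw [QuotientGroup.mk_mul, QuotientGroup.mk_inv, QuotientGroup.mk_pow]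
    rw [mul_inv_eq_one]
    exact hi.symm
  exact (QuotientGroup.eq_one_iff _).mp h2

theorem pow_index_mem' (N : Subgroup H) [N.Normal] (g : H) : g ^ N.index ∈ N := by
  have h1 : ((g ^ N.index : H) : H ⧸ N) = 1 := by
    rw [QuotientGroup.mk_pow]
    exact pow_card_eq_one'
  exact (QuotientGroup.eq_one_iff _).mp h1

/-- **The Clifford step**: a normal subgroup of prime index `ℓ`. -/
theorem step [IsAlgClosed E] [Finite H] [FiniteDimensional E V] (hH : (Nat.card H : E) ≠ 0)
    (ρ : Representation E H V) (hρ : Irr ρ) (N : Subgroup H) [hNn : N.Normal] (hN : N.index.Prime) :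
    Irr (ρ.comp N.subtype) ∨
      ∃ (W : Submodule E V) (hW : ∀ n : N, ∀ w ∈ W, ρ (N.subtype n) w ∈ W),
        Irr (sub ρ N.subtype W hW) ∧ finrank E V = N.index * finrank E W := by
  classical
  have hntV := hρ.1
  have hNtop : N ≠ ⊤ := fun h => hN.ne_one (by rw [h, Subgroup.index_top])
  obtain ⟨g, hg⟩ : ∃ g, g ∉ N := by
    by_contra hcon
    push Not at hcon
    exact hNtop ((Subgroup.eq_top_iff' N).mpr hcon)
  have hNE : (Nat.card N : E) ≠ 0 := by
    intro h0
    apply hH
    obtain ⟨k, hk⟩ := Subgroup.card_subgroup_dvd_card N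
    rw [hk, Nat.cast_mul, h0, zero_mul]
  have hlE : (N.index : E) ≠ 0 := by
    intro h0
    apply hH
    rw [← N.card_mul_index, Nat.cast_mul, h0, mul_zero]
  set ℓ := N.index with hℓ
  have hgl : g ^ ℓ ∈ N := pow_index_mem' N g
  -- invariance under `N` and `g` suffices
  have hinv : ∀ W : Submodule E V, (∀ n ∈ N, ∀ w ∈ W, ρ n w ∈ W) → (∀ w ∈ W, ρ g w ∈ W) →
      W = ⊥ ∨ W = ⊤ := by
    intro W h1 h2
    apply hρ.2
    intro h w hw
    obtain ⟨n, hn, i, rfl⟩ := exists_mul_pow N hN hg h
    rw [mul_apply']
    apply h1 n hn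
    clear h1
    induction i with
    | zero => simpa using hw
    | succ i ih =>
      rw [pow_succ', mul_apply']
      exact h2 _ ih
  -- the commutant of `N`
  let C : Submodule E (Module.End E V) :=
    { carrier := {T | ∀ n ∈ N, ∀ v, T (ρ n v) = ρ n (T v)}
      add_mem' := by
        intro S T hS hT n hn v
        rw [LinearMap.add_apply, LinearMap.add_apply, hS n hn, hT n hn, map_add]
      zero_mem' := by
        intro n _ v
        simp
      smul_mem' := by
        intro c T hT n hn v
        rw [LinearMap.smul_apply, LinearMap.smul_apply, hT n hn, map_smul] }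
  have hC : ∀ T, T ∈ C ↔ ∀ n ∈ N, ∀ v, T (ρ n v) = ρ n (T v) := fun T => Iff.rfl
  have hcg : ∀ T ∈ C, ρ g * T * ρ g⁻¹ ∈ C := by
    intro T hT n hn v
    have h1 : g⁻¹ * n * g ∈ N := by
      have := hNn.conj_mem n hn g⁻¹
      rwa [inv_inv] at this
    have h2 : ρ g⁻¹ (ρ n v) = ρ (g⁻¹ * n * g) (ρ g⁻¹ v) := by
      rw [← mul_apply', ← mul_apply']
      congr 2
      group
    have h3 : ρ g (ρ (g⁻¹ * n * g) (T (ρ g⁻¹ v))) = ρ n (ρ g (T (ρ g⁻¹ v))) := by
      rw [← mul_apply', ← mul_apply']
      congr 2
      group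
    change ρ g (T (ρ g⁻¹ (ρ n v))) = ρ n (ρ g (T (ρ g⁻¹ v)))
    rw [h2, hT _ h1, h3]
  let A : C →ₗ[E] C :=
    { toFun := fun T => ⟨ρ g * T.1 * ρ g⁻¹, hcg T.1 T.2⟩
      map_add' := by
        intro S T
        apply Subtype.ext
        change ρ g * (S.1 + T.1) * ρ g⁻¹ = ρ g * S.1 * ρ g⁻¹ + ρ g * T.1 * ρ g⁻¹
        rw [mul_add, add_mul]
      map_smul' := by
        intro c T
        apply Subtype.ext
        change ρ g * (c • T.1) * ρ g⁻¹ = c • (ρ g * T.1 * ρ g⁻¹)
        rw [mul_smul_comm, smul_mul_assoc] }
  have hA : ∀ T : C, ((A T : C) : Module.End E V) = ρ g * T.1 * ρ g⁻¹ := fun T => rfl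
  have hApow : ∀ (i : ℕ) (T : C), (((A ^ i) T : C) : Module.End E V) =
      ρ (g ^ i) * T.1 * ρ (g ^ i)⁻¹ := by
    intro i
    induction i with
    | zero =>
      intro T
      simp
    | succ i ih =>
      intro T
      rw [pow_succ', Module.End.mul_apply, hA, ih, pow_succ', mul_inv_rev, map_mul, map_mul]
      simp only [mul_assoc]
  have hAl : A ^ ℓ = 1 := by
    apply LinearMap.ext
    intro T
    apply Subtype.ext
    rw [hApow, Module.End.one_apply]
    apply LinearMap.ext
    intro v
    change ρ (g ^ ℓ) (T.1 (ρ (g ^ ℓ)⁻¹ v)) = T.1 v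
    rw [← T.2 _ hgl, apply_inv]
  by_cases hA1 : A = 1
  · -- the commutant of `N` consists of scalars
    left
    refine ⟨hntV, fun W hW => ?_⟩
    obtain ⟨T, hT1, hT2, hT3⟩ := exists_proj (ρ.comp N.subtype) hNE W hW
    have hTC : T ∈ C := by
      intro n hn v
      exact hT1 ⟨n, hn⟩ v
    have hTg : ∀ v, T (ρ g v) = ρ g (T v) := by
      intro v
      have h1 : A ⟨T, hTC⟩ = ⟨T, hTC⟩ := by rw [hA1]; rfl
      have h2 := congrArg Subtype.val h1
      rw [hA] at h2
      have h3 := LinearMap.congr_fun h2 (ρ g v)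
      change ρ g (T (ρ g⁻¹ (ρ g v))) = T (ρ g v) at h3
      rw [inv_apply] at h3
      exact h3.symm
    obtain ⟨c, hc⟩ := hρ.scalar T (by
      intro h v
      obtain ⟨n, hn, i, rfl⟩ := exists_mul_pow N hN hg h
      rw [mul_apply', hTC n hn, mul_apply']
      congr 1
      clear hn
      induction i with
      | zero => simp
      | succ i ih => rw [pow_succ', mul_apply', hTg, ih, mul_apply'])
    by_cases hW0 : W = ⊥
    · exact Or.inl hW0
    · right
      obtain ⟨w, hw, hw0⟩ := (Submodule.ne_bot_iff W).mp hW0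
      have h1 : c • w = w := by rw [← hc, hT2 w hw]
      have h2 : c = 1 := by
        have h3 : (c - 1) • w = 0 := by rw [sub_smul, h1, one_smul, sub_self]
        rcases smul_eq_zero.mp h3 with h | h
        · exact sub_eq_zero.mp h
        · exact absurd h hw0
      rw [eq_top_iff]
      intro v _
      have h3 := hT3 v
      rwa [hc, h2, one_smul] at h3
  · right
    -- an eigenvector of `A` with eigenvalue `≠ 1`
    obtain ⟨ω, T, hT0, hAT, hω1⟩ : ∃ (ω : E) (T : C), T ≠ 0 ∧ A T = ω • T ∧ ω ≠ 1 := by
      let B : C →ₗ[E] C := A - 1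
      have hB : B ≠ 0 := fun h => hA1 (sub_eq_zero.mp h)
      have hBr : LinearMap.range B ≠ ⊥ := fun h => hB (LinearMap.range_eq_bot.mp h)
      have hcommAB : ∀ T, A (B T) = B (A T) := by
        intro T
        simp [B]
      have hAr : ∀ T ∈ LinearMap.range B, A T ∈ LinearMap.range B := by
        rintro _ ⟨S, rfl⟩
        exact ⟨A S, (hcommAB S).symm⟩
      have : Nontrivial (LinearMap.range B) := Submodule.nontrivial_iff_ne_bot.mpr hBr
      obtain ⟨ω, hω⟩ := Module.End.exists_eigenvalue (K := E) (V := LinearMap.range B)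
        (A.restrict hAr)
      obtain ⟨T', hT'⟩ := hω.exists_hasEigenvector
      have hT'0 : (T' : C) ≠ 0 := fun h => hT'.2 (Subtype.ext h)
      have hAT' : A (T' : C) = ω • (T' : C) := congrArg Subtype.val hT'.apply_eq_smul
      refine ⟨ω, T', hT'0, hAT', ?_⟩
      rintro rfl
      rw [one_smul] at hAT'
      obtain ⟨S, hS⟩ := T'.2
      have hAS : A S = S + (T' : C) := by
        rw [← hS]
        simp [B]
      have hpow : ∀ i : ℕ, (A ^ i) S = S + (i : E) • (T' : C) := by
        intro i
        induction i with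
        | zero => simp
        | succ i ih =>
          rw [pow_succ', Module.End.mul_apply, ih, map_add, map_smul, hAT', hAS, Nat.cast_succ,
            add_smul, one_smul]
          abel
      have h1 := hpow ℓ
      rw [hAl, Module.End.one_apply] at h1
      have h2 : (ℓ : E) • (T' : C) = 0 := by
        have := h1.symm
        rwa [add_eq_left] at this
      rcases smul_eq_zero.mp h2 with h | h
      · exact hlE h
      · exact hT'0 h
    have hTN : ∀ n ∈ N, ∀ v, T.1 (ρ n v) = ρ n (T.1 v) := T.2
    have hTg : ∀ v, ρ g (T.1 v) = ω • T.1 (ρ g v) := by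
      intro v
      have h1 := congrArg Subtype.val hAT
      rw [hA] at h1
      have h2 := LinearMap.congr_fun h1 (ρ g v)
      change ρ g (T.1 (ρ g⁻¹ (ρ g v))) = ω • T.1 (ρ g v) at h2
      rwa [inv_apply] at h2
    have hωl : ω ^ ℓ = 1 := by
      have h1 : ∀ i : ℕ, (A ^ i) T = ω ^ i • T := by
        intro i
        induction i with
        | zero => simp
        | succ i ih =>
          rw [pow_succ', Module.End.mul_apply, ih, map_smul, hAT, smul_smul, pow_succ]
      have h2 := h1 ℓ
      rw [hAl, Module.End.one_apply] at h2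
      have h3 : (ω ^ ℓ - 1) • T.1 = 0 := by
        have h4 : T.1 = ω ^ ℓ • T.1 := congrArg Subtype.val h2
        rw [sub_smul, ← h4, one_smul, sub_self]
      rcases smul_eq_zero.mp h3 with h | h
      · exact sub_eq_zero.mp h
      · exact absurd (Subtype.ext h) hT0
    have hω0 : ω ≠ 0 := by
      rintro rfl
      rw [zero_pow hN.ne_zero] at hωl
      exact zero_ne_one hωl
    have hord : orderOf ω = ℓ := by
      have : Fact ℓ.Prime := ⟨hN⟩
      exact orderOf_eq_prime hωl hω1
    have hTinj : LinearMap.ker T.1 = ⊥ := by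
      rcases hinv (LinearMap.ker T.1) (by
          intro n hn w hw
          rw [LinearMap.mem_ker] at hw ⊢
          rw [hTN n hn, hw, map_zero]) (by
          intro w hw
          rw [LinearMap.mem_ker] at hw ⊢
          have h1 := hTg w
          rw [hw, map_zero] at h1
          exact (smul_eq_zero.mp h1.symm).resolve_left hω0) with h | h
      · exact h
      · exfalso
        apply hT0
        apply Subtype.ext
        exact LinearMap.ker_eq_top.mp h
    obtain ⟨μ, hμ⟩ := Module.End.exists_eigenvalue T.1
    have hμ0 : μ ≠ 0 := by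
      rintro rfl
      obtain ⟨v, hv⟩ := hμ.exists_hasEigenvector
      have h1 := hv.apply_eq_smul
      rw [zero_smul] at h1
      have h2 : v ∈ LinearMap.ker T.1 := h1
      rw [hTinj, Submodule.mem_bot] at h2
      exact hv.2 h2
    -- eigenspaces
    let c : ℕ → E := fun i => (ω⁻¹) ^ i * μ
    have hTgi : ∀ (i : ℕ) (v : V), T.1 v = μ • v → T.1 (ρ (g ^ i) v) = c i • ρ (g ^ i) v := by
      intro i v hv
      induction i with
      | zero => simp [c, hv]
      | succ i ih =>
        have h1 : T.1 (ρ g (ρ (g ^ i) v)) = ω⁻¹ • ρ g (T.1 (ρ (g ^ i) v)) := by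
          rw [hTg, smul_smul, inv_mul_cancel₀ hω0, one_smul]
        rw [pow_succ', mul_apply', h1, ih, map_smul, smul_smul]
        congr 1
        simp only [c]
        rw [pow_succ']
        ring
    let U : Submodule E V := T.1.eigenspace μ
    have hU : ∀ v, v ∈ U ↔ T.1 v = μ • v := fun v => Module.End.mem_eigenspace_iff
    have hUN : ∀ n ∈ N, ∀ u ∈ U, ρ n u ∈ U := by
      intro n hn u hu
      rw [hU] at hu ⊢
      rw [hTN n hn, hu, map_smul]
    have hcinj : ∀ i j : Fin ℓ, c i = c j → i = j := by
      intro i j hij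
      have h1 : (ω⁻¹) ^ (i : ℕ) = (ω⁻¹) ^ (j : ℕ) := mul_right_cancel₀ hμ0 hij
      rw [inv_pow, inv_pow, inv_inj] at h1
      apply Fin.ext
      exact (pow_injOn_Iio_orderOf (x := ω)) (by rw [Set.mem_Iio, hord]; exact i.2)
        (by rw [Set.mem_Iio, hord]; exact j.2) h1
    let Φ : (Fin ℓ → U) →ₗ[E] V :=
      { toFun := fun u => ∑ i : Fin ℓ, ρ (g ^ (i : ℕ)) (u i)
        map_add' := by
          intro u v
          simp only [Pi.add_apply, Submodule.coe_add, map_add, Finset.sum_add_distrib]
        map_smul' := by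
          intro a u
          simp only [Pi.smul_apply, Submodule.coe_smul, map_smul, RingHom.id_apply,
            Finset.smul_sum] }
    have hΦ : ∀ u, Φ u = ∑ i : Fin ℓ, ρ (g ^ (i : ℕ)) (u i) := fun u => rfl
    have hΦinj : Function.Injective Φ := by
      rw [← LinearMap.ker_eq_bot, LinearMap.ker_eq_bot']
      intro u hu
      rw [hΦ] at hu
      have hind : iSupIndep (fun i : Fin ℓ => T.1.eigenspace (c i)) :=
        (Module.End.eigenspaces_iSupIndep T.1).comp (f := fun i : Fin ℓ => c i)
          (fun i j h => hcinj i j h)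
      rw [iSupIndep_iff_finsetSum_eq_zero_imp_eq_zero] at hind
      have h1 := hind Finset.univ (fun i => ρ (g ^ (i : ℕ)) (u i)) (fun i _ => by
        rw [Module.End.mem_eigenspace_iff]
        exact hTgi i _ ((hU _).mp (u i).2)) hu
      funext i
      apply Subtype.ext
      have h2 := h1 i (Finset.mem_univ i)
      have h3 := congrArg (ρ (g ^ (i : ℕ))⁻¹) h2
      rw [inv_apply, map_zero] at h3
      exact h3
    -- the span of the translates of an `N`-submodule of `U` is invariant
    have hspan : ∀ S : Submodule E V, S ≤ U → (∀ n ∈ N, ∀ s ∈ S, ρ n s ∈ S) → S ≠ ⊥ →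
        ∀ v : V, ∃ u : Fin ℓ → U, (∀ i, (u i : V) ∈ S) ∧ Φ u = v := by
      intro S hSU hSN hS0
      let M : Submodule E V :=
        { carrier := {v | ∃ u : Fin ℓ → U, (∀ i, (u i : V) ∈ S) ∧ Φ u = v}
          add_mem' := by
            rintro _ _ ⟨u, hu, rfl⟩ ⟨w, hw, rfl⟩
            refine ⟨u + w, fun i => ?_, map_add _ _ _⟩
            exact S.add_mem (hu i) (hw i)
          zero_mem' := ⟨0, fun i => S.zero_mem, map_zero _⟩
          smul_mem' := by
            rintro a _ ⟨u, hu, rfl⟩
            refine ⟨a • u, fun i => ?_, map_smul _ _ _⟩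
            exact S.smul_mem _ (hu i) }
      have hMi : ∀ (i : Fin ℓ) (s : V), s ∈ S → ρ (g ^ (i : ℕ)) s ∈ M := by
        intro i s hs
        refine ⟨Pi.single i ⟨s, hSU hs⟩, fun j => ?_, ?_⟩
        · by_cases hij : j = i
          · subst hij
            rw [Pi.single_eq_same]
            exact hs
          · rw [Pi.single_eq_of_ne hij]
            exact S.zero_mem
        · rw [hΦ, Finset.sum_eq_single i]
          · rw [Pi.single_eq_same]
          · intro j _ hj
            rw [Pi.single_eq_of_ne hj]
            simp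
          · intro hi
            exact absurd (Finset.mem_univ i) hi
      rcases hinv M (by
          rintro n hn _ ⟨u, hu, rfl⟩
          rw [hΦ, map_sum]
          refine M.sum_mem fun i _ => ?_
          have h1 : ρ n (ρ (g ^ (i : ℕ)) (u i)) =
              ρ (g ^ (i : ℕ)) (ρ ((g ^ (i : ℕ))⁻¹ * n * (g ^ (i : ℕ))) (u i)) := by
            rw [← mul_apply', ← mul_apply']
            congr 2
            group
          rw [h1]
          apply hMi
          apply hSN _ _ _ (hu i)
          have := hNn.conj_mem n hn (g ^ (i : ℕ))⁻¹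
          rwa [inv_inv] at this) (by
          rintro _ ⟨u, hu, rfl⟩
          rw [hΦ, map_sum]
          refine M.sum_mem fun i _ => ?_
          rw [← mul_apply', ← pow_succ']
          by_cases hi : (i : ℕ) + 1 < ℓ
          · exact hMi ⟨(i : ℕ) + 1, hi⟩ _ (hu i)
          · have hi' : (i : ℕ) + 1 = ℓ := le_antisymm i.2 (not_lt.mp hi)
            rw [hi']
            have h0 := hMi ⟨0, hN.pos⟩ (ρ (g ^ ℓ) (u i)) (hSN _ hgl _ (hu i))
            rw [show ((⟨0, hN.pos⟩ : Fin ℓ) : ℕ) = 0 from rfl, pow_zero, map_one,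
              Module.End.one_apply] at h0
            exact h0) with h | h
      · exfalso
        apply hS0
        rw [eq_bot_iff]
        intro s hs
        have h0 := hMi ⟨0, hN.pos⟩ s hs
        rw [show ((⟨0, hN.pos⟩ : Fin ℓ) : ℕ) = 0 from rfl, pow_zero, map_one,
              Module.End.one_apply, h] at h0
        exact h0
      · intro v
        have hv : v ∈ M := by rw [h]; exact Submodule.mem_top
        exact hv
    have hU0 : U ≠ ⊥ := hμ
    have hΦsurj : Function.Surjective Φ := by
      intro v
      obtain ⟨u, -, hu⟩ := hspan U le_rfl hUN hU0 v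
      exact ⟨u, hu⟩
    refine ⟨U, fun n w hw => hUN n n.2 w hw, ⟨Submodule.nontrivial_iff_ne_bot.mpr hU0, ?_⟩, ?_⟩
    · intro S hS
      by_cases hS0 : S = ⊥
      · exact Or.inl hS0
      · right
        rw [eq_top_iff]
        intro x _
        let S' : Submodule E V := S.map U.subtype
        have hS'U : S' ≤ U := by
          rintro _ ⟨y, _, rfl⟩
          exact y.2
        obtain ⟨u, hu, hux⟩ := hspan S' hS'U (by
            rintro n hn _ ⟨y, hy, rfl⟩
            exact ⟨sub ρ N.subtype U (fun n w hw => hUN n n.2 w hw) ⟨n, hn⟩ y,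
              hS ⟨n, hn⟩ y hy, rfl⟩) (by
            intro h
            apply hS0
            rw [eq_bot_iff]
            intro y hy
            have h1 : (y : V) ∈ S' := ⟨y, hy, rfl⟩
            rw [h, Submodule.mem_bot] at h1
            exact (Submodule.mem_bot E).mpr (Subtype.ext h1)) (x : V)
        have h1 : Φ (Pi.single ⟨0, hN.pos⟩ x) = x := by
          rw [hΦ, Finset.sum_eq_single ⟨0, hN.pos⟩]
          · rw [Pi.single_eq_same]
            simp
          · intro j _ hj
            rw [Pi.single_eq_of_ne hj]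
            simp
          · intro hi
            exact absurd (Finset.mem_univ _) hi
        have h2 := hΦinj (hux.trans h1.symm)
        have h3 := hu ⟨0, hN.pos⟩
        rw [h2, Pi.single_eq_same] at h3
        obtain ⟨y, hy, hyx⟩ := h3
        have : y = x := Subtype.ext hyx
        rwa [← this]
    · have h1 := (LinearEquiv.ofBijective Φ ⟨hΦinj, hΦsurj⟩).finrank_eq
      rw [← h1, Module.finrank_pi_fintype, Finset.sum_const, Finset.card_univ, Fintype.card_fin,
        smul_eq_mul]

end Step

/-- **Prime divisors of degrees of a solvable group divide the group order.** -/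
theorem prime_dvd_of_irr_aux {E : Type*} [Field E] [IsAlgClosed E] {r : ℕ} (hr : r.Prime) (n : ℕ) :
    ∀ {H : Type*} [Group H] [Finite H] {V : Type*} [AddCommGroup V] [Module E V]
      [FiniteDimensional E V] (ρ : Representation E H V), Nat.card H ≤ n → Group.IsSolvable H →
      (Nat.card H : E) ≠ 0 → Irr ρ → r ∣ finrank E V → r ∣ Nat.card H := by
  induction n with
  | zero =>
    intro H _ _ V _ _ _ ρ hn
    have : 0 < Nat.card H := Nat.card_pos
    omega
  | succ n ih =>
    intro H _ _ V _ _ _ ρ hn hsol hH hρ hd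
    rcases subsingleton_or_nontrivial H with hsub | hnt
    · -- the trivial group
      exfalso
      have hntV := hρ.1
      obtain ⟨v, hv⟩ := exists_ne (0 : V)
      have h1 : finrank E V = 1 := by
        rcases hρ.2 (Submodule.span E {v}) (by
          intro h w hw
          rw [Subsingleton.elim h 1, map_one, Module.End.one_apply]
          exact hw) with h | h
        · rw [Submodule.span_singleton_eq_bot] at h
          exact absurd h hv
        · rw [← finrank_top, ← h]
          exact finrank_span_singleton hv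
      rw [h1] at hd
      exact hr.one_lt.ne' (Nat.dvd_one.mp hd)
    · have hsolQ : Group.IsSolvable (H ⧸ (⊥ : Subgroup H)) := inferInstance
      obtain ⟨N, hNn, -, hNp⟩ := Solvable.SchurZassenhausConj.exists_normal_prime_index
        (⊥ : Subgroup H) bot_ne_top hsolQ
      have hcard : Nat.card N * N.index = Nat.card H := N.card_mul_index
      have hNle : Nat.card N ≤ n := by
        have h0 : 0 < Nat.card N := Nat.card_pos
        have h1 := hNp.one_lt
        nlinarith
      have hNE : (Nat.card N : E) ≠ 0 := by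
        intro h0
        apply hH
        rw [← hcard, Nat.cast_mul, h0, zero_mul]
      have hsolN : Group.IsSolvable N := inferInstance
      rcases step hH ρ hρ N hNp with h | ⟨W, hW, hirr, hfin⟩
      · have := ih (ρ.comp N.subtype) hNle hsolN hNE h hd
        exact this.trans (Subgroup.card_subgroup_dvd_card N)
      · rw [hfin] at hd
        rcases (Nat.Prime.dvd_mul hr).mp hd with h | h
        · rw [← hcard]
          exact h.trans (dvd_mul_left _ _)
        · have := ih (sub ρ N.subtype W hW) hNle hsolN hNE hirr h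
          exact this.trans (Subgroup.card_subgroup_dvd_card N)

/-- **Prime divisors of degrees of a solvable group divide the group order.** -/
theorem prime_dvd_of_irr {E : Type*} [Field E] [IsAlgClosed E] {r : ℕ} (hr : r.Prime)
    {H : Type*} [Group H] [Finite H] {V : Type*} [AddCommGroup V] [Module E V]
    [FiniteDimensional E V] (ρ : Representation E H V) (hsol : Group.IsSolvable H)
    (hH : (Nat.card H : E) ≠ 0) (hρ : Irr ρ) (hd : r ∣ finrank E V) : r ∣ Nat.card H :=
  prime_dvd_of_irr_aux hr _ ρ le_rfl hsol hH hρ hd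

end Cfsg.Agent.H575.Dim
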