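import Cfsg.Agent.H575.GLev

/-!
# Averaging over a normal subgroup of coprime order
-/

set_option autoImplicit false
set_option linter.unusedSectionVars false
set_option linter.unusedVariables false

namespace Cfsg.Agent.H575.Avg

open Subgroup Cfsg.Agent.H575.Sect Cfsg.Agent.H575.Tower Cfsg.Agent.H575.BC
  Cfsg.Agent.H575.Model Cfsg.Agent.H575.GLev
open scoped commutatorElement

universe u

/-- `[C_M(B), A]` -/
def brc {M : Type*} [CommGroup M] (A B : Subgroup (MulAut M)) : Subgroup M :=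
  Subgroup.closure {w | ∃ a ∈ A, ∃ u : M, (∀ c ∈ B, c u = u) ∧ w = a u * u⁻¹}

theorem avg_split {M : Type*} [CommGroup M] [Finite M] {p : ℕ} [hp : Fact p.Prime]
    (hM : ∀ m : M, m ^ p = 1) {A B R : Subgroup (MulAut M)} (hB : ¬ p ∣ Nat.card B)
    {x : MulAut M} (hxB : x ∈ normalizer (B : Set (MulAut M)))
    (hAB : A ≤ normalizer (B : Set (MulAut M))) (hRB : R ≤ normalizer (B : Set (MulAut M)))
    {m : M} (hm : m ∈ brm A) (hmR : ∀ a ∈ R, a m = m) (hxm : x m ≠ m)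
    (hcase : ∀ w ∈ brm B, (∀ a ∈ R, a w = w) → x w = w) :
    ∃ m' ∈ brc A B, (∀ a ∈ R, a m' = m') ∧ x m' ≠ m' := by
  classical
  have : Fintype B := Fintype.ofFinite B
  let N : M →* M :=
    { toFun := fun m => ∏ c : B, (c : MulAut M) m
      map_one' := Finset.prod_eq_one fun c _ => map_one _
      map_mul' := fun a b => by
        rw [← Finset.prod_mul_distrib]
        exact Finset.prod_congr rfl fun c _ => map_mul _ _ _ }
  have hN : ∀ m, N m = ∏ c : B, (c : MulAut M) m := fun m => rfl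
  have hNfix : ∀ m, ∀ c ∈ B, c (N m) = N m := by
    intro m c hc
    rw [hN, map_prod]
    refine Fintype.prod_bijective (fun y => ⟨c, hc⟩ * y) (Group.mulLeft_bijective _) _ _
      fun y => rfl
  have hNcomm : ∀ g ∈ normalizer (B : Set (MulAut M)), ∀ m, g (N m) = N (g m) := by
    intro g hg m
    rw [hN, hN, map_prod]
    have hconj : ∀ c : B, g * c * g⁻¹ ∈ B := fun c =>
      (Subgroup.mem_normalizer_iff.mp hg c).mp c.2
    refine Fintype.prod_bijective (fun c : B => (⟨g * c * g⁻¹, hconj c⟩ : B)) ?_ _ _ fun c => ?_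
    · refine (Finite.injective_iff_bijective).mp fun a b hab => ?_
      have h1 : g * a * g⁻¹ = g * b * g⁻¹ := congrArg Subtype.val hab
      exact Subtype.ext (mul_left_cancel (mul_right_cancel h1))
    · show g ((c : MulAut M) m) = (g * c * g⁻¹) (g m)
      rw [MulAut.mul_apply, MulAut.mul_apply, MulAut.inv_apply_self]
  -- the decomposition of `m ^ k`
  let w : M := ∏ c : B, (m * ((c : MulAut M) m)⁻¹)
  have hw : w ∈ brm B := by
    refine Subgroup.prod_mem _ fun c _ => ?_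
    have h1 : m * ((c : MulAut M) m)⁻¹ = ((c : MulAut M) m * m⁻¹)⁻¹ := by
      rw [mul_inv_rev, inv_inv]
    rw [h1]
    exact Subgroup.inv_mem _ (Subgroup.subset_closure ⟨c, c.2, m, rfl⟩)
  have hdec : m ^ Fintype.card B = N m * w := by
    rw [hN, ← Finset.prod_mul_distrib, ← Finset.card_univ, ← Finset.prod_const]
    refine Finset.prod_congr rfl fun c _ => ?_
    rw [mul_left_comm, mul_inv_cancel, mul_one]
  have hNR : ∀ a ∈ R, a (N m) = N m := by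
    intro a ha
    rw [hNcomm a (hRB ha), hmR a ha]
  have hwR : ∀ a ∈ R, a w = w := by
    intro a ha
    have h1 : w = (N m)⁻¹ * m ^ Fintype.card B := by rw [hdec, inv_mul_cancel_left]
    rw [h1, map_mul, map_inv, hNR a ha, map_pow, hmR a ha]
  refine ⟨N m, ?_, hNR, ?_⟩
  · have hle : brm A ≤ (brc A B).comap N := by
      rw [brm, closure_le]
      rintro _ ⟨b, hb, u, rfl⟩
      rw [SetLike.mem_coe, Subgroup.mem_comap, map_mul, map_inv, ← hNcomm b (hAB hb)]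
      exact Subgroup.subset_closure ⟨b, hb, N u, hNfix u, rfl⟩
    exact hle hm
  · intro h1
    apply hxm
    have h2 : x (m ^ Fintype.card B) = m ^ Fintype.card B := by
      rw [hdec, map_mul, h1, hcase w hw hwR]
    rw [map_pow] at h2
    have hcop : (Fintype.card B).Coprime p := by
      rw [← Nat.card_eq_fintype_card]
      exact ((Nat.Prime.coprime_iff_not_dvd hp.out).mpr hB).symm
    have h3 : (x m * m⁻¹) ^ Fintype.card B = 1 := by
      rw [mul_pow, h2, inv_pow, mul_inv_cancel]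
    have h4 : (x m * m⁻¹) = 1 := by
      have h5 := hM (x m * m⁻¹)
      have h6 : orderOf (x m * m⁻¹) ∣ 1 := by
        rw [← hcop]
        exact Nat.dvd_gcd (orderOf_dvd_of_pow_eq_one h3) (orderOf_dvd_of_pow_eq_one h5)
      exact orderOf_eq_one_iff.mp (Nat.dvd_one.mp h6)
    exact mul_inv_eq_one.mp h4

variable {Γ : Type u} [Group Γ]
variable {L ZL : Subgroup Γ} {p : ℕ} {M : Type u} [CommGroup M] {f : L →* M}
  {θ : nn L ZL →* MulAut M}

theorem brm_of (h : Mod L ZL p f θ) {B : Subgroup Γ} (hB : B ≤ nn L ZL) {g : Γ}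
    (hg : g ∈ ⁅L, B⁆) (hgL : g ∈ L) : f ⟨g, hgL⟩ ∈ brm (im θ B) := by
  have hle : ⁅L, B⁆ ≤ ((brm (im θ B)).comap f).map L.subtype := by
    rw [commutator_le]
    intro l hl b hb
    have hb' : b * l⁻¹ * b⁻¹ ∈ L := mem_norm_L (hB hb) (L.inv_mem hl)
    refine ⟨⟨l, hl⟩ * ⟨b * l⁻¹ * b⁻¹, hb'⟩, ?_, ?_⟩
    · rw [SetLike.mem_coe, Subgroup.mem_comap, map_mul,
        ← h.eq ⟨b, hB hb⟩ ⟨l⁻¹, L.inv_mem hl⟩ ⟨b * l⁻¹ * b⁻¹, hb'⟩ rfl, _root_.mul_comm]
      refine Subgroup.subset_closure ⟨θ ⟨b, hB hb⟩, mem_im_of (g := ⟨b, hB hb⟩) hb,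
        f ⟨l⁻¹, L.inv_mem hl⟩, ?_⟩
      congr 1
      have h1 : (⟨l⁻¹, L.inv_mem hl⟩ : L) = (⟨l, hl⟩ : L)⁻¹ := rfl
      rw [h1, map_inv, inv_inv]
    · show l * (b * l⁻¹ * b⁻¹) = ⁅l, b⁆
      rw [commutatorElement_def]
      group
  obtain ⟨y, hy, hyg⟩ := hle hg
  have h1 : y = ⟨g, hgL⟩ := Subtype.ext hyg
  rw [← h1]
  exact hy

theorem im_sup_eq (h : Mod L ZL p f θ) {A K : Subgroup Γ} (hA : A ≤ nn L ZL)
    (hK : K ≤ nn L ZL) (hKL : ∀ x ∈ K, ∀ l ∈ L, ⁅x, l⁆ ∈ ZL) : im θ (A ⊔ K) = im θ A := by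
  rw [im, im, Subgroup.subgroupOf_sup hA hK, Subgroup.map_sup, sup_eq_left]
  rintro _ ⟨x, hx, rfl⟩
  have h1 : θ x = 1 := h.eq_one_iff.mpr (hKL x hx)
  rw [h1]
  exact Subgroup.one_mem _

/-- elements of `[C_M(B), A]` come from `[L*, A]` -/
theorem brc_lift (h : Mod L ZL p f θ) {A B Ls : Subgroup Γ} (hBS : B ≤ nn L ZL)
    (hLs : ∀ l ∈ L, (∀ b ∈ B, ⁅b, l⁆ ∈ ZL) → l ∈ Ls) {m : M}
    (hm : m ∈ brc (im θ A) (im θ B)) : ∃ l : L, (l : Γ) ∈ ⁅Ls, A⁆ ∧ f l = m := by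
  have hle : brc (im θ A) (im θ B) ≤ ((⁅Ls, A⁆ : Subgroup Γ).subgroupOf L).map f := by
    rw [brc, closure_le]
    rintro _ ⟨_, ⟨b, hb, rfl⟩, u, hu, rfl⟩
    obtain ⟨l, rfl⟩ := h.surj u
    have h1 := h.eq b l ⟨b * l * (b : Γ)⁻¹, mem_norm_L b.2 l.2⟩ rfl
    rw [h1]
    have hl : (l : Γ) ∈ Ls := by
      refine hLs l l.2 fun c hc => ?_
      have h2 := hu _ (mem_im_of (g := ⟨c, hBS hc⟩) hc)
      rwa [h.fix_iff] at h2
    refine ⟨⟨b * l * (b : Γ)⁻¹, mem_norm_L b.2 l.2⟩ * l⁻¹, ?_, by rw [map_mul, map_inv]⟩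
    show (b : Γ) * l * (b : Γ)⁻¹ * (l : Γ)⁻¹ ∈ ⁅Ls, A⁆
    rw [← commutatorElement_def, commutator_comm]
    exact commutator_mem_commutator hb hl
  obtain ⟨l, hl, rfl⟩ := hle hm
  exact ⟨l, hl, rfl⟩

end Cfsg.Agent.H575.Avg
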