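import Cfsg.Agent.H575.ModMain
import Cfsg.Agent.OddOrderLocal.FrobAct

/-!
# The module lemma over arbitrary fields and for elementary abelian groups

`rep_main`: the main lemma of `ModMain` over an arbitrary field of characteristic prime to
everything; `group_lemma`: the version for an elementary abelian normal subgroup.
-/

set_option autoImplicit false
set_option linter.unusedSectionVars false

namespace Cfsg.Agent.H575.GroupM

open Module TensorProduct Cfsg.Agent.H575.Dim Cfsg.Agent.H575.Weights Cfsg.Agent.H575.ModM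

section Rep

variable {k : Type*} [Field k] {G V : Type*} [Group G] [Finite G]
  [AddCommGroup V] [Module k V] [FiniteDimensional k V]

theorem rep_main {p s : ℕ} [hp : Fact p.Prime] [hs : Fact s.Prime] (hps : p ≠ s)
    (ρ : Representation k G V) {P F R : Subgroup G} (hR : (Nat.card R).Prime)
    (hRp : Nat.card R ≠ p) (hRs : Nat.card R ≠ s) (hpk : (p : k) ≠ 0) (hsk : (s : k) ≠ 0)
    (hRk : (Nat.card R : k) ≠ 0)
    (hP : IsPGroup p P) (hF : IsPGroup s F)
    (hRP : R ≤ Subgroup.normalizer (P : Set G)) (hRF : R ≤ Subgroup.normalizer (F : Set G))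
    (hFP : F ≤ Subgroup.normalizer (P : Set G))
    (hCR : Nat.card ↥(F ⊓ Subgroup.centralizer (R : Set G)) ∣ s)
    (hCP : ∀ y ∈ P, (∀ f ∈ F, f * y = y * f) → ∀ v, ρ y v = v)
    (hCV : ∀ v, (∀ f ∈ F, ρ f v = v) → v = 0) {x : G} (hx : x ∈ P)
    (hxR : x ∈ Subgroup.centralizer (R : Set G))
    (hxC : ∀ v, (∀ r ∈ R, ρ r v = v) → ρ x v = v) : ∀ v, ρ x v = v := by
  classical
  let E := AlgebraicClosure k
  let W := TensorProduct k E V
  have hcast : ∀ n : ℕ, (n : k) ≠ 0 → (n : E) ≠ 0 := by
    intro n hn h0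
    apply hn
    have : algebraMap k E (n : k) = 0 := by
      rw [map_natCast]
      exact h0
    exact (map_eq_zero _).mp this
  let π : Representation E G W :=
    { toFun := fun g => (ρ g).baseChange E
      map_one' := by
        rw [map_one]
        exact LinearMap.baseChange_id
      map_mul' := by
        intro a b
        rw [map_mul]
        exact LinearMap.baseChange_comp _ _ }
  have hπ : ∀ g, π g = (ρ g).baseChange E := fun g => rfl
  have hsumE : ∀ (H : Subgroup G) [Fintype H] (w : W), ∑ h : H, π h w =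
      (∑ h : H, ρ h).baseChange E w := by
    intro H _ w
    have : ∑ h : H, π h = (∑ h : H, ρ h).baseChange E := by
      simp only [hπ]
      exact (map_sum (LinearMap.baseChangeHom k E V V) _ _).symm
    rw [← this, LinearMap.sum_apply]
  have hsumfix : ∀ (H : Subgroup G) [Fintype H] (v : V), ∀ g ∈ H,
      ρ g ((∑ h : H, ρ h) v) = (∑ h : H, ρ h) v := by
    intro H _ v g hg
    rw [LinearMap.sum_apply, map_sum]
    refine Fintype.sum_bijective (fun y => ⟨g, hg⟩ * y) (Group.mulLeft_bijective _) _ _ fun y => ?_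
    rw [← mul_apply']
    rfl
  have hfixsum : ∀ (H : Subgroup G) [Fintype H] (w : W), (∀ h ∈ H, π h w = w) →
      ∑ h : H, π h w = (Nat.card H : E) • w := by
    intro H _ w hw
    rw [Nat.card_eq_fintype_card, Nat.cast_smul_eq_nsmul, ← Finset.card_univ, ← Finset.sum_const]
    exact Finset.sum_congr rfl fun h _ => hw h h.2
  obtain ⟨ks, hks⟩ := hF.exists_card_eq
  have hFE : (Nat.card F : E) ≠ 0 := by
    rw [hks, Nat.cast_pow]; exact pow_ne_zero _ (hcast s hsk)
  have : Fintype F := Fintype.ofFinite F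
  have : Fintype R := Fintype.ofFinite R
  have hmain := main_aux (E := E) hps π hR hRp hRs (hcast p hpk) (hcast s hsk) _ P F ⊤ le_rfl hP hF
    (fun _ _ _ _ => Submodule.mem_top) (fun _ _ _ _ => Submodule.mem_top)
    (fun _ _ _ _ => Submodule.mem_top) hRP hRF hFP hCR
    (by
      intro y hy hyF w _
      have h1 : ρ y = LinearMap.id := LinearMap.ext fun v => hCP y hy hyF v
      rw [hπ, h1, LinearMap.baseChange_id, LinearMap.id_apply])
    (by
      intro w _ hw
      have h1 := hfixsum F w hw
      have h2 : (∑ h : F, ρ h) = 0 := by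
        apply LinearMap.ext
        intro v
        rw [LinearMap.zero_apply]
        apply hCV
        exact hsumfix F v
      rw [hsumE F w, h2, LinearMap.baseChange_zero, LinearMap.zero_apply] at h1
      exact (smul_eq_zero.mp h1.symm).resolve_left hFE) x hx hxR
    (by
      intro w _ hw
      have h1 := hfixsum R w hw
      have h2 : (ρ x) ∘ₗ (∑ h : R, ρ h) = ∑ h : R, ρ h := by
        apply LinearMap.ext
        intro v
        rw [LinearMap.comp_apply]
        exact hxC _ (hsumfix R v)
      have h3 : π x (∑ h : R, π h w) = ∑ h : R, π h w := by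
        rw [hsumE R w, hπ, ← LinearMap.comp_apply, ← LinearMap.baseChange_comp, h2]
      rw [h1, map_smul] at h3
      have h4 := congrArg (fun u => (Nat.card R : E)⁻¹ • u) h3
      simp only [smul_smul] at h4
      rwa [inv_mul_cancel₀ (hcast _ hRk), one_smul, one_smul] at h4)
  intro v
  have h1 := hmain (1 ⊗ₜ[k] v) Submodule.mem_top
  rw [hπ, LinearMap.baseChange_tmul] at h1
  have hinj : Function.Injective (fun v : V => (1 : E) ⊗ₜ[k] v) :=
    Module.FaithfullyFlat.tensorProduct_mk_injective (A := k) (B := E) V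
  exact hinj h1

end Rep

/-- **Group version.** -/
theorem group_lemma {G : Type*} [Group G] [Finite G] {p q s : ℕ} [hp : Fact p.Prime]
    [hq : Fact q.Prime] [hs : Fact s.Prime] (hpq : p ≠ q) (hps : p ≠ s) (hsq : s ≠ q)
    {P F R N : Subgroup G} [N.Normal] (hNc : ∀ x ∈ N, ∀ y ∈ N, x * y = y * x)
    (hNq : ∀ x ∈ N, x ^ q = 1) (hP : IsPGroup p P) (hF : IsPGroup s F) (hR : (Nat.card R).Prime)
    (hRp : Nat.card R ≠ p) (hRs : Nat.card R ≠ s) (hRq : Nat.card R ≠ q)
    (hRP : R ≤ Subgroup.normalizer (P : Set G)) (hRF : R ≤ Subgroup.normalizer (F : Set G))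
    (hFP : F ≤ Subgroup.normalizer (P : Set G))
    (hCR : Nat.card ↥(F ⊓ Subgroup.centralizer (R : Set G)) ∣ s)
    (hCP : P ⊓ Subgroup.centralizer (F : Set G) = ⊥)
    (hCN : N ⊓ Subgroup.centralizer (F : Set G) = ⊥) {x : G} (hx : x ∈ P)
    (hxR : x ∈ Subgroup.centralizer (R : Set G))
    (hxC : ∀ v ∈ N, v ∈ Subgroup.centralizer (R : Set G) → x * v = v * x) :
    ∀ v ∈ N, x * v = v * x := by
  let instN : CommGroup N := { (inferInstance : Group N) with
    mul_comm := fun x y => Subtype.ext (hNc x x.2 y y.2) }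
  have instM : Module (ZMod q) (Additive N) := AddCommGroup.zmodModule (n := q) (by
    intro x
    exact congrArg Additive.ofMul (Subtype.ext (hNq _ x.toMul.2) : x.toMul ^ q = 1))
  have hfin : FiniteDimensional (ZMod q) (Additive N) := inferInstance
  let ρ : Representation (ZMod q) G (Additive N) :=
    OddOrderLocal.FrobAct.toRep q (MulAut.conjNormal : G →* MulAut N)
  have hρ : ∀ (g : G) (v : Additive N), (((ρ g v).toMul : N) : G) = g * (v.toMul : N) * g⁻¹ :=
    fun g v => rfl
  have hcast : ∀ n : ℕ, n.Prime → n ≠ q → (n : ZMod q) ≠ 0 := by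
    intro n hn hnq h0
    rw [ZMod.natCast_eq_zero_iff] at h0
    exact hnq ((Nat.prime_dvd_prime_iff_eq hq.out hn).mp h0).symm
  have hfixiff : ∀ (g : G) (v : Additive N), ρ g v = v ↔
      g * ((v.toMul : N) : G) = ((v.toMul : N) : G) * g := by
    intro g v
    rw [← mul_inv_eq_iff_eq_mul, ← hρ]
    constructor
    · intro h
      rw [h]
    · intro h
      exact Additive.toMul.injective (Subtype.ext h)
  have hmain := rep_main hps ρ hR hRp hRs (hcast p hp.out hpq) (hcast s hs.out hsq)
    (hcast _ hR hRq) hP hF hRP hRF hFP hCR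
    (by
      intro y hy hyF v
      have h1 : y ∈ P ⊓ Subgroup.centralizer (F : Set G) :=
        ⟨hy, Subgroup.mem_centralizer_iff.mpr fun f hf => hyF f hf⟩
      rw [hCP, Subgroup.mem_bot] at h1
      rw [h1, map_one]
      rfl)
    (by
      intro v hv
      have h1 : ((v.toMul : N) : G) ∈ N ⊓ Subgroup.centralizer (F : Set G) :=
        ⟨v.toMul.2, Subgroup.mem_centralizer_iff.mpr fun f hf => (hfixiff f v).mp (hv f hf)⟩
      rw [hCN, Subgroup.mem_bot] at h1
      exact Additive.toMul.injective (Subtype.ext h1)) hx hxR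
    (by
      intro v hv
      rw [hfixiff]
      refine hxC _ v.toMul.2 (Subgroup.mem_centralizer_iff.mpr fun r hr => ?_)
      exact (hfixiff r v).mp (hv r hr))
  intro v hv
  exact (hfixiff x (Additive.ofMul ⟨v, hv⟩)).mp (hmain _)

end Cfsg.Agent.H575.GroupM
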