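import Cfsg.Agent.H575.KLCore
import Cfsg.Agent.H575.GroupM

/-!
# Transfer to the algebraic closure
-/

set_option autoImplicit false
set_option linter.unusedSectionVars false
set_option linter.unusedVariables false

namespace Cfsg.Agent.H575.BC

open Module Subgroup TensorProduct Cfsg.Agent.H575.Dim Cfsg.Agent.H575.Weights
  Cfsg.Agent.H575.Sect Cfsg.Agent.H575.Fix Cfsg.Agent.H575.KL

section Rep

variable {k : Type*} [Field k] {G V : Type*} [Group G] [Finite G]
  [AddCommGroup V] [Module k V] [FiniteDimensional k V]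

/-- base change of a representation to the algebraic closure -/
noncomputable def bc (ρ : Representation k G V) :
    Representation (AlgebraicClosure k) G (TensorProduct k (AlgebraicClosure k) V) where
  toFun := fun g => (ρ g).baseChange (AlgebraicClosure k)
  map_one' := by
    rw [map_one]
    exact LinearMap.baseChange_id
  map_mul' := by
    intro a b
    rw [map_mul]
    exact LinearMap.baseChange_comp _ _

theorem bc_apply (ρ : Representation k G V) (g : G) :
    bc ρ g = (ρ g).baseChange (AlgebraicClosure k) := rfl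

theorem cast_ne_zero {n : ℕ} (hn : (n : k) ≠ 0) : (n : AlgebraicClosure k) ≠ 0 := by
  intro h0
  apply hn
  have : algebraMap k (AlgebraicClosure k) (n : k) = 0 := by
    rw [map_natCast]
    exact h0
  exact (map_eq_zero _).mp this

theorem bc_eq_one {ρ : Representation k G V} {g : G} (h : bc ρ g = 1) : ρ g = 1 := by
  apply LinearMap.ext
  intro v
  have h1 : bc ρ g (1 ⊗ₜ[k] v) = 1 ⊗ₜ[k] v := by rw [h]; rfl
  rw [bc_apply, LinearMap.baseChange_tmul] at h1
  exact Module.FaithfullyFlat.tensorProduct_mk_injective (A := k) (B := AlgebraicClosure k) V h1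

theorem bc_sum (ρ : Representation k G V) (K : Subgroup G) [Fintype K]
    (w : TensorProduct k (AlgebraicClosure k) V) :
    ∑ h : K, bc ρ h w = (∑ h : K, ρ h).baseChange (AlgebraicClosure k) w := by
  have : ∑ h : K, bc ρ h = (∑ h : K, ρ h).baseChange (AlgebraicClosure k) := by
    simp only [bc_apply]
    exact (map_sum (LinearMap.baseChangeHom k (AlgebraicClosure k) V V) _ _).symm
  rw [← this, LinearMap.sum_apply]

theorem sum_fix {F : Type*} [Field F] {U : Type*} [AddCommGroup U] [Module F U]
    (ρ : Representation F G U) (K : Subgroup G) [Fintype K] (v : U) : ∀ g ∈ K,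
      ρ g ((∑ h : K, ρ h) v) = (∑ h : K, ρ h) v := by
  intro g hg
  rw [LinearMap.sum_apply, map_sum]
  refine Fintype.sum_bijective (fun y => ⟨g, hg⟩ * y) (Group.mulLeft_bijective _) _ _ fun y => ?_
  rw [← mul_apply']
  rfl

theorem fix_sum {F : Type*} [Field F] {U : Type*} [AddCommGroup U] [Module F U]
    (ρ : Representation F G U) (K : Subgroup G) [Fintype K] (w : U) (hw : ∀ h ∈ K, ρ h w = w) :
    ∑ h : K, ρ h w = (Nat.card K : F) • w := by
  rw [Nat.card_eq_fintype_card, Nat.cast_smul_eq_nsmul, ← Finset.card_univ, ← Finset.sum_const]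
  exact Finset.sum_congr rfl fun h _ => hw h h.2

/-- triviality on fixed points -/
theorem bc_fix {ρ : Representation k G V} {R : Subgroup G} {t : G} (hR : (Nat.card R : k) ≠ 0)
    (h : ∀ v, (∀ a ∈ R, ρ a v = v) → ρ t v = v) :
    ∀ w, (∀ a ∈ R, bc ρ a w = w) → bc ρ t w = w := by
  have : Fintype R := Fintype.ofFinite R
  intro w hw
  have h1 := fix_sum (bc ρ) R w hw
  have h2 : (ρ t) ∘ₗ (∑ h : R, ρ h) = ∑ h : R, ρ h := by
    apply LinearMap.ext
    intro v
    rw [LinearMap.comp_apply]
    exact h _ (sum_fix ρ R v)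
  have h3 : bc ρ t (∑ h : R, bc ρ h w) = ∑ h : R, bc ρ h w := by
    rw [bc_sum ρ R w, bc_apply, ← LinearMap.comp_apply, ← LinearMap.baseChange_comp, h2]
  rw [h1, map_smul] at h3
  have h4 := congrArg (fun u => (Nat.card R : AlgebraicClosure k)⁻¹ • u) h3
  simp only [smul_smul] at h4
  rwa [inv_mul_cancel₀ (cast_ne_zero hR), one_smul, one_smul] at h4

theorem bc_bot {ρ : Representation k G V} {R : Subgroup G} (hR : (Nat.card R : k) ≠ 0)
    (h : ∀ v, (∀ a ∈ R, ρ a v = v) → v = 0) : fix (bc ρ) R = ⊥ := by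
  have : Fintype R := Fintype.ofFinite R
  rw [eq_bot_iff]
  intro w hw
  rw [Submodule.mem_bot]
  have h1 := fix_sum (bc ρ) R w hw
  have h2 : (∑ h : R, ρ h) = 0 := by
    apply LinearMap.ext
    intro v
    rw [LinearMap.zero_apply]
    exact h _ (sum_fix ρ R v)
  rw [bc_sum ρ R w, h2, LinearMap.baseChange_zero, LinearMap.zero_apply] at h1
  exact (smul_eq_zero.mp h1.symm).resolve_left (cast_ne_zero hR)

theorem sum_br {F : Type*} [Field F] {U : Type*} [AddCommGroup U] [Module F U]
    (ρ : Representation F G U) (B : Subgroup G) [Fintype B] {w : U} (hw : w ∈ br ρ B) :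
    ∑ h : B, ρ h w = 0 := by
  have hle : br ρ B ≤ LinearMap.ker (∑ h : B, ρ (h : G)) := by
    refine Submodule.span_le.mpr ?_
    rintro _ ⟨b, hb, u, rfl⟩
    rw [SetLike.mem_coe, LinearMap.mem_ker, map_sub, sub_eq_zero, LinearMap.sum_apply,
      LinearMap.sum_apply]
    refine Fintype.sum_bijective (fun y => y * ⟨b, hb⟩) (Group.mulRight_bijective _) _ _ fun y => ?_
    rw [← mul_apply']
    rfl
  have h1 := hle hw
  rwa [LinearMap.mem_ker, LinearMap.sum_apply] at h1

theorem sub_sum_mem_br {F : Type*} [Field F] {U : Type*} [AddCommGroup U] [Module F U]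
    (ρ : Representation F G U) (B : Subgroup G) [Fintype B] (v : U) :
    (∑ h : B, (ρ h v - v)) ∈ br ρ B :=
  Submodule.sum_mem _ fun h _ => Submodule.subset_span ⟨h, h.2, v, rfl⟩

/-- invisibility passes to the algebraic closure -/
theorem bc_inv {ρ : Representation k G V} {B R : Subgroup G} {x : G}
    (hB : (Nat.card B : k) ≠ 0) (hR : (Nat.card R : k) ≠ 0)
    (hRB : R ≤ normalizer (B : Set G)) (h : Inv ρ B R x) : Inv (bc ρ) B R x := by
  classical
  have : Fintype R := Fintype.ofFinite R
  have : Fintype B := Fintype.ofFinite B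
  intro w hw hwR
  -- the operator
  let T : Module.End k V := (∑ a : R, ρ a) ∘ₗ (∑ b : B, (ρ b - 1))
  have hT : (ρ x) ∘ₗ T = T := by
    apply LinearMap.ext
    intro v
    rw [LinearMap.comp_apply]
    have hv : (∑ b : B, (ρ (b : G) - 1)) v ∈ br ρ B := by
      rw [LinearMap.sum_apply]
      exact sub_sum_mem_br ρ B v
    refine h _ ?_ (sum_fix ρ R _)
    show (∑ a : R, ρ a) ((∑ b : B, (ρ (b : G) - 1)) v) ∈ br ρ B
    rw [LinearMap.sum_apply]
    exact Submodule.sum_mem _ fun a _ => pres_br hRB a a.2 _ hv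
  have hTw : T.baseChange (AlgebraicClosure k) w =
      -((Nat.card B : AlgebraicClosure k) * Nat.card R) • w := by
    have h1 : (∑ b : B, (ρ (b : G) - 1)).baseChange (AlgebraicClosure k) w =
        -(Nat.card B : AlgebraicClosure k) • w := by
      have h2 : (∑ b : B, (ρ (b : G) - 1)) = (∑ b : B, ρ (b : G)) - (Fintype.card B : k) • 1 := by
        rw [Finset.sum_sub_distrib, Finset.sum_const, Finset.card_univ, Nat.cast_smul_eq_nsmul]
      have h5 : ((Fintype.card B : k) • (1 : Module.End k V)).baseChange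
          (AlgebraicClosure k) w = (Nat.card B : AlgebraicClosure k) • w := by
        rw [LinearMap.baseChange_smul, LinearMap.smul_apply, Nat.card_eq_fintype_card,
          Nat.cast_smul_eq_nsmul, Nat.cast_smul_eq_nsmul]
        congr 1
        exact congrArg (fun f => f w) (LinearMap.baseChange_id (R := k)
          (A := AlgebraicClosure k) (M := V))
      rw [h2, LinearMap.baseChange_sub, LinearMap.sub_apply, ← bc_sum, sum_br (bc ρ) B hw,
        h5, zero_sub]
      exact (neg_smul _ _).symm
    show ((∑ a : R, ρ (a : G)) ∘ₗ (∑ b : B, (ρ (b : G) - 1))).baseChange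
      (AlgebraicClosure k) w = _
    rw [LinearMap.baseChange_comp, LinearMap.comp_apply, h1, map_smul, ← bc_sum,
      fix_sum (bc ρ) R w hwR, smul_smul]
    congr 1
    ring
  have h3 : bc ρ x (T.baseChange (AlgebraicClosure k) w) =
      T.baseChange (AlgebraicClosure k) w := by
    rw [bc_apply, ← LinearMap.comp_apply, ← LinearMap.baseChange_comp, hT]
  rw [hTw, map_smul] at h3
  have hne : -((Nat.card B : AlgebraicClosure k) * Nat.card R) ≠ 0 :=
    neg_ne_zero.mpr (mul_ne_zero (cast_ne_zero hB) (cast_ne_zero hR))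
  exact smul_right_injective _ hne h3

end Rep

end Cfsg.Agent.H575.BC
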