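import Cfsg.Agent.H575.BC

/-!
# The representation attached to an elementary abelian group
-/

set_option autoImplicit false
set_option linter.unusedSectionVars false
set_option linter.unusedVariables false

namespace Cfsg.Agent.H575.BC

open Module Subgroup TensorProduct Cfsg.Agent.H575.Dim Cfsg.Agent.H575.Weights
  Cfsg.Agent.H575.Sect Cfsg.Agent.H575.Fix Cfsg.Agent.H575.KL

/-- `[M, B]` -/
def brm {M : Type*} [CommGroup M] (B : Subgroup (MulAut M)) : Subgroup M :=
  Subgroup.closure {w | ∃ b ∈ B, ∃ u : M, w = b u * u⁻¹}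

theorem zmod_ne_zero {p n : ℕ} [hp : Fact p.Prime] (hn : ¬ p ∣ n) : (n : ZMod p) ≠ 0 := by
  rw [Ne, ZMod.natCast_eq_zero_iff]
  exact hn

theorem cl_ne_zero {p n : ℕ} [hp : Fact p.Prime] (hn : ¬ p ∣ n) :
    (n : AlgebraicClosure (ZMod p)) ≠ 0 := cast_ne_zero (zmod_ne_zero hn)

universe u

theorem exists_rep {M : Type u} [CommGroup M] [Finite M] {p : ℕ} [hp : Fact p.Prime]
    (hM : ∀ m : M, m ^ p = 1) :
    ∃ (V : Type u) (_ : AddCommGroup V) (_ : Module (AlgebraicClosure (ZMod p)) V)
      (_ : FiniteDimensional (AlgebraicClosure (ZMod p)) V)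
      (π : Representation (AlgebraicClosure (ZMod p)) (MulAut M) V),
      (∀ g, π g = 1 → g = 1) ∧ (Nontrivial M → Nontrivial V) ∧
      (∀ (R : Subgroup (MulAut M)) (t : MulAut M), ¬ p ∣ Nat.card R →
        (∀ m : M, (∀ a ∈ R, a m = m) → t m = m) → ∀ v, (∀ a ∈ R, π a v = v) → π t v = v) ∧
      (∀ R : Subgroup (MulAut M), ¬ p ∣ Nat.card R →
        (∀ m : M, (∀ a ∈ R, a m = m) → m = 1) → fix π R = ⊥) ∧
      (∀ (B R : Subgroup (MulAut M)) (x : MulAut M), ¬ p ∣ Nat.card B → ¬ p ∣ Nat.card R →
        R ≤ normalizer (B : Set (MulAut M)) →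
        (∀ m ∈ brm B, (∀ a ∈ R, a m = m) → x m = m) → Inv π B R x) := by
  have instM : Module (ZMod p) (Additive M) := AddCommGroup.zmodModule (n := p) (by
    intro x
    exact congrArg Additive.ofMul (hM x.toMul))
  have hfin : FiniteDimensional (ZMod p) (Additive M) := inferInstance
  let ρ : Representation (ZMod p) (MulAut M) (Additive M) :=
    OddOrderLocal.FrobAct.toRep p (MonoidHom.id (MulAut M))
  have hρ : ∀ (g : MulAut M) (m : M), ρ g (Additive.ofMul m) = Additive.ofMul (g m) :=
    fun g m => rfl
  refine ⟨TensorProduct (ZMod p) (AlgebraicClosure (ZMod p)) (Additive M), inferInstance,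
    inferInstance, inferInstance, bc ρ, ?_, ?_, ?_, ?_, ?_⟩
  · intro g hg
    have h1 := bc_eq_one hg
    ext m
    have h2 := hρ g m
    rw [h1] at h2
    exact (Additive.ofMul.injective h2).symm
  · intro hnt
    have h1 : finrank (AlgebraicClosure (ZMod p))
        (TensorProduct (ZMod p) (AlgebraicClosure (ZMod p)) (Additive M)) =
        finrank (ZMod p) (Additive M) := Module.finrank_baseChange
    have hnt' : Nontrivial (Additive M) := hnt
    have h2 : 0 < finrank (ZMod p) (Additive M) := finrank_pos
    exact Module.nontrivial_of_finrank_pos (R := AlgebraicClosure (ZMod p)) (by rw [h1]; exact h2)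
  · intro R t hR h
    refine bc_fix (zmod_ne_zero hR) fun v hv => ?_
    have h1 := h v.toMul fun a ha => Additive.ofMul.injective (hv a ha)
    exact congrArg Additive.ofMul h1
  · intro R hR h
    refine bc_bot (zmod_ne_zero hR) fun v hv => ?_
    have h1 := h v.toMul fun a ha => Additive.ofMul.injective (hv a ha)
    exact congrArg Additive.ofMul h1
  · intro B R x hB hR hRB h
    refine bc_inv (zmod_ne_zero hB) (zmod_ne_zero hR) hRB ?_
    intro v hv hvR
    have hmem : ∀ v ∈ br ρ B, (Additive.toMul v) ∈ brm B := by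
      intro v hv
      induction hv using Submodule.span_induction with
      | mem x hx =>
        obtain ⟨b, hb, u, rfl⟩ := hx
        exact Subgroup.subset_closure ⟨b, hb, u.toMul, by
          rw [toMul_sub, div_eq_mul_inv]
          rfl⟩
      | zero => exact (brm B).one_mem
      | add x y _ _ hx hy => exact (brm B).mul_mem hx hy
      | smul c x _ hx =>
        have h1 : c • x = c.val • x := by
          conv_lhs => rw [← ZMod.natCast_zmod_val c]
          rw [Nat.cast_smul_eq_nsmul]
        rw [h1, toMul_nsmul]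
        exact (brm B).pow_mem hx _
    have h1 := h v.toMul (hmem v hv) fun a ha => Additive.ofMul.injective (hvR a ha)
    exact congrArg Additive.ofMul h1

end Cfsg.Agent.H575.BC
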