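import Mathlib.GroupTheory.Nilpotent
import Mathlib.GroupTheory.QuotientGroup.Basic
import Mathlib.Tactic

/-!
# Normal chains with nilpotent factors
-/

set_option autoImplicit false

open Subgroup

namespace Cfsg.Agent.H575.Chain

/-- `G` has a chain of `n + 1` normal subgroups with nilpotent factors. -/
def FChain (n : ℕ) (G : Type*) [Group G] : Prop :=
  ∃ F : Fin (n + 1) → Subgroup G, F 0 = ⊥ ∧ F (Fin.last n) = ⊤ ∧ Monotone F ∧
    (∀ i, (F i).Normal) ∧ ∀ i : Fin n, ∃ k : ℕ, (F i.succ).lowerCentralSeries k ≤ F i.castSucc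

variable {G H : Type*} [Group G] [Group H]

theorem lcs_mono {A B : Subgroup G} (h : A ≤ B) (k : ℕ) :
    A.lowerCentralSeries k ≤ B.lowerCentralSeries k := by
  induction k with
  | zero => exact h
  | succ k ih =>
    rw [Subgroup.lowerCentralSeries_succ, Subgroup.lowerCentralSeries_succ]
    exact Subgroup.commutator_mono ih h

theorem lcs_comap_le (φ : G →* H) (S : Subgroup H) (k : ℕ) :
    (S.comap φ).lowerCentralSeries k ≤ (S.lowerCentralSeries k).comap φ := by
  rw [← Subgroup.map_le_iff_le_comap, Subgroup.map_lowerCentralSeries]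
  exact lcs_mono (Subgroup.map_comap_le φ S) k

theorem fchain_zero [Subsingleton G] : FChain 0 G :=
  ⟨fun _ => ⊥, rfl, Subsingleton.elim _ _, fun _ _ _ => le_rfl, fun _ => inferInstance,
    fun i => i.elim0⟩

theorem FChain.subsingleton (h : FChain 0 G) : Subsingleton G := by
  obtain ⟨F, h0, h1, -⟩ := h
  have h2 : (⊥ : Subgroup G) = ⊤ := h0.symm.trans h1
  exact Subgroup.subsingleton_iff.mp (subsingleton_of_bot_eq_top h2)

theorem FChain.of_injective {n : ℕ} (h : FChain n G) (φ : H →* G) (hφ : Function.Injective φ) :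
    FChain n H := by
  obtain ⟨F, h0, h1, h2, h3, h4⟩ := h
  refine ⟨fun i => (F i).comap φ, ?_, ?_, fun i j hij => Subgroup.comap_mono (h2 hij),
    fun i => (h3 i).comap φ, fun i => ?_⟩
  · show (F 0).comap φ = ⊥
    rw [h0, MonoidHom.comap_bot, (MonoidHom.ker_eq_bot_iff φ).mpr hφ]
  · show (F (Fin.last n)).comap φ = ⊤
    rw [h1, Subgroup.comap_top]
  · obtain ⟨k, hk⟩ := h4 i
    exact ⟨k, (lcs_comap_le φ _ k).trans (Subgroup.comap_mono hk)⟩

theorem FChain.of_equiv {n : ℕ} (h : FChain n G) (e : H ≃* G) : FChain n H :=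
  h.of_injective e.toMonoidHom e.injective

/-- the first term of a chain, and the images of the others -/
theorem FChain.image {n : ℕ} (h : FChain (n + 1) G) :
    ∃ N : Subgroup G, N.Normal ∧ Group.IsNilpotent N ∧
      ∀ (K : Type _) [Group K] (φ : G →* K), Function.Surjective φ → N ≤ φ.ker → FChain n K := by
  obtain ⟨F, h0, h1, h2, h3, h4⟩ := h
  refine ⟨F 1, h3 1, ?_, ?_⟩
  · rw [isNilpotent_iff_lowerCentralSeries]
    obtain ⟨k, hk⟩ := h4 0
    refine ⟨k, le_bot_iff.mp ?_⟩
    rw [← h0]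
    exact hk
  · intro K _ φ hφ hN
    refine ⟨fun i => (F i.succ).map φ, ?_, ?_, fun i j hij => Subgroup.map_mono
      (h2 (Fin.succ_le_succ_iff.mpr hij)), fun i => (h3 _).map φ hφ, fun i => ?_⟩
    · show (F 1).map φ = ⊥
      rw [← le_bot_iff, Subgroup.map_le_iff_le_comap, MonoidHom.comap_bot]
      exact hN
    · show (F (Fin.last n).succ).map φ = ⊤
      rw [Fin.succ_last, h1, ← MonoidHom.range_eq_map, MonoidHom.range_eq_top.mpr hφ]
    · obtain ⟨k, hk⟩ := h4 i.succ
      refine ⟨k, ?_⟩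
      rw [← Subgroup.map_lowerCentralSeries]
      exact Subgroup.map_mono hk

/-- extension by a nilpotent normal subgroup -/
theorem FChain.extend {n : ℕ} (ψ : G →* H) (hN : Group.IsNilpotent ψ.ker)
    (h : FChain n H) : FChain (n + 1) G := by
  obtain ⟨F, h0, h1, h2, h3, h4⟩ := h
  have hF0 : (F 0).comap ψ = ψ.ker := by
    rw [h0, MonoidHom.comap_bot]
  refine ⟨Fin.cons ⊥ fun i => (F i).comap ψ, Fin.cons_zero _ _, ?_, ?_, ?_, ?_⟩
  · rw [← Fin.succ_last, Fin.cons_succ, h1, Subgroup.comap_top]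
  · intro i j hij
    induction i using Fin.cases with
    | zero => rw [Fin.cons_zero]; exact bot_le
    | succ i =>
      induction j using Fin.cases with
      | zero => exact absurd (Fin.le_zero_iff.mp hij) (Fin.succ_ne_zero i)
      | succ j =>
        rw [Fin.cons_succ, Fin.cons_succ]
        exact Subgroup.comap_mono (h2 (Fin.succ_le_succ_iff.mp hij))
  · intro i
    induction i using Fin.cases with
    | zero => rw [Fin.cons_zero]; infer_instance
    | succ i => rw [Fin.cons_succ]; exact (h3 i).comap _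
  · intro i
    induction i using Fin.cases with
    | zero =>
      rw [Fin.cons_succ, hF0, Fin.castSucc_zero, Fin.cons_zero]
      obtain ⟨k, hk⟩ := (isNilpotent_iff_lowerCentralSeries ψ.ker).mp hN
      exact ⟨k, hk.le⟩
    | succ i =>
      rw [Fin.cons_succ, ← Fin.succ_castSucc, Fin.cons_succ]
      obtain ⟨k, hk⟩ := h4 i
      exact ⟨k, (lcs_comap_le _ _ k).trans (Subgroup.comap_mono hk)⟩

end Cfsg.Agent.H575.Chain
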