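import Cfsg.Agent.H575.TFacts
import Cfsg.Agent.H575.Chain

/-!
# The chain in the fixed point group
-/

set_option autoImplicit false
set_option linter.unusedSectionVars false
set_option linter.unusedVariables false

namespace Cfsg.Agent.H575.TThree

open Subgroup Cfsg.Agent.H575.Sect Cfsg.Agent.H575.Tower Cfsg.Agent.H575.HA
  Cfsg.Agent.H575.ExtraIrr Cfsg.Agent.H575.MinTower Cfsg.Agent.H575.Mult
open scoped commutatorElement

universe u

variable {Γ : Type u} [Group Γ]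

/-- a descending chain with nilpotent factors -/
structure CC (C : Subgroup Γ) (c : ℕ → Subgroup Γ) (n : ℕ) : Prop where
  zero : c 0 = C
  bot : ∀ j, n ≤ j → c j = ⊥
  anti : ∀ j, c (j + 1) ≤ c j
  norm : ∀ j, C ≤ normalizer (c j : Set Γ)
  nil : ∀ j, ∃ k, (c j).lowerCentralSeries k ≤ c (j + 1)

theorem CC.le {C : Subgroup Γ} {c : ℕ → Subgroup Γ} {n : ℕ} (h : CC C c n) (j : ℕ) : c j ≤ C := by
  induction j with
  | zero => exact h.zero.le
  | succ j ih => exact (h.anti j).trans ih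

theorem exists_cc {C : Subgroup Γ} {n : ℕ} (h : Chain.FChain n C) : ∃ c, CC C c n := by
  obtain ⟨F, h0, h1, h2, h3, h4⟩ := h
  refine ⟨fun j => (F ⟨n - j, by omega⟩).map C.subtype, ?_, ?_, ?_, ?_, ?_⟩
  · show (F ⟨n - 0, _⟩).map C.subtype = C
    have h5 : (⟨n - 0, by omega⟩ : Fin (n + 1)) = Fin.last n := Fin.ext (by simp)
    rw [h5, h1, ← MonoidHom.range_eq_map, Subgroup.range_subtype]
  · intro j hj
    show (F ⟨n - j, _⟩).map C.subtype = ⊥
    have h5 : (⟨n - j, by omega⟩ : Fin (n + 1)) = 0 := Fin.ext (by simp; omega)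
    rw [h5, h0, Subgroup.map_bot]
  · intro j
    refine Subgroup.map_mono (h2 ?_)
    show n - (j + 1) ≤ n - j
    omega
  · intro j
    refine le_norm ?_
    rintro g hg _ ⟨x, hx, rfl⟩
    exact ⟨⟨g, hg⟩ * x * ⟨g, hg⟩⁻¹, (h3 _).conj_mem x hx ⟨g, hg⟩, rfl⟩
  · intro j
    by_cases hj : j < n
    · obtain ⟨k, hk⟩ := h4 ⟨n - (j + 1), by omega⟩
      refine ⟨k, ?_⟩
      have h5 : (⟨n - j, by omega⟩ : Fin (n + 1)) =
          (⟨n - (j + 1), by omega⟩ : Fin n).succ := Fin.ext (by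
        show n - j = n - (j + 1) + 1
        omega)
      show ((F ⟨n - j, _⟩).map C.subtype).lowerCentralSeries k ≤ _
      rw [h5, ← Subgroup.map_lowerCentralSeries]
      exact Subgroup.map_mono hk
    · refine ⟨0, ?_⟩
      refine Subgroup.map_mono (h2 ?_)
      show n - j ≤ n - (j + 1)
      omega

variable [Finite Γ]

/-- coprime commutators go down in the chain -/
theorem CC.step {C : Subgroup Γ} {c : ℕ → Subgroup Γ} {n : ℕ} (h : CC C c n) {D Y : Subgroup Γ}
    {p q : ℕ} (hp : p.Prime) (hq : q.Prime) (hpq : p ≠ q) (hD : IsPGroup p D) (hDC : D ≤ C)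
    (hY : IsPGroup q Y) {j : ℕ} (hYc : Y ≤ c j) (hYD : Y ≤ normalizer (D : Set Γ)) :
    ⁅D, Y⁆ ≤ c (j + 1) := by
  have h1 : ⁅⁅D, Y⁆, Y⁆ = ⁅D, Y⁆ :=
    Lib.CoprimeCommutator.commutator_commutator_eq Y D hYD (cop_card hp hq hpq hY hD)
  have h2 : ∀ k, ⁅D, Y⁆ ≤ (c j).lowerCentralSeries k := by
    intro k
    induction k with
    | zero =>
      show ⁅D, Y⁆ ≤ c j
      rw [commutator_comm]
      exact (commutator_mono hYc le_rfl).trans
        (Lib.CoprimeCommutator.commutator_le_left (hDC.trans (h.norm j)))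
    | succ k ih =>
      rw [Subgroup.lowerCentralSeries_succ, ← h1]
      exact commutator_mono ih hYc
  obtain ⟨k, hk⟩ := h.nil j
  exact (h2 k).trans hk

variable {R : Subgroup Γ} {P : ℕ → Subgroup Γ} {p : ℕ → ℕ} {N : ℕ}

/-- above `m` everything is centralized by `R` -/
theorem MT.cent_above' (h : MT R P p N) {m : ℕ}
    (hm : ∀ j, m ≤ j → j < N → ⁅P j, R⁆ ≤ ker P j) :
    ∀ n j, m ≤ j → j < N → N ≤ j + n → P j ≤ centralizer (R : Set Γ) := by
  have hT := h.toIsTower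
  intro n
  induction n with
  | zero => intro j _ _ _; omega
  | succ n ih =>
    intro j hj hjN hn
    by_contra hne
    have hRc : R ≤ normalizer ((centralizer (R : Set Γ) : Subgroup Γ) : Set Γ) :=
      le_normalizer_centralizer Subgroup.le_normalizer
    have h1 := h.le_zz hjN (Q := P j ⊓ centralizer (R : Set Γ)) inf_le_left
      (le_normalizer_inf (hT.inv j hjN) hRc)
      (fun k hk hkN => le_normalizer_inf (hT.norm j k (by omega) hkN)
        ((ih k (by omega) hkN (by omega)).trans Subgroup.le_normalizer)) (by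
        intro heq
        exact hne (inf_eq_left.mp heq))
    apply h.not_le_zz hjN
    intro x hx
    obtain ⟨c, hc, hcR, hcx⟩ := exists_cent_mul h.hR
      (GLev.isPGroup_of_card h.hR rfl) (hT.inv j hjN)
      (cop_of_ne h.hR (hT.prime j hjN) (h.hRp j hjN) (hT.pgroup j hjN)) hx
    have h2 : c⁻¹ * x ∈ zz P N j := IsTower.ker_le_zz hT hjN (hm j hj hjN hcx)
    have h3 := Subgroup.mul_mem _ (h1 ⟨hc, hcR⟩) h2
    rwa [mul_inv_cancel_left] at h3

theorem MT.le_chain (h : MT R P p N) {X : Subgroup Γ} (hX : ∀ i < N, P i ≤ X)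
    {c : ℕ → Subgroup Γ} {n : ℕ} (hc : CC (X ⊓ centralizer (R : Set Γ)) c n) {m : ℕ}
    (hm : ∀ j, m ≤ j → j < N → P j ≤ centralizer (R : Set Γ)) :
    ∀ d j, m ≤ j → j < N → j + d + 1 = N → P j ≤ c d := by
  intro d
  induction d with
  | zero =>
    intro j hj hjN _
    rw [hc.zero]
    exact le_inf (hX j hjN) (hm j hj hjN)
  | succ d ih =>
    intro j hj hjN hd
    have h1 := ih (j + 1) (by omega) (by omega) (by omega)
    rw [← h.comm_eq (i := j) (by omega)]
    exact hc.step (h.prime j hjN) (h.prime (j + 1) (by omega)) (h.ne j (by omega))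
      (h.pgroup j hjN) (le_inf (hX j hjN) (hm j hj hjN)) (h.pgroup (j + 1) (by omega)) h1
      (h.norm j (j + 1) (by omega) (by omega))

/-- the index `κ` -/
theorem MT.exists_kappa (h : MT R P p N) {X : Subgroup Γ} (hX : ∀ i < N, P i ≤ X)
    {c : ℕ → Subgroup Γ} {n : ℕ} (hc : CC (X ⊓ centralizer (R : Set Γ)) c n) (hN : N = n + 3) :
    ∃ κ, 2 ≤ κ ∧ κ < N ∧ ⁅P κ, R⁆ = P κ ∧
      (∀ j, κ < j → j < N → P j ≤ centralizer (R : Set Γ)) := by
  classical
  -- not everything above `2` is centralized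
  have h1 : ∃ k, 2 ≤ k ∧ k < N ∧ ¬ ⁅P k, R⁆ ≤ ker P k := by
    by_contra hcon
    push Not at hcon
    have h2 := h.cent_above' (m := 2) hcon
    have h3 := h.le_chain hX hc (m := 2) (fun j hj hjN => h2 N j hj hjN (by omega)) n 2 le_rfl
      (by omega) (by omega)
    rw [hc.bot n le_rfl, le_bot_iff] at h3
    exact h.ne_bot (by omega) h3
  obtain ⟨k, hk2, hkN, hk⟩ := h1
  let κ := Nat.findGreatest (fun k => k < N ∧ ¬ ⁅P k, R⁆ ≤ ker P k) N
  have h4 : κ < N ∧ ¬ ⁅P κ, R⁆ ≤ ker P κ :=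
    Nat.findGreatest_spec (P := fun k => k < N ∧ ¬ ⁅P k, R⁆ ≤ ker P k) hkN.le ⟨hkN, hk⟩
  have h5 : k ≤ κ := Nat.le_findGreatest hkN.le ⟨hkN, hk⟩
  have h6 : ∀ j, κ < j → j < N → ⁅P j, R⁆ ≤ ker P j := by
    intro j hj hjN
    by_contra hne
    have h7 : j ≤ κ := Nat.le_findGreatest hjN.le ⟨hjN, hne⟩
    omega
  have h7 : ∀ j, κ < j → j < N → P j ≤ centralizer (R : Set Γ) := fun j hj hjN =>
    h.cent_above' (m := κ + 1) (fun j hj => h6 j hj) N j hj hjN (by omega)
  exact ⟨κ, hk2.trans h5, h4.1, h.comm_R h4.1 h4.2 h7, h7⟩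

end Cfsg.Agent.H575.TThree
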