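import Cfsg.Agent.OddOrderLocal.FrobRep
import Cfsg.Agent.H575.Dim

/-!
# Frobenius subgroups and fixed points

`K` a finite solvable group acting on a finite-dimensional space `V` over an algebraically closed
field of characteristic not dividing `|K|`, `R` a group of prime order not dividing `|K|` acting
compatibly on `K` and `V`; `F → K` is an `R`-invariant subgroup on which `R` acts without fixed
points, and `C_V(F) = 0`.  Then `V` is the direct sum of the `R`-translates of a `K`-submodule
(`exists_equiv'`); hence an element of `C_K(R)` acting trivially on `C_V(R)` acts trivially on `V`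
(`claimK`).
-/

set_option autoImplicit false

namespace Cfsg.Agent.H575.ClaimK

open Module Cfsg.Agent.OddOrderLocal.FrobRep

section Free

variable {E : Type*} [Field E] {K : Type*} [Group K] {R : Type*} [Group R]
  {V : Type*} [AddCommGroup V] [Module E V] [Module (MonoidAlgebra E K) V]
  [IsScalarTower E (MonoidAlgebra E K) V]
  {σ : R →* MulAut K} {τ : R →* Module.End E V}

theorem exists_free' [Finite K] (hK : (Nat.card K : E) ≠ 0)
    [FiniteDimensional E V] (h : Compat σ τ)
    (hne : ∀ r : R, r ≠ 1 → ∀ (S : Submodule (MonoidAlgebra E K) V),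
      IsSimpleModule (MonoidAlgebra E K) S → (tw h r S ≃ₗ[MonoidAlgebra E K] S) → False) :
    ∃ U : Submodule (MonoidAlgebra E K) V,
      iSupIndep (fun r : R => tw h r U) ∧ ⨆ r : R, tw h r U = ⊤ := by
  classical
  have : NeZero (Nat.card K : E) := ⟨hK⟩
  let act : MulAction R (isotypicComponents (MonoidAlgebra E K) V) :=
    { smul := fun r c => ⟨tw h r c, tw_mem_isotypicComponents h r c.2⟩
      one_smul := fun c => Subtype.ext (tw_one h c.1)
      mul_smul := fun r s c => Subtype.ext (tw_mul h r s c.1) }
  have hact : ∀ (r : R) (c : isotypicComponents (MonoidAlgebra E K) V),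
    ((r • c : isotypicComponents (MonoidAlgebra E K) V) :
      Submodule (MonoidAlgebra E K) V) = tw h r c := fun r c => rfl
  have hfree : ∀ (r : R) (c : isotypicComponents (MonoidAlgebra E K) V), r • c = c → r = 1 := by
    intro r c hrc
    by_contra hr
    obtain ⟨S, hS, hSc⟩ :=
      (IsSemisimpleModule.eq_bot_or_exists_simple_le c.1).resolve_left
        (bot_lt_isotypicComponents c.2).ne'
    have h1 : tw h r S ≤ c.1 := by
      have h2 := tw_mono h r hS
      rw [← hact, hrc] at h2
      exact h2
    have hiso := IsIsotypic.isotypicComponents c.2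
    rw [isIsotypic_submodule_iff] at hiso
    have h2 := isIsotypicOfType_submodule_iff.mp (hiso S hS)
    have := isSimpleModule_tw h r S
    obtain ⟨e⟩ := h2 (tw h r S) h1
    exact hne r hr S hSc e
  let Ω := MulAction.orbitRel.Quotient R (isotypicComponents (MonoidAlgebra E K) V)
  let F : R × Ω → isotypicComponents (MonoidAlgebra E K) V := fun p => p.1 • (Quotient.out p.2)
  have hFinj : Function.Injective F := by
    rintro ⟨r, ω⟩ ⟨r', ω'⟩ hF
    change r • (Quotient.out ω) = r' • (Quotient.out ω') at hF
    have h1 : ω = ω' := by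
      rw [← Quotient.out_eq ω, ← Quotient.out_eq ω']
      apply Quotient.sound
      change Quotient.out ω ∈ MulAction.orbit R (Quotient.out ω')
      refine ⟨r⁻¹ * r', ?_⟩
      change (r⁻¹ * r') • (Quotient.out ω') = Quotient.out ω
      rw [mul_smul, ← hF, inv_smul_smul]
    subst h1
    have h2 : (r'⁻¹ * r) • (Quotient.out ω) = Quotient.out ω := by
      rw [mul_smul, hF, inv_smul_smul]
    have h3 := hfree _ _ h2
    rw [inv_mul_eq_one] at h3
    rw [h3]
  have hFsurj : ∀ c, ∃ p, F p = c := by
    intro c
    have h1 : (MulAction.orbitRel R _) (Quotient.out (Quotient.mk _ c : Ω)) c :=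
      Quotient.mk_out (s := MulAction.orbitRel R _) c
    have h2 : c ∈ MulAction.orbit R (Quotient.out (Quotient.mk _ c : Ω)) :=
      (MulAction.orbitRel R _).symm h1
    obtain ⟨r, hr⟩ := h2
    exact ⟨(r, Quotient.mk _ c), hr⟩
  have hind : iSupIndep (fun p : R × Ω => (F p : Submodule (MonoidAlgebra E K) V)) :=
    ((sSupIndep_iff _).mp (sSupIndep_isotypicComponents (MonoidAlgebra E K) V)).comp hFinj
  let U : Submodule (MonoidAlgebra E K) V :=
    ⨆ ω : Ω, (Quotient.out ω : isotypicComponents (MonoidAlgebra E K) V).1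
  have hU : ∀ r, tw h r U = ⨆ ω : Ω, (F (r, ω) : Submodule (MonoidAlgebra E K) V) := by
    intro r
    rw [← twIso_apply, OrderIso.map_iSup]
    rfl
  refine ⟨U, ?_, ?_⟩
  · intro r
    have hdis : Disjoint {p : R × Ω | p.1 = r} {p : R × Ω | p.1 ≠ r} := by
      rw [Set.disjoint_left]
      intro p hp hp'
      exact hp' hp
    have h1 := hind.disjoint_biSup_biSup hdis
    refine h1.mono ?_ ?_
    · change tw h r U ≤ _
      rw [hU]
      refine iSup_le fun ω => ?_
      exact le_iSup₂_of_le (r, ω) rfl le_rfl
    · refine iSup₂_le fun s hs => ?_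
      change tw h s U ≤ _
      rw [hU]
      refine iSup_le fun ω => ?_
      exact le_iSup₂_of_le (s, ω) hs le_rfl
  · rw [eq_top_iff, ← sSup_isotypicComponents (MonoidAlgebra E K) V]
    refine sSup_le fun c hc => ?_
    obtain ⟨⟨r, ω⟩, hp⟩ := hFsurj ⟨c, hc⟩
    have : c = (F (r, ω) : Submodule (MonoidAlgebra E K) V) := by rw [hp]
    rw [this]
    refine le_iSup_of_le r ?_
    rw [hU]
    exact le_iSup (fun ω : Ω => (F (r, ω) : Submodule (MonoidAlgebra E K) V)) ω

theorem exists_equiv' [Finite K] [Fintype R] (hK : (Nat.card K : E) ≠ 0)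
    [FiniteDimensional E V] (h : Compat σ τ)
    (hne : ∀ r : R, r ≠ 1 → ∀ (S : Submodule (MonoidAlgebra E K) V),
      IsSimpleModule (MonoidAlgebra E K) S → (tw h r S ≃ₗ[MonoidAlgebra E K] S) → False) :
    ∃ (U : Submodule (MonoidAlgebra E K) V) (Φ : (R → U) ≃ₗ[E] V),
      ∀ u, Φ u = ∑ r, τ r (u r) := by
  classical
  obtain ⟨U, hind, htop⟩ := exists_free' hK h hne
  let Φ : (R → U) →ₗ[E] V :=
    { toFun := fun u => ∑ r, τ r (u r)
      map_add' := by
        intro u v
        simp only [Pi.add_apply, Submodule.coe_add, map_add, Finset.sum_add_distrib]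
      map_smul' := by
        intro c u
        simp only [Pi.smul_apply, RingHom.id_apply, Finset.smul_sum]
        refine Finset.sum_congr rfl fun r _ => ?_
        exact map_smul _ _ _ }
  have hΦ : ∀ u, Φ u = ∑ r, τ r (u r) := fun u => rfl
  have hinj : Function.Injective Φ := by
    rw [← LinearMap.ker_eq_bot, LinearMap.ker_eq_bot']
    intro u hu
    rw [hΦ] at hu
    rw [iSupIndep_iff_finsetSum_eq_zero_imp_eq_zero] at hind
    have h1 := hind Finset.univ (fun r => τ r (u r)) (fun r _ => tau_mem_tw h r (u r).2) hu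
    funext r
    apply Subtype.ext
    have h2 := h1 r (Finset.mem_univ r)
    have h3 : τ r (u r) = 0 := h2
    rw [← tau_inv_tau (τ := τ) r (u r : V), h3, map_zero]
    rfl
  have hsurj : Function.Surjective Φ := by
    intro v
    have hv : v ∈ ⨆ r : R, tw h r U := by rw [htop]; exact Submodule.mem_top
    change v ∈ LinearMap.range Φ
    refine Submodule.iSup_induction (fun r : R => tw h r U)
      (motive := fun v => v ∈ LinearMap.range Φ)
      hv ?_ (Submodule.zero_mem _) (fun x y hx hy => Submodule.add_mem _ hx hy)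
    intro r x hx
    refine ⟨Pi.single r ⟨τ r⁻¹ x, hx⟩, ?_⟩
    rw [hΦ, Finset.sum_eq_single r]
    · rw [Pi.single_eq_same, tau_tau_inv]
    · intro s _ hs
      rw [Pi.single_eq_of_ne hs]
      exact map_zero _
    · intro hr
      exact absurd (Finset.mem_univ r) hr
  exact ⟨U, LinearEquiv.ofBijective Φ ⟨hinj, hsurj⟩, hΦ⟩

/-- an element of `K` fixed by `R` and trivial on `C_V(R)` is trivial on `V` -/
theorem trivial_of_free [Finite K] [Finite R] (hK : (Nat.card K : E) ≠ 0)
    [FiniteDimensional E V] (h : Compat σ τ)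
    (hne : ∀ r : R, r ≠ 1 → ∀ (S : Submodule (MonoidAlgebra E K) V),
      IsSimpleModule (MonoidAlgebra E K) S → (tw h r S ≃ₗ[MonoidAlgebra E K] S) → False)
    (x : K) (hx : ∀ r, σ r x = x)
    (hxC : ∀ v, (∀ r, τ r v = v) → MonoidAlgebra.of E K x • v = v) (v : V) :
    MonoidAlgebra.of E K x • v = v := by
  classical
  have : Fintype R := Fintype.ofFinite R
  obtain ⟨U, Φ, hΦ⟩ := exists_equiv' hK h hne
  have hτx : ∀ r w, MonoidAlgebra.of E K x • τ r w = τ r (MonoidAlgebra.of E K x • w) := by
    intro r w
    rw [h, hx]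
  -- `x` is trivial on `U`
  have hxU : ∀ u : U, MonoidAlgebra.of E K x • u = u := by
    intro u
    have hfix : ∀ s, τ s (Φ fun _ => u) = Φ fun _ => u := by
      intro s
      rw [hΦ, map_sum]
      refine Fintype.sum_bijective (fun y => s * y) (Group.mulLeft_bijective s) _ _ fun y => ?_
      rw [map_mul, Module.End.mul_apply]
    have h1 := hxC _ hfix
    have h2 : MonoidAlgebra.of E K x • (Φ fun _ => u) =
        Φ fun _ => MonoidAlgebra.of E K x • u := by
      rw [hΦ, hΦ, Finset.smul_sum]
      refine Finset.sum_congr rfl fun r _ => ?_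
      rw [hτx]
      rfl
    rw [h2] at h1
    exact congrFun (Φ.injective h1) 1
  obtain ⟨u, rfl⟩ := Φ.surjective v
  rw [hΦ, Finset.smul_sum]
  refine Finset.sum_congr rfl fun r _ => ?_
  rw [hτx]
  congr 1
  exact congrArg Subtype.val (hxU (u r))

end Free

section Rep

variable {E : Type*} [Field E] [IsAlgClosed E] {K : Type*} [Group K] {R : Type*} [Group R]
  {F : Type*} [Group F]
  {V : Type*} [AddCommGroup V] [Module E V] [Module (MonoidAlgebra E K) V]
  [IsScalarTower E (MonoidAlgebra E K) V] [FiniteDimensional E V]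
  {σ : R →* MulAut K} {τ : R →* Module.End E V} {σF : R →* MulAut F}

/-- the representation on a submodule -/
noncomputable def repOf (S : Submodule (MonoidAlgebra E K) V) : Representation E K S where
  toFun k := Algebra.lsmul E E S (MonoidAlgebra.of E K k)
  map_one' := by rw [map_one, map_one]
  map_mul' := by
    intro a b
    rw [map_mul, map_mul]

omit [IsAlgClosed E] [FiniteDimensional E V] in
theorem repOf_apply (S : Submodule (MonoidAlgebra E K) V) (k : K) (s : S) :
    repOf S k s = MonoidAlgebra.of E K k • s := rfl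

omit [IsAlgClosed E] [FiniteDimensional E V] in
theorem irr_repOf (S : Submodule (MonoidAlgebra E K) V) (hS : IsSimpleModule (MonoidAlgebra E K) S) :
    Dim.Irr (repOf S) := by
  refine ⟨IsSimpleModule.nontrivial (MonoidAlgebra E K) S, fun W hW => ?_⟩
  let W' : Submodule (MonoidAlgebra E K) S :=
    { carrier := W
      add_mem' := fun ha hb => W.add_mem ha hb
      zero_mem' := W.zero_mem
      smul_mem' := by
        intro a w hw
        induction a using MonoidAlgebra.induction_linear with
        | zero => simp
        | add f g hf hg =>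
          rw [add_smul]
          exact W.add_mem hf hg
        | single k c =>
          have h1 : MonoidAlgebra.single k c = c • MonoidAlgebra.of E K k := by
            simp [MonoidAlgebra.of_apply, MonoidAlgebra.smul_single]
          rw [h1, smul_assoc]
          exact W.smul_mem c (hW k w hw) }
  have hmem : ∀ w, w ∈ W' ↔ w ∈ W := fun w => Iff.rfl
  rcases eq_bot_or_eq_top W' with h | h
  · left
    rw [eq_bot_iff]
    intro w hw
    rw [← hmem, h] at hw
    exact hw
  · right
    rw [eq_top_iff]
    intro w _
    rw [← hmem, h]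
    exact Submodule.mem_top

/-- no simple `K`-submodule is isomorphic to a proper translate -/
theorem not_equiv_tw' [Finite K] [Finite R] [Finite F] (hR : (Nat.card R).Prime)
    (hsol : Group.IsSolvable K) (hK : (Nat.card K : E) ≠ 0) (hRK : ¬ Nat.card R ∣ Nat.card K)
    (h : Compat σ τ) (i : F →* K) (hinj : Function.Injective i)
    (hi : ∀ r f, i (σF r f) = σ r (i f))
    (hfpf : ∀ r : R, r ≠ 1 → ∀ f, σF r f = f → f = 1)
    (hfix : ∀ v : V, (∀ f : F, MonoidAlgebra.of E K (i f) • v = v) → v = 0)
    (r : R) (hr : r ≠ 1) (S : Submodule (MonoidAlgebra E K) V)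
    (hS : IsSimpleModule (MonoidAlgebra E K) S)
    (e : tw h r S ≃ₗ[MonoidAlgebra E K] S) : False := by
  classical
  have hfinS : FiniteDimensional E S :=
    FiniteDimensional.of_injective (S.subtype.restrictScalars E) Subtype.val_injective
  have hntS := IsSimpleModule.nontrivial (MonoidAlgebra E K) S
  let T : Module.End E S :=
    { toFun := fun w => e ⟨τ r w, tau_mem_tw h r w.2⟩
      map_add' := by
        intro x y
        rw [← map_add]
        congr 1
        apply Subtype.ext
        exact map_add _ _ _
      map_smul' := by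
        intro c x
        have h1 : (⟨τ r ((c • x : S) : V), tau_mem_tw h r (c • x : S).2⟩ : tw h r S) =
            c • ⟨τ r x, tau_mem_tw h r x.2⟩ := by
          apply Subtype.ext
          exact map_smul _ _ _
        rw [h1]
        exact (e.toLinearMap.restrictScalars E).map_smul c _ }
  have hT : ∀ k w, T (repOf S k w) = repOf S (σ r k) (T w) := by
    intro k w
    change e ⟨τ r ((MonoidAlgebra.of E K k • w : S) : V), _⟩ =
        MonoidAlgebra.of E K (σ r k) • e ⟨τ r w, _⟩
    rw [← map_smul]
    congr 1
    apply Subtype.ext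
    exact h r k w
  have hTinj : Function.Injective T := by
    intro x y hxy
    have h1 : e ⟨τ r x, tau_mem_tw h r x.2⟩ = e ⟨τ r y, tau_mem_tw h r y.2⟩ := hxy
    have h2 := congrArg Subtype.val (e.injective h1)
    have h3 : τ r (x : V) = τ r (y : V) := h2
    apply Subtype.ext
    rw [← tau_inv_tau (τ := τ) r (x : V), h3, tau_inv_tau]
  set p := Nat.card R with hp
  have hpf : Fact p.Prime := ⟨hR⟩
  -- the `p`-th power of `T` is a scalar
  have hTpow : ∀ (n : ℕ) k w, (T ^ n) (repOf S k w) = repOf S (σ (r ^ n) k) ((T ^ n) w) := by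
    intro n
    induction n with
    | zero => intro k w; simp
    | succ n ih =>
      intro k w
      rw [pow_succ', Module.End.mul_apply, ih, hT, pow_succ', map_mul]
      rfl
  have hirr := irr_repOf S hS
  obtain ⟨c, hc⟩ := hirr.scalar (T ^ p) (by
    intro k w
    rw [hTpow, hp, pow_card_eq_one', map_one]
    rfl)
  have hc0 : c ≠ 0 := by
    rintro rfl
    obtain ⟨w, hw⟩ := exists_ne (0 : S)
    have h1 := hc w
    rw [zero_smul] at h1
    have h2 : Function.Injective (T ^ p) := by
      rw [Module.End.coe_pow]
      exact hTinj.iterate p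
    apply hw
    apply h2
    rw [h1, map_zero]
  obtain ⟨d, hd⟩ := IsAlgClosed.exists_pow_nat_eq c hR.pos
  have hd0 : d ≠ 0 := by
    rintro rfl
    rw [zero_pow hR.ne_zero] at hd
    exact hc0 hd.symm
  -- normalise
  let T' : Module.End E S := d⁻¹ • T
  have hT'p : T' ^ p = 1 := by
    apply LinearMap.ext
    intro w
    rw [smul_pow, LinearMap.smul_apply, hc, smul_smul, inv_pow, hd, inv_mul_cancel₀ hc0, one_smul]
    rfl
  have hT' : ∀ k w, T' (repOf S k w) = repOf S (σ r k) (T' w) := by
    intro k w
    rw [LinearMap.smul_apply, LinearMap.smul_apply, hT, map_smul]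
  let Tu : (Module.End E S)ˣ :=
    { val := T'
      inv := T' ^ (p - 1)
      val_inv := by
        rw [← pow_succ', Nat.sub_add_cancel hR.pos, hT'p]
      inv_val := by
        rw [← pow_succ, Nat.sub_add_cancel hR.pos, hT'p] }
  have hgen : ∀ x : R, x ∈ Subgroup.zpowers r := fun x => mem_zpowers_of_prime_card rfl hr
  have hordr : orderOf r = p := orderOf_eq_card_of_forall_mem_zpowers hgen
  let τu : R →* (Module.End E S)ˣ := monoidHomOfForallMemZpowers hgen (g' := Tu) (by
    rw [hordr]
    apply orderOf_dvd_of_pow_eq_one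
    apply Units.ext
    rw [Units.val_pow_eq_pow_val]
    exact hT'p)
  have hτur : τu r = Tu := monoidHomOfForallMemZpowers_apply_gen _ _
  let τS : Representation E R S := (Units.coeHom _).comp τu
  have hτSr : τS r = T' := by
    change ((τu r : (Module.End E S)ˣ) : Module.End E S) = T'
    rw [hτur]
  have hτScompat : ∀ s k w, τS s (repOf S k w) = repOf S (σ s k) (τS s w) := by
    intro s
    have hs := hgen s
    rw [← mem_powers_iff_mem_zpowers] at hs
    obtain ⟨n, rfl⟩ := hs
    change ∀ k w, τS (r ^ n) (repOf S k w) = repOf S (σ (r ^ n) k) (τS (r ^ n) w)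
    induction n with
    | zero => intro k w; simp
    | succ n ih =>
      intro k w
      rw [pow_succ', map_mul, Module.End.mul_apply, ih, hτSr, hT', map_mul]
      rfl
  have hFK : Nat.card F ∣ Nat.card K := Subgroup.card_dvd_of_injective i hinj
  have hFE : (Nat.card F : E) ≠ 0 := by
    intro h0
    obtain ⟨m, hm⟩ := hFK
    apply hK
    rw [hm, Nat.cast_mul, h0, zero_mul]
  have hmain := (finrank_eq (F := E) (K := F) (R := R) (V := S) hFE ((repOf S).comp i) τS σF
    (by
      intro s f w
      change τS s (repOf S (i f) w) = repOf S (i (σF s f)) (τS s w)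
      rw [hτScompat, hi])
    (by
      intro w hw
      apply Subtype.ext
      apply hfix
      intro f
      exact congrArg Subtype.val (hw f)) hfpf).1
  apply hRK
  exact Dim.prime_dvd_of_irr hR (repOf S) hsol hK hirr ⟨_, hmain⟩

end Rep

/-- **Frobenius subgroups and fixed points.** -/
theorem claimK {E : Type*} [Field E] [IsAlgClosed E] {K R F V : Type*} [Group K] [Finite K]
    [Group R] [Finite R] [Group F] [AddCommGroup V] [Module E V]
    [FiniteDimensional E V] (ρ : Representation E K V) (τ : Representation E R V)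
    (σ : R →* MulAut K) (σF : R →* MulAut F) (i : F →* K) (hinj : Function.Injective i)
    (hi : ∀ r f, i (σF r f) = σ r (i f))
    (hcompat : ∀ r k v, τ r (ρ k v) = ρ (σ r k) (τ r v))
    (hR : (Nat.card R).Prime) (hsol : Group.IsSolvable K) (hK : (Nat.card K : E) ≠ 0)
    (hRK : ¬ Nat.card R ∣ Nat.card K)
    (hfpf : ∀ r : R, r ≠ 1 → ∀ f, σF r f = f → f = 1)
    (hfix : ∀ v : V, (∀ f : F, ρ (i f) v = v) → v = 0)
    (x : K) (hx : ∀ r, σ r x = x) (hxC : ∀ v, (∀ r, τ r v = v) → ρ x v = v) (v : V) :
    ρ x v = v := by
  classical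
  have hFfin : Finite F := Finite.of_injective i hinj
  let instM : Module (MonoidAlgebra E K) V := Module.compHom V ρ.asAlgebraHom.toRingHom
  have hsm : ∀ (a : MonoidAlgebra E K) (w : V), a • w = ρ.asAlgebraHom a w := fun a w => rfl
  have hof : ∀ (k : K) (w : V), MonoidAlgebra.of E K k • w = ρ k w := by
    intro k w
    rw [hsm, MonoidAlgebra.of_apply, Representation.asAlgebraHom_single, one_smul]
  have instT : IsScalarTower E (MonoidAlgebra E K) V := by
    constructor
    intro c a w
    rw [hsm, hsm, map_smul]
    rfl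
  have hc : Compat (V := V) σ τ := by
    intro r k w
    rw [hof, hof]
    exact hcompat r k w
  have h1 := trivial_of_free (V := V) hK hc (fun r hr S hS e =>
    not_equiv_tw' (V := V) hR hsol hK hRK hc i hinj hi hfpf (by
      intro v hv
      apply hfix
      intro f
      rw [← hof]
      exact hv f) r hr S hS e) x hx (by
      intro v hv
      rw [hof]
      exact hxC v hv) v
  rwa [hof] at h1

end Cfsg.Agent.H575.ClaimK
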