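import Cfsg.Agent.H575.GroupM
import Cfsg.Agent.Lib.SubnormalJoin
import Cfsg.Agent.Lib.MinNormalNonabelian
import Cfsg.Agent.Lib.Cores
import Cfsg.Agent.SignalizersComponents.CoprimeBasic
import Cfsg.Agent.S0022
import Cfsg.Agent.S0023

/-!
# Fixed points of an element of prime order acting together with an `s`-group: the group part

`core`: a `p`-subgroup of `C_X(R)` normalized by `C_X(R)` lies in a normal `p`-subgroup.
-/

set_option autoImplicit false
set_option linter.unusedSectionVars false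

universe u

open Subgroup

namespace Cfsg.Agent.H575.Core

open Cfsg.Agent.H575.ModM

/-- The hypotheses of the core lemma. -/
structure Data {Γ : Type u} [Group Γ] [Finite Γ] (X F R : Subgroup Γ) (s : ℕ) : Prop where
  normal : X.Normal
  hF : IsPGroup s F
  hR : (Nat.card R).Prime
  hRs : Nat.card R ≠ s
  hRF : R ≤ normalizer (F : Set Γ)
  hCR : Nat.card ↥(F ⊓ centralizer (R : Set Γ)) ∣ s
  hsX : ¬ s ∣ Nat.card X
  hrX : ¬ Nat.card R ∣ Nat.card X
  hCX : X ⊓ centralizer (F : Set Γ) = ⊥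

theorem coprime_of_not_dvd {Γ : Type u} [Group Γ] [Finite Γ] {s : ℕ} (hs : s.Prime)
    {F X : Subgroup Γ} (hF : IsPGroup s F) (hsX : ¬ s ∣ Nat.card X) :
    (Nat.card F).Coprime (Nat.card X) := by
  have : Fact s.Prime := ⟨hs⟩
  obtain ⟨k, hk⟩ := hF.exists_card_eq
  rw [hk]
  exact Nat.Coprime.pow_left _ ((Nat.Prime.coprime_iff_not_dvd hs).mpr hsX)

theorem inf_eq_bot_of_coprime {Γ : Type u} [Group Γ] {A B : Subgroup Γ}
    (h : (Nat.card A).Coprime (Nat.card B)) : A ⊓ B = ⊥ :=
  (Subgroup.disjoint_of_coprime_natCard h).eq_bot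

/-- lifting fixed points modulo a normal subgroup -/
theorem inf_centralizer_map_le {Γ : Type u} [Group Γ] [Finite Γ] {t : ℕ} [Fact t.Prime]
    {X A N : Subgroup Γ} [N.Normal] (hNX : N ≤ X) (hA : IsPGroup t A) (ht : ¬ t ∣ Nat.card N) :
    X.map (QuotientGroup.mk' N) ⊓ centralizer ((A.map (QuotientGroup.mk' N) : Subgroup (Γ ⧸ N)) : Set (Γ ⧸ N)) ≤
      (X ⊓ centralizer (A : Set Γ)).map (QuotientGroup.mk' N) := by
  rintro _ ⟨⟨x, hx, rfl⟩, hc⟩
  have hy : ∀ a ∈ A, x⁻¹ * (a * x * a⁻¹) ∈ N := by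
    intro a ha
    have h1 := Subgroup.mem_centralizer_iff.mp hc (QuotientGroup.mk' N a) (Subgroup.mem_map_of_mem _ ha)
    have h2 : QuotientGroup.mk' N (x⁻¹ * (a * x * a⁻¹)) = 1 := by
      rw [map_mul, map_mul, map_mul, map_inv, map_inv, h1]
      group
    exact (QuotientGroup.eq_one_iff _).mp h2
  obtain ⟨d, hd, hfix⟩ := SignalizersComponents.CoprimeBasic.exists_fixed_in_coset A hA N ht
    (fun a _ d hd => (inferInstance : N.Normal).conj_mem d hd a) x hy
  refine ⟨x * d, ⟨X.mul_mem hx (hNX hd), Subgroup.mem_centralizer_iff.mpr hfix⟩, ?_⟩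
  rw [map_mul]
  have : QuotientGroup.mk' N d = 1 := (QuotientGroup.eq_one_iff _).mpr hd
  rw [this, mul_one]

theorem Data.quot {Γ : Type u} [Group Γ] [Finite Γ] {X F R : Subgroup Γ} {s : ℕ} (hs : s.Prime)
    (h : Data X F R s) {N : Subgroup Γ} [N.Normal] (hNX : N ≤ X) :
    Data (X.map (QuotientGroup.mk' N)) (F.map (QuotientGroup.mk' N)) (R.map (QuotientGroup.mk' N)) s := by
  have : Fact s.Prime := ⟨hs⟩
  have hNX' : Nat.card N ∣ Nat.card X := Subgroup.card_dvd_of_le hNX
  have hsN : ¬ s ∣ Nat.card N := fun hd => h.hsX (hd.trans hNX')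
  have hrN : ¬ Nat.card R ∣ Nat.card N := fun hd => h.hrX (hd.trans hNX')
  have hRN : R ⊓ N = ⊥ := inf_eq_bot_of_coprime ((Nat.Prime.coprime_iff_not_dvd h.hR).mpr hrN)
  have hFN : F ⊓ N = ⊥ := inf_eq_bot_of_coprime (coprime_of_not_dvd hs h.hF hsN)
  have hXn : X.Normal := h.normal
  have hcR : Nat.card (R.map (QuotientGroup.mk' N)) = Nat.card R := by
    refine Nat.card_congr (Equiv.symm (Equiv.ofBijective
      (fun r : R => (⟨QuotientGroup.mk' N r, Subgroup.mem_map_of_mem _ r.2⟩ :
        R.map (QuotientGroup.mk' N))) ⟨?_, ?_⟩))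
    · intro a b hab
      have h1 : QuotientGroup.mk' N (a : Γ) = QuotientGroup.mk' N (b : Γ) := congrArg Subtype.val hab
      have h2 : (a : Γ)⁻¹ * b ∈ N := QuotientGroup.eq.mp h1
      have h3 : (a : Γ)⁻¹ * b ∈ R ⊓ N := ⟨R.mul_mem (R.inv_mem a.2) b.2, h2⟩
      rw [hRN, Subgroup.mem_bot] at h3
      exact Subtype.ext (inv_mul_eq_one.mp h3)
    · rintro ⟨_, ⟨r, hr, rfl⟩⟩
      exact ⟨⟨r, hr⟩, rfl⟩
  refine ⟨hXn.map _ (QuotientGroup.mk'_surjective N), h.hF.map _, ?_, ?_, ?_, ?_, ?_, ?_, ?_⟩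
  · rw [hcR]; exact h.hR
  · rw [hcR]; exact h.hRs
  · refine (Subgroup.map_mono h.hRF).trans ?_
    exact Subgroup.le_normalizer_map _
  · refine dvd_trans ?_ h.hCR
    have hle : F.map (QuotientGroup.mk' N) ⊓
        centralizer ((R.map (QuotientGroup.mk' N) : Subgroup (Γ ⧸ N)) : Set (Γ ⧸ N)) ≤
        (F ⊓ centralizer (R : Set Γ)).map (QuotientGroup.mk' N) := by
      rintro _ ⟨⟨f, hf, rfl⟩, hc⟩
      refine ⟨f, ⟨hf, Subgroup.mem_centralizer_iff.mpr fun a ha => ?_⟩, rfl⟩
      have h1 := Subgroup.mem_centralizer_iff.mp hc (QuotientGroup.mk' N a)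
        (Subgroup.mem_map_of_mem _ ha)
      have h2 : QuotientGroup.mk' N (a * f * a⁻¹ * f⁻¹) = 1 := by
        rw [map_mul, map_mul, map_mul, map_inv, map_inv, h1]
        group
      have h3 : a * f * a⁻¹ * f⁻¹ ∈ F ⊓ N :=
        ⟨F.mul_mem (conj_mem_of_le_normalizer h.hRF ha hf) (F.inv_mem hf),
          (QuotientGroup.eq_one_iff _).mp h2⟩
      rw [hFN, Subgroup.mem_bot] at h3
      have h4 : a * f * a⁻¹ = f := by
        rw [mul_inv_eq_one] at h3
        exact h3
      exact mul_inv_eq_iff_eq_mul.mp h4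
    exact (Subgroup.card_dvd_of_le hle).trans (Subgroup.card_map_dvd _ _)
  · exact fun hd => h.hsX (hd.trans (Subgroup.card_map_dvd _ _))
  · rw [hcR]
    exact fun hd => h.hrX (hd.trans (Subgroup.card_map_dvd _ _))
  · rw [eq_bot_iff]
    refine (inf_centralizer_map_le hNX h.hF hsN).trans ?_
    rw [h.hCX, Subgroup.map_bot]

/-- a `p`-element and `q`-element is trivial -/
theorem eq_one_of_pow {Γ : Type u} [Group Γ] {p q a : ℕ} (hp : p.Prime) (hq : q.Prime)
    (hpq : p ≠ q) {x : Γ} (h1 : x ^ p ^ a = 1) (h2 : x ^ q = 1) : x = 1 := by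
  have h3 : orderOf x ∣ p ^ a := orderOf_dvd_of_pow_eq_one h1
  have h4 : orderOf x ∣ q := orderOf_dvd_of_pow_eq_one h2
  have h5 : (p ^ a).Coprime q := Nat.Coprime.pow_left _ ((Nat.coprime_primes hp hq).mpr hpq)
  exact orderOf_eq_one_iff.mp (Nat.dvd_one.mp (h5 ▸ Nat.dvd_gcd h3 h4))

theorem core_aux (s : ℕ) (hs : s.Prime) (n : ℕ) :
    ∀ (Γ : Type u) [Group Γ] [Finite Γ] (X F R : Subgroup Γ), Nat.card X = n → Data X F R s →
      Group.IsSolvable X → ∀ (p : ℕ), p.Prime → ∀ D : Subgroup Γ, D ≤ X ⊓ centralizer (R : Set Γ) →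
      X ⊓ centralizer (R : Set Γ) ≤ normalizer (D : Set Γ) → IsPGroup p D →
      ∃ M : Subgroup Γ, M.Normal ∧ M ≤ X ∧ IsPGroup p M ∧ D ≤ M := by
  induction n using Nat.strong_induction_on with
  | _ n ih =>
    intro Γ _ _ X F R hn hd hsol p hp D hD hDn hDp
    have : Fact p.Prime := ⟨hp⟩
    have : Fact s.Prime := ⟨hs⟩
    have hXn : X.Normal := hd.normal
    by_cases hDbot : D = ⊥
    · exact ⟨⊥, inferInstance, bot_le, IsPGroup.of_bot, hDbot.le⟩
    have hXbot : X ≠ ⊥ := by
      rintro rfl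
      exact hDbot (le_bot_iff.mp (hD.trans inf_le_left))
    -- `p` divides the order of `X`
    have hpX : p ∣ Nat.card X := by
      obtain ⟨k, hk⟩ := hDp.exists_card_eq
      have hk0 : k ≠ 0 := by
        rintro rfl
        rw [pow_zero] at hk
        exact hDbot (Subgroup.card_eq_one.mp hk)
      exact ((dvd_pow_self p hk0).trans hk.symm.dvd).trans
        (Subgroup.card_dvd_of_le (hD.trans inf_le_left))
    have hps : p ≠ s := fun h => hd.hsX (h ▸ hpX)
    have hRp : Nat.card R ≠ p := fun h => hd.hrX (h ▸ hpX)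
    obtain ⟨N, hNn, hNX, hNbot, hNmin⟩ :=
      Lib.SubnormalJoin.exists_minimal_normal_le X hXn hXbot
    have hNsol : Group.IsSolvable N :=
      Group.isSolvable_of_isSolvable_injective (Subgroup.inclusion_injective hNX)
    have hNab : ∀ x ∈ N, ∀ y ∈ N, Commute x y := by
      have h1 : ⁅N, N⁆ = ⊥ := by
        rcases hNmin ⁅N, N⁆ inferInstance (Subgroup.commutator_le_left N N) with h | h
        · exact h
        · exfalso
          apply hNbot
          have h2 : ∀ m : ℕ, (derivedSeries N m).map N.subtype = N := by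
            intro m
            induction m with
            | zero => rw [derivedSeries_zero, ← MonoidHom.range_eq_map, Subgroup.range_subtype]
            | succ m ihm => rw [derivedSeries_succ, Subgroup.map_commutator, ihm, h]
          obtain ⟨m, hm⟩ := hNsol
          rw [← h2 m, hm, Subgroup.map_bot]
      intro x hx y hy
      have h2 := Subgroup.commutator_mem_commutator hx hy
      rw [h1, Subgroup.mem_bot, commutatorElement_eq_one_iff_commute] at h2
      exact h2
    obtain ⟨q, hq, hNq, hNexp⟩ := Lib.MinNormalNonabelian.abelian_structure N hNbot hNmin hNab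
    have : Fact q.Prime := ⟨hq⟩
    have hqN : q ∣ Nat.card N := by
      obtain ⟨k, hk⟩ := hNq.exists_card_eq
      have hk0 : k ≠ 0 := by
        rintro rfl
        rw [pow_zero] at hk
        exact hNbot (Subgroup.card_eq_one.mp hk)
      exact (dvd_pow_self q hk0).trans hk.symm.dvd
    have hqX : q ∣ Nat.card X := hqN.trans (Subgroup.card_dvd_of_le hNX)
    have hsq : s ≠ q := fun h => hd.hsX (h ▸ hqX)
    have hRq : Nat.card R ≠ q := fun h => hd.hrX (h ▸ hqX)
    have hNX' : Nat.card N ∣ Nat.card X := Subgroup.card_dvd_of_le hNX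
    have hrN : ¬ Nat.card R ∣ Nat.card N := fun h => hd.hrX (h.trans hNX')
    have : Fact (Nat.card R).Prime := ⟨hd.hR⟩
    have hRpg : IsPGroup (Nat.card R) R := IsPGroup.of_card (n := 1) (by rw [pow_one])
    -- the quotient
    have hq' := hd.quot hs hNX
    have hlt : Nat.card (X.map (QuotientGroup.mk' N)) < n := by
      rw [← hn]
      refine lt_of_le_of_ne (Nat.le_of_dvd Nat.card_pos (Subgroup.card_map_dvd _ _)) fun h => ?_
      apply hNbot
      have h1 : Function.Bijective (fun x : X => (⟨QuotientGroup.mk' N x,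
          Subgroup.mem_map_of_mem _ x.2⟩ : X.map (QuotientGroup.mk' N))) := by
        refine Function.Surjective.bijective_of_nat_card_le ?_ h.ge
        rintro ⟨_, ⟨r, hr, rfl⟩⟩
        exact ⟨⟨r, hr⟩, rfl⟩
      rw [eq_bot_iff]
      intro x hx
      have h2 := h1.1 (a₁ := ⟨x, hNX hx⟩) (a₂ := 1) (Subtype.ext (by
        show QuotientGroup.mk' N x = QuotientGroup.mk' N 1
        rw [map_one]
        exact (QuotientGroup.eq_one_iff _).mpr hx))
      exact congrArg Subtype.val h2
    have hXsol' : Group.IsSolvable (X.map (QuotientGroup.mk' N)) :=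
      Group.isSolvable_of_surjective (f := (QuotientGroup.mk' N).subgroupMap X)
        ((QuotientGroup.mk' N).subgroupMap_surjective X)
    have hlift := inf_centralizer_map_le hNX hRpg hrN
    obtain ⟨M', hM'n, hM'X, hM'p, hDM'⟩ := ih _ hlt (Γ ⧸ N) _ _ _ rfl hq' hXsol' p hp
      (D.map (QuotientGroup.mk' N))
      (le_inf (Subgroup.map_mono (hD.trans inf_le_left)) (by
        rintro _ ⟨d, hd', rfl⟩
        rw [Subgroup.mem_centralizer_iff]
        rintro _ ⟨a, ha, rfl⟩
        rw [← map_mul, ← map_mul, Subgroup.mem_centralizer_iff.mp (hD hd').2 a ha]))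
      (hlift.trans ((Subgroup.map_mono hDn).trans (Subgroup.le_normalizer_map _)))
      (hDp.map _)
    -- the preimage
    let L : Subgroup Γ := M'.comap (QuotientGroup.mk' N)
    have hLn : L.Normal := hM'n.comap _
    have hNL : N ≤ L := by
      intro x hx
      show QuotientGroup.mk' N x ∈ M'
      rw [(QuotientGroup.eq_one_iff (N := N) x).mpr hx |> fun h => (h : QuotientGroup.mk' N x = 1)]
      exact M'.one_mem
    have hLX : L ≤ X := by
      intro x hx
      obtain ⟨y, hy, hxy⟩ := hM'X hx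
      have h1 : y⁻¹ * x ∈ N := QuotientGroup.eq.mp hxy
      have h2 : x = y * (y⁻¹ * x) := by group
      rw [h2]
      exact X.mul_mem hy (hNX h1)
    have hDL : D ≤ L := fun d hd' => hDM' (Subgroup.mem_map_of_mem _ hd')
    by_cases hqp : q = p
    · subst hqp
      refine ⟨L, hLn, hLX, ?_, hDL⟩
      refine hM'p.comap_of_ker_isPGroup _ ?_
      rw [QuotientGroup.ker_mk']
      exact hNq
    have hpq : p ≠ q := Ne.symm hqp
    -- an invariant Sylow subgroup
    have hFX := coprime_of_not_dvd hs hd.hF hd.hsX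
    have hRX : (Nat.card R).Coprime (Nat.card X) := (Nat.Prime.coprime_iff_not_dvd hd.hR).mpr hd.hrX
    have hRFn : F ⊔ R ≤ normalizer (F : Set Γ) := sup_le Subgroup.le_normalizer hd.hRF
    have hcardFR : (Nat.card ↥(F ⊔ R)).Coprime (Nat.card X) := by
      have h1 : Nat.card ↥(F ⊔ R) ∣ Nat.card F * Nat.card R :=
        SignalizersComponents.CoprimeBasic.card_sup_dvd hd.hRF
      exact Nat.Coprime.coprime_dvd_left h1 (Nat.Coprime.mul_left hFX hRX)
    have hLsol : Group.IsSolvable L :=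
      Group.isSolvable_of_isSolvable_injective (Subgroup.inclusion_injective hLX)
    obtain ⟨P0, hP0⟩ := S0023.result (F ⊔ R) L (by
      rw [Subgroup.normalizer_eq_top_iff.mpr hLn]; exact le_top)
      (Nat.Coprime.coprime_dvd_right (Subgroup.card_dvd_of_le hLX) hcardFR) (Or.inr hLsol) p
    let P : Subgroup Γ := (P0 : Subgroup L).map L.subtype
    have hPL : P ≤ L := Subgroup.map_subtype_le _
    have hPp : IsPGroup p P := P0.isPGroup'.map _
    have hFP : F ≤ normalizer (P : Set Γ) := le_sup_left.trans hP0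
    have hRP : R ≤ normalizer (P : Set Γ) := le_sup_right.trans hP0
    have hNP : N ⊔ P = L := by
      refine le_antisymm (sup_le hNL hPL) ?_
      rw [← Subgroup.relIndex_eq_one]
      have h1 : (N ⊔ P).relIndex L ∣ (P0 : Subgroup L).index := by
        have h2 : P.relIndex L = (P0 : Subgroup L).index := by
          show (((P0 : Subgroup L).map L.subtype).comap L.subtype).index = _
          rw [Subgroup.comap_map_eq_self_of_injective L.subtype_injective]
        rw [← h2]
        exact Subgroup.relIndex_dvd_of_le_left L le_sup_right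
      have h3 : (N ⊔ P).relIndex L ∣ Nat.card M' := by
        refine (Subgroup.relIndex_dvd_of_le_left L (le_sup_left : N ≤ N ⊔ P)).trans ?_
        have h4 : N = (⊥ : Subgroup (Γ ⧸ N)).comap (QuotientGroup.mk' N) := by
          rw [MonoidHom.comap_bot, QuotientGroup.ker_mk']
        have h5 : N.relIndex L = (⊥ : Subgroup (Γ ⧸ N)).relIndex (L.map (QuotientGroup.mk' N)) := by
          conv_lhs => rw [h4]
          rw [Subgroup.relIndex_comap]
        rw [h5, Subgroup.relIndex_bot_left]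
        exact Subgroup.card_dvd_of_le (Subgroup.map_comap_le _ _)
      obtain ⟨k, hk⟩ := hM'p.exists_card_eq
      rw [hk] at h3
      have h6 : (p ^ k).Coprime (P0 : Subgroup L).index :=
        Nat.Coprime.pow_left _ ((Nat.Prime.coprime_iff_not_dvd hp).mpr P0.not_dvd_index)
      exact Nat.dvd_one.mp (h6 ▸ Nat.dvd_gcd h3 h1)
    -- `D` centralizes `C_N(R)`
    have hDC : ∀ d ∈ D, ∀ v ∈ N, v ∈ centralizer (R : Set Γ) → d * v = v * d := by
      intro d hd' v hv hvR
      have h1 : d * v * d⁻¹ * v⁻¹ ∈ D ⊓ N := by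
        constructor
        · have h2 : v * d⁻¹ * v⁻¹ ∈ D :=
            conj_mem_of_le_normalizer hDn ⟨hNX hv, hvR⟩ (D.inv_mem hd')
          have h3 : d * v * d⁻¹ * v⁻¹ = d * (v * d⁻¹ * v⁻¹) := by group
          rw [h3]
          exact D.mul_mem hd' h2
        · exact N.mul_mem (hNn.conj_mem v hv d) (N.inv_mem hv)
      have h2 : D ⊓ N = ⊥ := by
        rw [eq_bot_iff]
        rintro x ⟨hx1, hx2⟩
        obtain ⟨k, hk⟩ := hDp ⟨x, hx1⟩
        exact eq_one_of_pow hp hq hpq (congrArg Subtype.val hk) (hNexp x hx2)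
      rw [h2, Subgroup.mem_bot, mul_inv_eq_one, mul_inv_eq_iff_eq_mul] at h1
      exact h1
    -- `D ≤ P`
    have hDP : D ≤ P := by
      intro d hd'
      have hdR : ∀ a ∈ R, a * d = d * a := fun a ha =>
        Subgroup.mem_centralizer_iff.mp (hD hd').2 a ha
      obtain ⟨x, hx, y, hy, hxR, hyR, hxy⟩ :=
        SignalizersComponents.CoprimeBasic.exists_factorization_of_centralizing
          (p := Nat.card R) (X := N) (Y := P)
          (by rw [Subgroup.normalizer_eq_top_iff.mpr hNn]; exact le_top) R hRpg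
          (fun a _ x hx => hNn.conj_mem x hx a)
          (fun a ha y hy => conj_mem_of_le_normalizer hRP ha hy)
          (fun h => hrN (h.trans (Subgroup.card_dvd_of_le inf_le_left))) d
          (by rw [hNP]; exact hDL hd') hdR
      have h1 : d * x = x * d := hDC d hd' x hx (Subgroup.mem_centralizer_iff.mpr hxR)
      have hc : Commute d y := by
        have : y = x⁻¹ * d := by rw [← hxy]; group
        rw [this]
        exact (Commute.inv_right h1).mul_right (Commute.refl d)
      have hx1 : x = d * y⁻¹ := by rw [← hxy]; group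
      obtain ⟨k, hk⟩ := hDp ⟨d, hd'⟩
      obtain ⟨l, hl⟩ := hPp ⟨y, hy⟩
      have hk' : d ^ p ^ k = 1 := congrArg Subtype.val hk
      have hl' : y ^ p ^ l = 1 := congrArg Subtype.val hl
      have hx2 : x ^ p ^ (k + l) = 1 := by
        rw [hx1, (hc.inv_right).mul_pow, pow_add, pow_mul, hk', one_pow, inv_pow, mul_comm (p ^ k),
          pow_mul, hl', one_pow, inv_one, one_mul]
      have hx3 : x = 1 := eq_one_of_pow hp hq hpq hx2 (hNexp x hx)
      rw [← hxy, hx3, one_mul]
      exact hy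
    have hcent : ∀ d ∈ D, ∀ v ∈ N, d * v = v * d := by
      intro d hd'
      refine GroupM.group_lemma hpq hps hsq (fun x hx y hy => hNab x hx y hy) hNexp hPp hd.hF hd.hR
        hRp hd.hRs hRq hRP hd.hRF hFP hd.hCR ?_ ?_ (hDP hd') (hD hd').2 (hDC d hd')
      · rw [eq_bot_iff, ← hd.hCX]
        exact inf_le_inf_right _ (hPL.trans hLX)
      · rw [eq_bot_iff, ← hd.hCX]
        exact inf_le_inf_right _ hNX
    -- the normal `p`-subgroup
    refine ⟨P ⊓ centralizer (N : Set Γ), ?_, inf_le_left.trans (hPL.trans hLX),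
      hPp.to_le inf_le_left, le_inf hDP fun d hd' => Subgroup.mem_centralizer_iff.mpr fun v hv =>
        (hcent d hd' v hv).symm⟩
    refine ⟨fun x hx g => ?_⟩
    have hCn : (centralizer (N : Set Γ)).Normal := inferInstance
    have hgC : g * x * g⁻¹ ∈ centralizer (N : Set Γ) := hCn.conj_mem x hx.2 g
    have hgL : g * x * g⁻¹ ∈ L := hLn.conj_mem x (hPL hx.1) g
    refine ⟨?_, hgC⟩
    rw [← hNP] at hgL
    obtain ⟨a, ha, b, hb, hab⟩ := (SignalizersComponents.CoprimeBasic.mem_sup_iff
      (X := N) (Y := P) (by rw [Subgroup.normalizer_eq_top_iff.mpr hNn]; exact le_top) _).mp hgL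
    obtain ⟨k, hk⟩ := hPp ⟨x, hx.1⟩
    obtain ⟨l, hl⟩ := hPp ⟨b, hb⟩
    have hk' : x ^ p ^ k = 1 := congrArg Subtype.val hk
    have hl' : b ^ p ^ l = 1 := congrArg Subtype.val hl
    have hc1 : Commute (g * x * g⁻¹) a :=
      ((Subgroup.mem_centralizer_iff.mp hgC a ha).symm : _)
    have hc : Commute (g * x * g⁻¹) b := by
      have : b = a⁻¹ * (g * x * g⁻¹) := by rw [← hab]; group
      rw [this]
      exact (Commute.inv_right hc1).mul_right (Commute.refl _)
    have ha1 : a = (g * x * g⁻¹) * b⁻¹ := by rw [← hab]; group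
    have ha2 : a ^ p ^ (k + l) = 1 := by
      rw [ha1, (hc.inv_right).mul_pow, conj_pow, pow_add, pow_mul, hk', one_pow, mul_one,
        mul_inv_cancel, inv_pow, mul_comm (p ^ k), pow_mul, hl', one_pow, inv_one, one_mul]
    have ha3 : a = 1 := eq_one_of_pow hp hq hpq ha2 (hNexp a ha)
    rw [← hab, ha3, one_mul]
    exact hb

end Cfsg.Agent.H575.Core
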