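import Cfsg.Agent.H575.Core
import Cfsg.Agent.Lib.CoprimeAbelian
import Cfsg.Prelude.Def_Transfer

/-!
# An element of prime order acting on an extraspecial group `F` with `[F, R] = F`, and the
# Fitting subgroup of the fixed points
-/

set_option autoImplicit false
set_option linter.unusedSectionVars false

universe u

open Subgroup
open scoped commutatorElement

namespace Cfsg.Agent.H575.Extra

open Cfsg.Agent.H575.ModM Cfsg.Agent.H575.Core

theorem ne_of_commutator_eq {Γ : Type u} [Group Γ] [Finite Γ] {R F : Subgroup Γ} {r s : ℕ}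
    (hs : s.Prime) (hR : Nat.card R = r) (hF : IsPGroup s F) (hFbot : F ≠ ⊥)
    (hRF : R ≤ normalizer (F : Set Γ)) (hcomm : ⁅F, R⁆ = F) : r ≠ s := by
  rintro rfl
  have : Fact r.Prime := ⟨hs⟩
  obtain ⟨k, hk⟩ := hF.exists_card_eq
  have h1 : Nat.card ↥(F ⊔ R) ∣ r ^ (k + 1) := by
    rw [pow_succ, ← hk, ← hR, hR]
    have := SignalizersComponents.CoprimeBasic.card_sup_dvd hRF
    rwa [hR] at this
  have h2 : IsPGroup r ↥(F ⊔ R) := by
    obtain ⟨l, -, hl⟩ := (Nat.dvd_prime_pow hs).mp h1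
    exact IsPGroup.of_card hl
  have h3 : Group.IsNilpotent ↥(F ⊔ R) := h2.isNilpotent
  obtain ⟨n, hn⟩ := (Subgroup.isNilpotent_iff_lowerCentralSeries (F ⊔ R)).mp h3
  have h4 : ∀ m : ℕ, F ≤ (F ⊔ R).lowerCentralSeries m := by
    intro m
    induction m with
    | zero => exact le_sup_left
    | succ m ih =>
      rw [Subgroup.lowerCentralSeries_succ]
      conv_lhs => rw [← hcomm]
      exact Subgroup.commutator_mono ih le_sup_right
  exact hFbot (le_bot_iff.mp (hn ▸ h4 n))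

/-- `C_F(R) ≤ Z(F)` if `[F, R] = F`, `F' ≤ Z(F)` and the orders are coprime. -/
theorem cent_le {Γ : Type u} [Group Γ] [Finite Γ] {R F : Subgroup Γ} {s : ℕ}
    (hRs : (Nat.card R).Coprime s) (hF : IsPGroup s F)
    (hab : ∀ x y : F, x * y * x⁻¹ * y⁻¹ ∈ center F)
    (hRF : R ≤ normalizer (F : Set Γ)) (hcomm : ⁅F, R⁆ = F) :
    F ⊓ centralizer (R : Set Γ) ≤ (center F).map F.subtype := by
  classical
  let inst : CommGroup (F ⧸ center F) := { (inferInstance : Group (F ⧸ center F)) with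
    mul_comm := by
      intro x y
      induction x using QuotientGroup.induction_on with | H x => ?_
      induction y using QuotientGroup.induction_on with | H y => ?_
      change ((x * y : F) : F ⧸ center F) = ((y * x : F) : F ⧸ center F)
      rw [QuotientGroup.eq]
      have h := hab y⁻¹ x⁻¹
      have h2 : (x * y)⁻¹ * (y * x) = y⁻¹ * x⁻¹ * y⁻¹⁻¹ * x⁻¹⁻¹ := by group
      rw [h2]
      exact h }
  have : Fintype R := Fintype.ofFinite R
  let N : F →* F ⧸ center F :=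
    { toFun := fun x => ∏ a : R, QuotientGroup.mk' (center F)
        ⟨a * x * (a : Γ)⁻¹, conj_mem_of_le_normalizer hRF a.2 x.2⟩
      map_one' := by
        refine Finset.prod_eq_one fun a _ => ?_
        have : (⟨a * ((1 : F) : Γ) * (a : Γ)⁻¹, conj_mem_of_le_normalizer hRF a.2 (1 : F).2⟩ : F) = 1 := by
          refine Subtype.ext ?_
          show (a : Γ) * 1 * (a : Γ)⁻¹ = 1
          group
        rw [this, map_one]
      map_mul' := by
        intro x y
        rw [← Finset.prod_mul_distrib]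
        refine Finset.prod_congr rfl fun a _ => ?_
        rw [← map_mul]
        refine congrArg _ (Subtype.ext ?_)
        show (a : Γ) * (x * y) * (a : Γ)⁻¹ = a * x * (a : Γ)⁻¹ * (a * y * (a : Γ)⁻¹)
        group }
  have hN : ∀ x : F, N x = ∏ a : R, QuotientGroup.mk' (center F)
        ⟨a * x * (a : Γ)⁻¹, conj_mem_of_le_normalizer hRF a.2 x.2⟩ := fun x => rfl
  have hNconj : ∀ (x : F) (b : R), N ⟨b * x * (b : Γ)⁻¹, conj_mem_of_le_normalizer hRF b.2 x.2⟩ = N x := by
    intro x b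
    rw [hN, hN]
    refine Fintype.prod_equiv (Equiv.mulRight b) _ _ fun a => ?_
    refine congrArg _ (Subtype.ext ?_)
    show (a : Γ) * (b * x * (b : Γ)⁻¹) * (a : Γ)⁻¹ = ((a * b : R) : Γ) * x * ((a * b : R) : Γ)⁻¹
    rw [Subgroup.coe_mul]
    group
  have hker : ⁅F, R⁆ ≤ N.ker.map F.subtype := by
    rw [Subgroup.commutator_le]
    intro x hx b hb
    let x' : F := ⟨x, hx⟩
    let y' : F := ⟨b * x * b⁻¹, conj_mem_of_le_normalizer hRF hb hx⟩
    refine ⟨x' * y'⁻¹, ?_, ?_⟩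
    · show N (x' * y'⁻¹) = 1
      rw [map_mul, map_inv, mul_inv_eq_one]
      exact (hNconj x' ⟨b, hb⟩).symm
    · show x * (b * x * b⁻¹)⁻¹ = ⁅x, b⁆
      rw [commutatorElement_def]
      group
  have hN1 : ∀ x : F, N x = 1 := by
    intro x
    have h1 : (x : Γ) ∈ N.ker.map F.subtype := by
      apply hker
      rw [hcomm]
      exact x.2
    obtain ⟨y, hy, hxy⟩ := h1
    have : y = x := Subtype.ext hxy
    rw [← this]
    exact hy
  rintro x ⟨hxF, hxR⟩
  refine ⟨⟨x, hxF⟩, ?_, rfl⟩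
  have h1 := hN1 ⟨x, hxF⟩
  rw [hN] at h1
  have h2 : ∀ a : R, QuotientGroup.mk' (center F)
        ⟨a * ((⟨x, hxF⟩ : F) : Γ) * (a : Γ)⁻¹, conj_mem_of_le_normalizer hRF a.2 (⟨x, hxF⟩ : F).2⟩ =
        QuotientGroup.mk' (center F) ⟨x, hxF⟩ := by
    intro a
    refine congrArg _ (Subtype.ext ?_)
    show (a : Γ) * x * (a : Γ)⁻¹ = x
    rw [Subgroup.mem_centralizer_iff.mp hxR a a.2]
    group
  rw [Finset.prod_congr rfl fun a _ => h2 a, Finset.prod_const, Finset.card_univ,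
    ← Nat.card_eq_fintype_card] at h1
  obtain ⟨k, hk⟩ := hF ⟨x, hxF⟩
  have h3 : (QuotientGroup.mk' (center F) ⟨x, hxF⟩) ^ s ^ k = 1 := by
    rw [← map_pow, hk, map_one]
  have h4 := (Nat.Coprime.pow_right k hRs)
  have h5 : orderOf (QuotientGroup.mk' (center F) ⟨x, hxF⟩) ∣ 1 := by
    rw [← h4]
    exact Nat.dvd_gcd (orderOf_dvd_of_pow_eq_one h1) (orderOf_dvd_of_pow_eq_one h3)
  have h6 := orderOf_eq_one_iff.mp (Nat.dvd_one.mp h5)
  exact (QuotientGroup.eq_one_iff _).mp h6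

/-- The consequences of the hypotheses on an extraspecial group. -/
theorem extra_facts {Γ : Type u} [Group Γ] [Finite Γ] {R F X : Subgroup Γ} {r s : ℕ}
    (hr : r.Prime) (hs : s.Prime)
    (hR : Nat.card R = r) (hF : Cfsg.IsExtraspecial s F)
    (hRF : R ≤ normalizer (F : Set Γ)) (hcomm : ⁅F, R⁆ = F) (hFX : F ≤ normalizer (X : Set Γ))
    (hCF : X ⊓ centralizer (F : Set Γ) = ⊥) :
    r ≠ s ∧ Nat.card ↥(F ⊓ centralizer (R : Set Γ)) ∣ s ∧ ¬ s ∣ Nat.card X := by
  have : Fact s.Prime := ⟨hs⟩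
  have hFbot : F ≠ ⊥ := by
    rintro rfl
    have h1 : Nat.card (center (⊥ : Subgroup Γ)) = 1 := by
      have h2 := Subgroup.card_le_card_group (center (⊥ : Subgroup Γ))
      rw [Subgroup.card_bot] at h2
      exact le_antisymm h2 Nat.card_pos
    rw [hF.2] at h1
    exact hs.one_lt.ne' h1
  have hrs := ne_of_commutator_eq hs hR hF.1.1 hFbot hRF hcomm
  refine ⟨hrs, ?_, ?_⟩
  · have h1 := cent_le (s := s) (by rw [hR]; exact (Nat.coprime_primes hr hs).mpr hrs) hF.1.1
      (by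
        intro x y
        rw [← hF.1.2.2]
        exact Subgroup.commutator_mem_commutator (Subgroup.mem_top x) (Subgroup.mem_top y)) hRF hcomm
    refine (Subgroup.card_dvd_of_le h1).trans ?_
    rw [Subgroup.card_map_of_injective F.subtype_injective, hF.2]
  · intro hsX
    -- fixed points of `F` on `X`
    let A : MulAction F X :=
      { smul := fun f x => ⟨f * x * (f : Γ)⁻¹, conj_mem_of_le_normalizer hFX f.2 x.2⟩
        one_smul := fun x => Subtype.ext (by
          show ((1 : F) : Γ) * x * ((1 : F) : Γ)⁻¹ = x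
          simp)
        mul_smul := fun a b x => Subtype.ext (by
          show ((a * b : F) : Γ) * x * ((a * b : F) : Γ)⁻¹ = a * (b * x * (b : Γ)⁻¹) * (a : Γ)⁻¹
          rw [Subgroup.coe_mul]
          group) }
    have hsm : ∀ (f : F) (x : X), ((f • x : X) : Γ) = f * x * (f : Γ)⁻¹ := fun f x => rfl
    obtain ⟨z, hz, hne⟩ := hF.1.1.exists_fixed_point_of_prime_dvd_card_of_fixed_point (α := X)
      hsX (a := 1) (fun f => Subtype.ext (by rw [hsm]; simp))
    have h1 : (z : Γ) ∈ X ⊓ centralizer (F : Set Γ) := by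
      refine ⟨z.2, Subgroup.mem_centralizer_iff.mpr fun f hf => ?_⟩
      have h2 := congrArg Subtype.val (hz ⟨f, hf⟩)
      rw [hsm] at h2
      exact mul_inv_eq_iff_eq_mul.mp h2
    rw [hCF, Subgroup.mem_bot] at h1
    exact hne (Subtype.ext h1.symm)

theorem inf_centralizer_subgroupOf {Γ : Type u} [Group Γ] {A B H : Subgroup Γ} (hB : B ≤ H) :
    A.subgroupOf H ⊓ centralizer (B.subgroupOf H : Set H) =
      (A ⊓ centralizer (B : Set Γ)).subgroupOf H := by
  ext x
  constructor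
  · rintro ⟨h1, h2⟩
    refine ⟨h1, Subgroup.mem_centralizer_iff.mpr fun b hb => ?_⟩
    exact congrArg Subtype.val (Subgroup.mem_centralizer_iff.mp h2 ⟨b, hB hb⟩ hb)
  · rintro ⟨h1, h2⟩
    refine ⟨h1, Subgroup.mem_centralizer_iff.mpr fun b hb => Subtype.ext ?_⟩
    exact Subgroup.mem_centralizer_iff.mp h2 b hb

theorem subgroupOf_le_normalizer {Γ : Type u} [Group Γ] [Finite Γ] {A B H : Subgroup Γ}
    (hAB : A ≤ normalizer (B : Set Γ)) :
    A.subgroupOf H ≤ normalizer (B.subgroupOf H : Set H) := by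
  refine le_normalizer_of_conj fun a ha b hb => ?_
  exact conj_mem_of_le_normalizer hAB ha hb

/-- The data in the normalizer of `X`. -/
theorem data_normalizer {Γ : Type u} [Group Γ] [Finite Γ] {R F X : Subgroup Γ} {s : ℕ}
    (hF : IsPGroup s F) (hR : (Nat.card R).Prime) (hRs : Nat.card R ≠ s)
    (hRF : R ≤ normalizer (F : Set Γ)) (hRX : R ≤ normalizer (X : Set Γ))
    (hFX : F ≤ normalizer (X : Set Γ))
    (hCR : Nat.card ↥(F ⊓ centralizer (R : Set Γ)) ∣ s)
    (hsX : ¬ s ∣ Nat.card X) (hrX : ¬ Nat.card R ∣ Nat.card X)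
    (hCF : X ⊓ centralizer (F : Set Γ) = ⊥) :
    Data (X.subgroupOf (normalizer (X : Set Γ))) (F.subgroupOf (normalizer (X : Set Γ)))
      (R.subgroupOf (normalizer (X : Set Γ))) s := by
  have hXH : X ≤ normalizer (X : Set Γ) := Subgroup.le_normalizer
  have hcard : ∀ {K : Subgroup Γ}, K ≤ normalizer (X : Set Γ) →
      Nat.card (K.subgroupOf (normalizer (X : Set Γ))) = Nat.card K := fun hK =>
    Nat.card_congr (Subgroup.subgroupOfEquivOfLe hK).toEquiv
  refine ⟨Subgroup.normal_in_normalizer, hF.comap_of_injective _ (Subgroup.subtype_injective _),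
    ?_, ?_, subgroupOf_le_normalizer hRF, ?_, ?_, ?_, ?_⟩
  · rw [hcard hRX]; exact hR
  · rw [hcard hRX]; exact hRs
  · rw [inf_centralizer_subgroupOf hRX, hcard (inf_le_left.trans hFX)]
    exact hCR
  · rw [hcard hXH]; exact hsX
  · rw [hcard hRX, hcard hXH]; exact hrX
  · rw [inf_centralizer_subgroupOf hFX, hCF]
    exact Subgroup.bot_subgroupOf _

/-- The core lemma without normality of `X` in the whole group. -/
theorem exists_p_subgroup {Γ : Type u} [Group Γ] [Finite Γ] {R F X : Subgroup Γ} {s : ℕ}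
    (hs : s.Prime) (hF : IsPGroup s F) (hR : (Nat.card R).Prime) (hRs : Nat.card R ≠ s)
    (hRF : R ≤ normalizer (F : Set Γ)) (hRX : R ≤ normalizer (X : Set Γ))
    (hFX : F ≤ normalizer (X : Set Γ))
    (hCR : Nat.card ↥(F ⊓ centralizer (R : Set Γ)) ∣ s)
    (hsX : ¬ s ∣ Nat.card X) (hrX : ¬ Nat.card R ∣ Nat.card X)
    (hCF : X ⊓ centralizer (F : Set Γ) = ⊥) (hsol : Group.IsSolvable X) {p : ℕ} (hp : p.Prime)
    {D : Subgroup Γ} (hD : D ≤ X ⊓ centralizer (R : Set Γ))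
    (hDn : X ⊓ centralizer (R : Set Γ) ≤ normalizer (D : Set Γ)) (hDp : IsPGroup p D) :
    ∃ M : Subgroup Γ, X ≤ normalizer (M : Set Γ) ∧ F ≤ normalizer (M : Set Γ) ∧
      R ≤ normalizer (M : Set Γ) ∧ M ≤ X ∧ IsPGroup p M ∧ D ≤ M := by
  let H : Subgroup Γ := normalizer (X : Set Γ)
  have hXH : X ≤ H := Subgroup.le_normalizer
  have hd := data_normalizer hF hR hRs hRF hRX hFX hCR hsX hrX hCF
  have hsol' : Group.IsSolvable (X.subgroupOf H) :=
    Group.isSolvable_of_isSolvable_injective (f := (Subgroup.subgroupOfEquivOfLe hXH).toMonoidHom)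
      (Subgroup.subgroupOfEquivOfLe hXH).injective
  obtain ⟨M, hMn, hMX, hMp, hDM⟩ := core_aux s hs _ H _ _ _ rfl hd hsol' p hp (D.subgroupOf H)
    (by
      rw [inf_centralizer_subgroupOf hRX]
      exact Subgroup.comap_mono hD)
    (by
      rw [inf_centralizer_subgroupOf hRX]
      exact subgroupOf_le_normalizer hDn)
    (hDp.comap_of_injective _ H.subtype_injective)
  have hMH : H ≤ normalizer ((M.map H.subtype : Subgroup Γ) : Set Γ) := by
    refine le_normalizer_of_conj ?_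
    rintro g hg _ ⟨m, hm, rfl⟩
    exact ⟨⟨g, hg⟩ * m * ⟨g, hg⟩⁻¹, hMn.conj_mem m hm ⟨g, hg⟩, rfl⟩
  refine ⟨M.map H.subtype, hXH.trans hMH, hFX.trans hMH, hRX.trans hMH, ?_, hMp.map _, ?_⟩
  · rintro _ ⟨m, hm, rfl⟩
    exact hMX hm
  · intro d hd'
    exact ⟨⟨d, hXH (hD hd').1⟩, hDM hd', rfl⟩

/-- The Fitting subgroup of the fixed points lies in the Fitting subgroup. -/
theorem fitting_le {Γ : Type u} [Group Γ] [Finite Γ] {R F X : Subgroup Γ} {s : ℕ}
    (hs : s.Prime) (hF : IsPGroup s F) (hR : (Nat.card R).Prime) (hRs : Nat.card R ≠ s)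
    (hRF : R ≤ normalizer (F : Set Γ)) (hRX : R ≤ normalizer (X : Set Γ))
    (hFX : F ≤ normalizer (X : Set Γ))
    (hCR : Nat.card ↥(F ⊓ centralizer (R : Set Γ)) ∣ s)
    (hsX : ¬ s ∣ Nat.card X) (hrX : ¬ Nat.card R ∣ Nat.card X)
    (hCF : X ⊓ centralizer (F : Set Γ) = ⊥) (hsol : Group.IsSolvable X) :
    (Cfsg.fittingSubgroup ↥(X ⊓ centralizer (R : Set Γ))).map (X ⊓ centralizer (R : Set Γ)).subtype ≤
      (Cfsg.fittingSubgroup X).map X.subtype := by
  rw [Lib.Cores.fittingSubgroup_eq_iSup_pCore, Subgroup.map_iSup]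
  refine iSup_le fun p => ?_
  let C : Subgroup Γ := X ⊓ centralizer (R : Set Γ)
  have hCn : C ≤ normalizer (((Cfsg.pCore p C).map C.subtype : Subgroup Γ) : Set Γ) := by
    refine le_normalizer_of_conj ?_
    rintro g hg _ ⟨m, hm, rfl⟩
    exact ⟨⟨g, hg⟩ * m * ⟨g, hg⟩⁻¹,
      (Lib.Cores.pCore_normal (G := C) (p : ℕ)).conj_mem m hm ⟨g, hg⟩, rfl⟩
  obtain ⟨M, hXM, -, -, hMX, hMp, hDM⟩ := exists_p_subgroup hs hF hR hRs hRF hRX hFX hCR hsX hrX hCF
    hsol p.2 (Subgroup.map_subtype_le (Cfsg.pCore p C)) hCn ((Lib.Cores.pCore_isPGroup (p : ℕ)).map _)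
  refine hDM.trans ?_
  have h1 : M.subgroupOf X ≤ Cfsg.fittingSubgroup X := by
    have : Fact (p : ℕ).Prime := ⟨p.2⟩
    have h2 : (M.subgroupOf X).Normal := (Subgroup.normal_subgroupOf_iff_le_normalizer hMX).mpr hXM
    refine (Lib.Cores.le_pCore h2 ?_).trans (Lib.Cores.pCore_le_fittingSubgroup (p : ℕ))
    exact hMp.comap_of_injective _ X.subtype_injective
  intro x hx
  exact ⟨⟨x, hMX hx⟩, h1 hx, rfl⟩

end Cfsg.Agent.H575.Extra
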