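import Cfsg.Agent.H575.ExtraIrr
import Cfsg.Agent.H575.GroupM

/-!
# Fixed points of an element of prime order acting together with an extraspecial group
-/

set_option autoImplicit false
set_option linter.unusedSectionVars false

namespace Cfsg.Agent.H575.ExtraFix

open Module Subgroup TensorProduct Cfsg.Agent.H575.Dim Cfsg.Agent.H575.ModM
  Cfsg.Agent.H575.ExtraMod Cfsg.Agent.H575.ExtraIrr

section Closed

variable {E : Type*} [Field E] [IsAlgClosed E] {H V : Type*} [Group H] [Finite H]
  [AddCommGroup V] [Module E V] [FiniteDimensional E V]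

theorem exists_irr (ρ : Representation E H V) [Nontrivial V] :
    ∃ (W : Submodule E V) (hW : ∀ h, ∀ w ∈ W, ρ (MonoidHom.id H h) w ∈ W),
      Irr (sub ρ (MonoidHom.id H) W hW) := by
  let S : Set (Submodule E V) := {W | W ≠ ⊥ ∧ ∀ h, ∀ w ∈ W, ρ h w ∈ W}
  have hS : S.Nonempty := ⟨⊤, top_ne_bot, fun _ _ _ => Submodule.mem_top⟩
  obtain ⟨W, ⟨hW0, hW⟩, hmin⟩ :=
    WellFounded.has_min (wellFounded_lt : WellFounded ((· < ·) : Submodule E V → _ → Prop)) S hS
  refine ⟨W, hW, ?_, ?_⟩
  · obtain ⟨w, hw, hw0⟩ := Submodule.exists_mem_ne_zero_of_ne_bot hW0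
    exact ⟨⟨⟨w, hw⟩, 0, fun h => hw0 (congrArg Subtype.val h)⟩⟩
  · intro U hU
    by_cases hU0 : U = ⊥
    · exact Or.inl hU0
    · right
      have h1 : U.map W.subtype ∈ S := by
        refine ⟨fun h => hU0 ?_, ?_⟩
        · rw [eq_bot_iff]
          intro u hu
          have h2 : (u : V) ∈ U.map W.subtype := ⟨u, hu, rfl⟩
          rw [h, Submodule.mem_bot] at h2
          exact Subtype.ext h2
        · rintro h _ ⟨u, hu, rfl⟩
          exact ⟨_, hU h u hu, rfl⟩
      have h2 : U.map W.subtype ≤ W := Submodule.map_subtype_le W U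
      have h3 : U.map W.subtype = W := by
        by_contra hne
        exact hmin _ h1 (lt_of_le_of_ne h2 hne)
      rw [eq_top_iff]
      rintro ⟨w, hw⟩ _
      rw [← h3] at hw
      obtain ⟨u, hu, huw⟩ := hw
      have : u = ⟨w, by rw [← h3]; exact ⟨u, hu, huw⟩⟩ := Subtype.ext huw
      rw [← this]
      exact hu

theorem exists_fixed_closed {r s : ℕ} (ρ : Representation E H V) [Nontrivial V]
    (F R : Subgroup H) [hFn : F.Normal] (hFR : F ⊔ R = ⊤) (hED : ED F R r s)
    (hrE : (r : E) ≠ 0) (hsE : (s : E) ≠ 0)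
    (hCV : ∀ v, (∀ f ∈ F, ρ f v = v) → v = 0) (hr : ¬ ∃ k : ℕ, r = 2 ^ k + 1) :
    ∃ v : V, v ≠ 0 ∧ ∀ a ∈ R, ρ a v = v := by
  have hs : Fact s.Prime := ⟨hED.hs⟩
  obtain ⟨W, hW, hirr⟩ := exists_irr ρ
  have hcop : (Nat.card R).Coprime (Nat.card F) := by
    obtain ⟨k, hk⟩ := hED.hF.exists_card_eq
    rw [hED.hR, hk]
    exact Nat.Coprime.pow_right _ ((Nat.coprime_primes hED.hr hED.hs).mpr hED.hrs)
  have hidx : F.index = r := by
    have hcomp : Subgroup.IsComplement' F R := by
      refine Subgroup.isComplement'_of_disjoint_and_mul_eq_univ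
        (Subgroup.disjoint_of_coprime_natCard hcop.symm) ?_
      rw [← Subgroup.normal_mul, hFR, Subgroup.coe_top]
    rw [hcomp.symm.index_eq_card, hED.hR]
  have hHE : (Nat.card H : E) ≠ 0 := by
    rw [← F.card_mul_index, hidx, Nat.cast_mul]
    obtain ⟨k, hk⟩ := hED.hF.exists_card_eq
    rw [hk, Nat.cast_pow]
    exact mul_ne_zero (pow_ne_zero _ hsE) hrE
  have hlift : (∃ v : W, v ≠ 0 ∧ ∀ a ∈ R, sub ρ (MonoidHom.id H) W hW a v = v) →
      ∃ v : V, v ≠ 0 ∧ ∀ a ∈ R, ρ a v = v := by
    rintro ⟨v, hv, hfix⟩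
    exact ⟨v, fun h => hv (Subtype.ext h), fun a ha => congrArg Subtype.val (hfix a ha)⟩
  apply hlift
  by_cases hF : Irr ((sub ρ (MonoidHom.id H) W hW).comp F.subtype)
  · have hRD : RD (sub ρ (MonoidHom.id H) W hW) F R r s :=
      { toED := hED
        hrE := hrE
        hsE := hsE
        hirr := hF
        hCV := fun v hv => Subtype.ext (hCV v fun f hf => congrArg Subtype.val (hv f hf)) }
    exact hRD.exists_fixed hr
  · exact exists_fixed_of_not_irr hHE _ hirr F R (by rw [hidx]; exact hED.hr)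
      (by rw [hidx, hED.hR]) hFR hF

end Closed

section Rep

variable {k : Type*} [Field k] {H V : Type*} [Group H] [Finite H]
  [AddCommGroup V] [Module k V] [FiniteDimensional k V]

theorem exists_fixed_rep {r s : ℕ} (ρ : Representation k H V) [Nontrivial V]
    (F R : Subgroup H) [hFn : F.Normal] (hFR : F ⊔ R = ⊤) (hED : ED F R r s)
    (hrk : (r : k) ≠ 0) (hsk : (s : k) ≠ 0)
    (hCV : ∀ v, (∀ f ∈ F, ρ f v = v) → v = 0) (hr : ¬ ∃ k : ℕ, r = 2 ^ k + 1) :
    ∃ v : V, v ≠ 0 ∧ ∀ a ∈ R, ρ a v = v := by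
  classical
  let E := AlgebraicClosure k
  let W := TensorProduct k E V
  have hs : Fact s.Prime := ⟨hED.hs⟩
  have hcast : ∀ n : ℕ, (n : k) ≠ 0 → (n : E) ≠ 0 := by
    intro n hn h0
    apply hn
    have : algebraMap k E (n : k) = 0 := by
      rw [map_natCast]
      exact h0
    exact (map_eq_zero _).mp this
  let π : Representation E H W :=
    { toFun := fun g => (ρ g).baseChange E
      map_one' := by
        rw [map_one]
        exact LinearMap.baseChange_id
      map_mul' := by
        intro a b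
        rw [map_mul]
        exact LinearMap.baseChange_comp _ _ }
  have hπ : ∀ g, π g = (ρ g).baseChange E := fun g => rfl
  have hsumE : ∀ (K : Subgroup H) [Fintype K] (w : W), ∑ h : K, π h w =
      (∑ h : K, ρ h).baseChange E w := by
    intro K _ w
    have : ∑ h : K, π h = (∑ h : K, ρ h).baseChange E := by
      simp only [hπ]
      exact (map_sum (LinearMap.baseChangeHom k E V V) _ _).symm
    rw [← this, LinearMap.sum_apply]
  have hsumfix : ∀ (K : Subgroup H) [Fintype K] (v : V), ∀ g ∈ K,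
      ρ g ((∑ h : K, ρ h) v) = (∑ h : K, ρ h) v := by
    intro K _ v g hg
    rw [LinearMap.sum_apply, map_sum]
    refine Fintype.sum_bijective (fun y => ⟨g, hg⟩ * y) (Group.mulLeft_bijective _) _ _ fun y => ?_
    rw [← mul_apply']
    rfl
  have hfixsum : ∀ (K : Subgroup H) [Fintype K] (w : W), (∀ h ∈ K, π h w = w) →
      ∑ h : K, π h w = (Nat.card K : E) • w := by
    intro K _ w hw
    rw [Nat.card_eq_fintype_card, Nat.cast_smul_eq_nsmul, ← Finset.card_univ, ← Finset.sum_const]
    exact Finset.sum_congr rfl fun h _ => hw h h.2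
  obtain ⟨ks, hks⟩ := hED.hF.exists_card_eq
  have hFE : (Nat.card F : E) ≠ 0 := by
    rw [hks, Nat.cast_pow]; exact pow_ne_zero _ (hcast s hsk)
  have hRE : (Nat.card R : E) ≠ 0 := by
    rw [hED.hR]; exact hcast r hrk
  have : Fintype F := Fintype.ofFinite F
  have : Fintype R := Fintype.ofFinite R
  have hntW : Nontrivial W := by
    have h1 : finrank E W = finrank k V := Module.finrank_baseChange
    have h2 : 0 < finrank k V := finrank_pos
    exact Module.nontrivial_of_finrank_pos (R := E) (by rw [h1]; exact h2)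
  obtain ⟨w, hw0, hw⟩ := exists_fixed_closed (E := E) π F R hFR hED (hcast r hrk) (hcast s hsk)
    (by
      intro w hw
      have h1 := hfixsum F w hw
      have h2 : ∑ h : F, ρ h = 0 := by
        apply LinearMap.ext
        intro v
        rw [LinearMap.zero_apply]
        exact hCV _ fun f hf => hsumfix F v f hf
      rw [hsumE, h2, LinearMap.baseChange_zero, LinearMap.zero_apply] at h1
      exact (smul_eq_zero.mp h1.symm).resolve_left hFE) hr
  by_contra hcon
  push Not at hcon
  apply hw0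
  have h1 := hfixsum R w hw
  have h2 : ∑ h : R, ρ h = 0 := by
    apply LinearMap.ext
    intro v
    rw [LinearMap.zero_apply]
    by_contra hne
    obtain ⟨a, ha, hne'⟩ := hcon _ hne
    exact hne' (hsumfix R v a ha)
  rw [hsumE, h2, LinearMap.baseChange_zero, LinearMap.zero_apply] at h1
  exact (smul_eq_zero.mp h1.symm).resolve_left hRE

end Rep

/-- restriction of the data to `F ⊔ R` -/
theorem ed_subgroupOf {G : Type*} [Group G] [Finite G] {F R : Subgroup G} {r s : ℕ} (h : ED F R r s)
    {K : Subgroup G} (hF : F ≤ K) (hR : R ≤ K) : ED (F.subgroupOf K) (R.subgroupOf K) r s := by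
  let e : F.subgroupOf K ≃* F := Subgroup.subgroupOfEquivOfLe hF
  have he : ∀ x, ((e x : F) : G) = ((x : K) : G) := fun x => rfl
  have hcen : ∀ x : F.subgroupOf K, x ∈ center (F.subgroupOf K) ↔ e x ∈ center F := by
    intro x
    rw [Subgroup.mem_center_iff, Subgroup.mem_center_iff]
    constructor
    · intro hx g
      obtain ⟨y, rfl⟩ := e.surjective g
      rw [← map_mul, ← map_mul, hx]
    · intro hx g
      apply e.injective
      rw [map_mul, map_mul, hx]
  refine
    { hr := h.hr
      hs := h.hs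
      hrs := h.hrs
      hR := ?_
      hF := h.hF.comap_of_injective _ K.subtype_injective
      hZ := ?_
      hab := ?_
      hRF := ?_
      hcomm := ?_
      hCF := ?_ }
  · rw [Nat.card_congr (Subgroup.subgroupOfEquivOfLe hR).toEquiv, h.hR]
  · rw [← h.hZ]
    refine Nat.card_congr (Equiv.subtypeEquiv e.toEquiv fun x => ?_)
    exact hcen x
  · intro x y
    rw [hcen]
    simp only [map_mul, map_inv]
    exact h.hab _ _
  · refine le_normalizer_of_conj fun a ha b hb => ?_
    exact conj_mem_of_le_normalizer h.hRF ha hb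
  · apply Subgroup.map_injective K.subtype_injective
    rw [Subgroup.map_commutator, Subgroup.subgroupOf_map_subtype, Subgroup.subgroupOf_map_subtype,
      inf_of_le_left hF, inf_of_le_left hR, h.hcomm]
  · rintro x ⟨hxF, hxR⟩
    have h1 : (x : G) ∈ F ⊓ centralizer (R : Set G) := by
      refine ⟨hxF, Subgroup.mem_centralizer_iff.mpr fun a ha => ?_⟩
      exact congrArg Subtype.val (Subgroup.mem_centralizer_iff.mp hxR ⟨a, hR ha⟩ ha)
    obtain ⟨y, hy, hyx⟩ := h.hCF h1
    refine ⟨⟨x, hxF⟩, ?_, rfl⟩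
    show (⟨x, hxF⟩ : F.subgroupOf K) ∈ center (F.subgroupOf K)
    rw [hcen]
    have : e ⟨x, hxF⟩ = y := Subtype.ext hyx.symm
    rw [this]
    exact hy

/-- **Group version.** -/
theorem exists_fixed_group {G : Type*} [Group G] [Finite G] {q r s : ℕ} [hq : Fact q.Prime]
    {F R N : Subgroup G} [N.Normal] (hNbot : N ≠ ⊥) (hNc : ∀ x ∈ N, ∀ y ∈ N, x * y = y * x)
    (hNq : ∀ x ∈ N, x ^ q = 1) (hED : ED F R r s)
    (hrq : r ≠ q) (hsq : s ≠ q) (hCN : N ⊓ centralizer (F : Set G) = ⊥)
    (hr : ¬ ∃ k : ℕ, r = 2 ^ k + 1) :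
    N ⊓ centralizer (R : Set G) ≠ ⊥ := by
  let instN : CommGroup N := { (inferInstance : Group N) with
    mul_comm := fun x y => Subtype.ext (hNc x x.2 y y.2) }
  have instM : Module (ZMod q) (Additive N) := AddCommGroup.zmodModule (n := q) (by
    intro x
    exact congrArg Additive.ofMul (Subtype.ext (hNq _ x.toMul.2) : x.toMul ^ q = 1))
  have hfin : FiniteDimensional (ZMod q) (Additive N) := inferInstance
  let K : Subgroup G := F ⊔ R
  let ρ : Representation (ZMod q) K (Additive N) :=
    OddOrderLocal.FrobAct.toRep q ((MulAut.conjNormal : G →* MulAut N).comp K.subtype)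
  have hρ : ∀ (g : K) (v : Additive N), (((ρ g v).toMul : N) : G) =
      (g : G) * (v.toMul : N) * (g : G)⁻¹ := fun g v => rfl
  have hcast : ∀ n : ℕ, n.Prime → n ≠ q → (n : ZMod q) ≠ 0 := by
    intro n hn hnq h0
    rw [ZMod.natCast_eq_zero_iff] at h0
    exact hnq ((Nat.prime_dvd_prime_iff_eq hq.out hn).mp h0).symm
  have hfixiff : ∀ (g : K) (v : Additive N), ρ g v = v ↔
      (g : G) * ((v.toMul : N) : G) = ((v.toMul : N) : G) * g := by
    intro g v
    rw [← mul_inv_eq_iff_eq_mul, ← hρ]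
    constructor
    · intro h
      rw [h]
    · intro h
      exact Additive.toMul.injective (Subtype.ext h)
  have hFn : (F.subgroupOf K).Normal := by
    rw [Subgroup.normal_subgroupOf_iff_le_normalizer le_sup_left]
    exact sup_le Subgroup.le_normalizer hED.hRF
  have hFR : F.subgroupOf K ⊔ R.subgroupOf K = ⊤ := by
    rw [← Subgroup.subgroupOf_sup le_sup_left le_sup_right, Subgroup.subgroupOf_self]
  have hntN : Nontrivial N := (Subgroup.nontrivial_iff_ne_bot N).mpr hNbot
  have hnt : Nontrivial (Additive N) := inferInstance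
  obtain ⟨v, hv0, hv⟩ := exists_fixed_rep ρ (F.subgroupOf K) (R.subgroupOf K) hFR
    (ed_subgroupOf hED le_sup_left le_sup_right) (hcast r hED.hr hrq) (hcast s hED.hs hsq)
    (by
      intro v hv
      have h1 : ((v.toMul : N) : G) ∈ N ⊓ Subgroup.centralizer (F : Set G) :=
        ⟨v.toMul.2, Subgroup.mem_centralizer_iff.mpr fun f hf =>
          (hfixiff ⟨f, (le_sup_left : F ≤ K) hf⟩ v).mp (hv _ hf)⟩
      rw [hCN, Subgroup.mem_bot] at h1
      exact Additive.toMul.injective (Subtype.ext h1)) hr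
  intro hbot
  apply hv0
  have h1 : ((v.toMul : N) : G) ∈ N ⊓ Subgroup.centralizer (R : Set G) :=
    ⟨v.toMul.2, Subgroup.mem_centralizer_iff.mpr fun f hf =>
      (hfixiff ⟨f, (le_sup_right : R ≤ K) hf⟩ v).mp (hv _ hf)⟩
  rw [hbot, Subgroup.mem_bot] at h1
  exact Additive.toMul.injective (Subtype.ext h1)

end Cfsg.Agent.H575.ExtraFix
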