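import Cfsg.Agent.H575.Weights

/-!
# Fixed points of an automorphism of prime order of an `s`-group acting on a module

`G` finite, `V` a finite-dimensional representation over an algebraically closed field, `P` a
`p`-subgroup, `F` an `s`-subgroup normalising `P`, `R` a subgroup of prime order normalising both,
`W` a subspace invariant under `P`, `F`, `R`; everything coprime.

* `claimK_sub`: `C_F(R) = 1` and `C_W(F) = 0`;
* `main`: `|C_F(R)|` divides `s`, `C_P(F)` trivial on `W` and `C_W(F) = 0`.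

In both cases an element of `C_P(R)` trivial on `C_W(R)` is trivial on `W`.
-/

set_option autoImplicit false
set_option linter.unusedSectionVars false

namespace Cfsg.Agent.H575.ModM

open Module Cfsg.Agent.H575.Dim Cfsg.Agent.H575.Weights

variable {E : Type*} [Field E] [IsAlgClosed E] {G V : Type*} [Group G] [Finite G]
  [AddCommGroup V] [Module E V] [FiniteDimensional E V]

theorem natCast_ne_zero_of_dvd {m n : ℕ} (h : m ∣ n) (hn : (n : E) ≠ 0) : (m : E) ≠ 0 := by
  rintro h0
  obtain ⟨k, rfl⟩ := h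
  apply hn
  rw [Nat.cast_mul, h0, zero_mul]

theorem le_normalizer_sup {P F R : Subgroup G} (hRP : R ≤ Subgroup.normalizer (P : Set G))
    (hRF : R ≤ Subgroup.normalizer (F : Set G)) :
    R ≤ Subgroup.normalizer ((P ⊔ F : Subgroup G) : Set G) := by
  intro r hr
  rw [Subgroup.mem_normalizer_iff]
  have key : ∀ r ∈ R, ∀ g ∈ P ⊔ F, r * g * r⁻¹ ∈ P ⊔ F := by
    intro r hr g hg
    have h1 : (P ⊔ F).map (MulAut.conj r).toMonoidHom ≤ P ⊔ F := by
      rw [Subgroup.map_sup]
      refine sup_le_sup ?_ ?_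
      · rintro _ ⟨x, hx, rfl⟩
        exact (Subgroup.mem_normalizer_iff.mp (hRP hr) x).mp hx
      · rintro _ ⟨x, hx, rfl⟩
        exact (Subgroup.mem_normalizer_iff.mp (hRF hr) x).mp hx
    exact h1 ⟨g, hg, rfl⟩
  intro g
  constructor
  · exact key r hr g
  · intro h
    have h1 := key r⁻¹ (R.inv_mem hr) _ h
    have h2 : r⁻¹ * (r * g * r⁻¹) * r⁻¹⁻¹ = g := by group
    rwa [h2] at h1

/-- Frobenius case. -/
theorem claimK_sub (π : Representation E G V) (W : Submodule E V) {P F R : Subgroup G}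
    (hPW : Pres π P W) (hFW : Pres π F W) (hRW : Pres π R W)
    (hRP : R ≤ Subgroup.normalizer (P : Set G)) (hRF : R ≤ Subgroup.normalizer (F : Set G))
    (hFP : F ≤ Subgroup.normalizer (P : Set G)) (hPs : Group.IsSolvable P)
    (hFs : Group.IsSolvable F) (hR : (Nat.card R).Prime) (hRPc : ¬ Nat.card R ∣ Nat.card P)
    (hRFc : ¬ Nat.card R ∣ Nat.card F) (hPE : (Nat.card P : E) ≠ 0) (hFE : (Nat.card F : E) ≠ 0)
    (hC : F ⊓ Subgroup.centralizer (R : Set G) = ⊥)
    (hfix : ∀ w ∈ W, (∀ f ∈ F, π f w = w) → w = 0) {x : G} (hx : x ∈ P)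
    (hxR : x ∈ Subgroup.centralizer (R : Set G))
    (hxC : ∀ w ∈ W, (∀ r ∈ R, π r w = w) → π x w = w) : ∀ w ∈ W, π x w = w := by
  have hRn := le_normalizer_sup hRP hRF
  have hcard := SignalizersComponents.CoprimeBasic.card_sup_dvd hFP
  have hsol := SignalizersComponents.CoprimeBasic.isSolvable_sup hFP hPs hFs
  have hKW : Pres π (P ⊔ F) W := hPW.sup hFW hFP
  let K : Subgroup G := P ⊔ F
  let σ : R →* MulAut K := (K.normalizerMonoidHom).comp (Subgroup.inclusion hRn)
  let σF : R →* MulAut F := (F.normalizerMonoidHom).comp (Subgroup.inclusion hRF)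
  have hσ : ∀ (r : R) (k : K), ((σ r k : K) : G) = r * k * (r : G)⁻¹ := fun r k => rfl
  have hσF : ∀ (r : R) (k : F), ((σF r k : F) : G) = r * k * (r : G)⁻¹ := fun r k => rfl
  have hPF : F ≤ K := le_sup_right
  have hPK : P ≤ K := le_sup_left
  have hmain := ClaimK.claimK (sub π K.subtype W (fun n w hw => hKW n n.2 w hw))
    (sub π R.subtype W (fun n w hw => hRW n n.2 w hw)) σ σF (Subgroup.inclusion hPF)
    (Subgroup.inclusion_injective hPF) (fun r f => rfl)
    (by
      intro r k v
      apply Subtype.ext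
      change π r (π k v) = π (r * k * (r : G)⁻¹) (π r v)
      rw [← mul_apply', ← mul_apply']
      congr 2
      group)
    hR hsol
    (natCast_ne_zero_of_dvd hcard (by rw [Nat.cast_mul]; exact mul_ne_zero hPE hFE))
    (by
      intro h
      rcases (Nat.Prime.dvd_mul hR).mp (h.trans hcard) with h | h
      · exact hRPc h
      · exact hRFc h)
    (by
      intro r hr f hf
      have hgen : ∀ x : R, x ∈ Subgroup.zpowers r := fun x =>
        haveI : Fact (Nat.card R).Prime := ⟨hR⟩
        mem_zpowers_of_prime_card rfl hr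
      have h1 : (r : G) * f * (r : G)⁻¹ = f := congrArg Subtype.val hf
      have h2 : (f : G) ∈ F ⊓ Subgroup.centralizer (R : Set G) := by
        refine ⟨f.2, Subgroup.mem_centralizer_iff.mpr ?_⟩
        intro y hy
        obtain ⟨n, hn⟩ := hgen ⟨y, hy⟩
        have hn' : (r : G) ^ n = y := congrArg Subtype.val hn
        have hcomm : Commute (r : G) (f : G) := by
          change (r : G) * f = f * r
          rw [← mul_inv_eq_iff_eq_mul]
          exact h1
        rw [← hn']
        exact (hcomm.zpow_left n)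
      rw [hC, Subgroup.mem_bot] at h2
      exact Subtype.ext h2)
    (by
      intro v hv
      apply Subtype.ext
      refine hfix v v.2 fun f hf => ?_
      exact congrArg Subtype.val (hv ⟨f, hf⟩))
    ⟨x, hPK hx⟩
    (by
      intro r
      apply Subtype.ext
      rw [hσ]
      have h1 := Subgroup.mem_centralizer_iff.mp hxR r r.2
      change (r : G) * x * (r : G)⁻¹ = x
      rw [h1]
      group)
    (by
      intro v hv
      apply Subtype.ext
      exact hxC v v.2 fun r hr => congrArg Subtype.val (hv ⟨r, hr⟩))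
  intro w hw
  exact congrArg Subtype.val (hmain ⟨w, hw⟩)

/-- a weight not fixed by `R`: elements commuting with `R` and trivial on the fixed points of `R` are
trivial on the weight space -/
theorem trivial_of_not_fixed (π : Representation E G V) (W : Submodule E V) {A R : Subgroup G}
    (hRW : Pres π R W) (hRA : R ≤ Subgroup.normalizer (A : Set G)) (hR : (Nat.card R).Prime)
    {x : G} (hxW : ∀ w ∈ W, π x w ∈ W)
    (hxA : ∀ a ∈ A, ∀ w ∈ W, π a (π x w) = π x (π a w))
    (hxR : x ∈ Subgroup.centralizer (R : Set G))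
    (hxC : ∀ w ∈ W, (∀ r ∈ R, π r w = w) → π x w = w) (l : G → E)
    (hl : ¬ ∀ r ∈ R, Same A (cj r l) l) : ∀ w ∈ wt π A W l, π x w = w := by
  classical
  intro v hv
  have : Fintype R := Fintype.ofFinite R
  let u : V := π x v - v
  have hu : u ∈ wt π A W l :=
    (wt π A W l).sub_mem (apply_mem_wt_of_comm hxW hxA hv) hv
  have hcomm : ∀ r ∈ R, ∀ w, π x (π r w) = π r (π x w) := by
    intro r hr w
    rw [← mul_apply', ← mul_apply', Subgroup.mem_centralizer_iff.mp hxR r hr]
  have hsum : ∑ r : R, π r u = 0 := by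
    have h1 : π x (∑ r : R, π r v) = ∑ r : R, π r v := by
      refine hxC _ (W.sum_mem fun r _ => hRW r r.2 v hv.1) fun s hs => ?_
      rw [map_sum]
      refine Fintype.sum_bijective (fun y => ⟨s, hs⟩ * y) (Group.mulLeft_bijective _) _ _
        fun y => ?_
      rw [← mul_apply']
      rfl
    simp only [u, map_sub, Finset.sum_sub_distrib]
    rw [map_sum] at h1
    rw [sub_eq_zero, ← h1]
    refine Finset.sum_congr rfl fun r _ => ?_
    rw [hcomm r r.2]
  have hsame := sum_same_eq_zero (π := π) (A := A) (W := W) Finset.univ (fun r : R => π r u)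
    (fun r : R => cj (r : G) l)
    (fun r _ => apply_mem_wt (hRA r.2) (hRW r r.2) hu) hsum l
  -- only `r = 1` fixes `l`
  have hone : ∀ r : R, Same A (cj (r : G) l) l → r = 1 := by
    intro r hr
    by_contra hr1
    apply hl
    have : Fact (Nat.card R).Prime := ⟨hR⟩
    have hgen : ∀ x : R, x ∈ Subgroup.zpowers r := fun x => mem_zpowers_of_prime_card rfl hr1
    intro s hs
    have h1 : (r : G) ∈ stab A l := ⟨hRA r.2, hr⟩
    obtain ⟨n, hn⟩ := hgen ⟨s, hs⟩
    have hn' : (r : G) ^ n = s := congrArg Subtype.val hn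
    have h2 : s ∈ stab A l := by
      rw [← hn']
      exact Subgroup.zpow_mem _ h1 n
    exact h2.2
  have hfil : (Finset.univ.filter fun r : R => Same A (cj (r : G) l) l) = {1} := by
    ext r
    rw [Finset.mem_filter, Finset.mem_singleton]
    constructor
    · rintro ⟨-, h⟩
      exact hone r h
    · rintro rfl
      refine ⟨Finset.mem_univ _, ?_⟩
      rw [Subgroup.coe_one, cj_one]
      exact Same.refl A l
  rw [hfil, Finset.sum_singleton, Subgroup.coe_one, map_one, Module.End.one_apply] at hsame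
  exact sub_eq_zero.mp hsame

/-- vectors of a weight space fixed by the stabiliser of the weight in `F` vanish if `F` has no
fixed vectors -/
theorem eq_zero_of_fixed (π : Representation E G V) (W : Submodule E V) {A F : Subgroup G}
    (hFW : Pres π F W) (hFA : F ≤ Subgroup.normalizer (A : Set G)) (hFE : (Nat.card F : E) ≠ 0)
    (hfix : ∀ w ∈ W, (∀ f ∈ F, π f w = w) → w = 0) (l : G → E) :
    ∀ w ∈ wt π A W l, (∀ f ∈ F ⊓ stab A l, π f w = w) → w = 0 := by
  classical
  intro v hv hv1
  have : Fintype F := Fintype.ofFinite F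
  have hsum : ∑ f : F, π f v = 0 := by
    refine hfix _ (W.sum_mem fun r _ => hFW r r.2 v hv.1) fun s hs => ?_
    rw [map_sum]
    refine Fintype.sum_bijective (fun y => ⟨s, hs⟩ * y) (Group.mulLeft_bijective _) _ _
      fun y => ?_
    rw [← mul_apply']
    rfl
  have hsame := sum_same_eq_zero (π := π) (A := A) (W := W) Finset.univ (fun r : F => π r v)
    (fun r : F => cj (r : G) l)
    (fun r _ => apply_mem_wt (hFA r.2) (hFW r r.2) hv) hsum l
  have h1 : ∀ f ∈ (Finset.univ.filter fun r : F => Same A (cj (r : G) l) l), π f v = v := by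
    intro f hf
    rw [Finset.mem_filter] at hf
    exact hv1 f ⟨f.2, hFA f.2, hf.2⟩
  rw [Finset.sum_congr rfl h1, Finset.sum_const, ← Nat.cast_smul_eq_nsmul E] at hsame
  refine (smul_eq_zero.mp hsame).resolve_left ?_
  have h2 : (Finset.univ.filter fun r : F => Same A (cj (r : G) l) l).card =
      Nat.card ↥(F ⊓ stab A l) := by
    rw [← Fintype.card_subtype, ← Nat.card_eq_fintype_card]
    refine Nat.card_congr
      { toFun := fun x => ⟨x.1, x.1.2, hFA x.1.2, x.2⟩
        invFun := fun x => ⟨⟨x.1, x.2.1⟩, x.2.2.2⟩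
        left_inv := fun x => rfl
        right_inv := fun x => rfl }
  rw [h2]
  exact natCast_ne_zero_of_dvd (Subgroup.card_dvd_of_le inf_le_left) hFE

/-- a `p`-group all of whose elements central modulo the kernel act trivially acts trivially -/
theorem trivial_of_center (π : Representation E G V) (W : Submodule E V) {p : ℕ}
    [hp : Fact p.Prime] {P : Subgroup G} (hP : IsPGroup p P) (hPW : Pres π P W)
    (h : ∀ a ∈ P, (∀ b ∈ P, ∀ w ∈ W, π a (π b w) = π b (π a w)) → ∀ w ∈ W, π a w = w) :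
    ∀ a ∈ P, ∀ w ∈ W, π a w = w := by
  let φ : P →* (Module.End E W)ˣ :=
    (sub π P.subtype W (fun n w hw => hPW n n.2 w hw)).toHomUnits
  have hφ : ∀ (a : P) (w : W), ((((φ a : (Module.End E W)ˣ) : Module.End E W) w : W) : V) =
      π a w := fun a w => rfl
  have hQ : IsPGroup p φ.range := hP.of_surjective φ.rangeRestrict φ.rangeRestrict_surjective
  by_contra hcon
  have hnt : Nontrivial φ.range := by
    push Not at hcon
    obtain ⟨a, ha, w, hw, haw⟩ := hcon
    refine ⟨⟨⟨φ ⟨a, ha⟩, ⟨a, ha⟩, rfl⟩, 1, fun h1 => haw ?_⟩⟩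
    have h2 : φ ⟨a, ha⟩ = 1 := congrArg Subtype.val h1
    have h3 := hφ ⟨a, ha⟩ ⟨w, hw⟩
    rw [h2] at h3
    exact h3.symm
  have hfin : Finite φ.range := Finite.of_surjective φ.rangeRestrict φ.rangeRestrict_surjective
  have hcn := hQ.center_nontrivial
  obtain ⟨⟨z, hz⟩, hz1⟩ := exists_ne (1 : Subgroup.center φ.range)
  obtain ⟨⟨a, ha⟩, hza⟩ := z.2
  apply hz1
  apply Subtype.ext
  apply Subtype.ext
  change (z : (Module.End E W)ˣ) = 1
  rw [← hza]
  apply Units.ext
  apply LinearMap.ext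
  intro w
  apply Subtype.ext
  rw [hφ]
  refine h a ha ?_ w w.2
  intro b hb w hw
  rw [Subgroup.mem_center_iff] at hz
  have h1 := hz ⟨φ ⟨b, hb⟩, ⟨b, hb⟩, rfl⟩
  have h2 : φ ⟨b, hb⟩ * φ ⟨a, ha⟩ = φ ⟨a, ha⟩ * φ ⟨b, hb⟩ := by
    rw [hza]
    exact congrArg Subtype.val h1
  have h3 := congrArg (fun u : (Module.End E W)ˣ => (((u : Module.End E W) ⟨w, hw⟩ : W) : V)) h2
  exact h3.symm

theorem le_normalizer_of_conj {H P : Subgroup G} (h : ∀ g ∈ H, ∀ y ∈ P, g * y * g⁻¹ ∈ P) :
    H ≤ Subgroup.normalizer (P : Set G) := by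
  intro g hg
  rw [Subgroup.mem_normalizer_iff]
  intro y
  constructor
  · exact h g hg y
  · intro hy
    have h1 := h g⁻¹ (H.inv_mem hg) _ hy
    have h2 : g⁻¹ * (g * y * g⁻¹) * g⁻¹⁻¹ = y := by group
    rwa [h2] at h1

theorem conj_mem_of_le_normalizer {H P : Subgroup G} (h : H ≤ Subgroup.normalizer (P : Set G))
    {g y : G} (hg : g ∈ H) (hy : y ∈ P) : g * y * g⁻¹ ∈ P :=
  (Subgroup.mem_normalizer_iff.mp (h hg) y).mp hy

/-- the elements of `P` central on `W` -/
def cen (π : Representation E G V) (W : Submodule E V) (P : Subgroup G) (hPW : Pres π P W) :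
    Subgroup G where
  carrier := {a | a ∈ P ∧ ∀ b ∈ P, ∀ w ∈ W, π a (π b w) = π b (π a w)}
  one_mem' := ⟨P.one_mem, fun b _ w _ => by simp⟩
  mul_mem' := by
    rintro a b ⟨ha, ha'⟩ ⟨hb, hb'⟩
    refine ⟨P.mul_mem ha hb, fun c hc w hw => ?_⟩
    rw [mul_apply', mul_apply', hb' c hc w hw, ha' c hc _ (hPW b hb w hw)]
  inv_mem' := by
    rintro a ⟨ha, ha'⟩
    refine ⟨P.inv_mem ha, fun c hc w hw => ?_⟩
    have h1 := ha' c hc _ (hPW a⁻¹ (P.inv_mem ha) w hw)
    rw [apply_inv] at h1
    rw [← h1, inv_apply]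

theorem mem_cen {π : Representation E G V} {W : Submodule E V} {P : Subgroup G}
    {hPW : Pres π P W} {a : G} :
    a ∈ cen π W P hPW ↔ a ∈ P ∧ ∀ b ∈ P, ∀ w ∈ W, π a (π b w) = π b (π a w) := Iff.rfl

theorem le_normalizer_cen (π : Representation E G V) (W : Submodule E V) {P H : Subgroup G}
    (hPW : Pres π P W) (hHW : Pres π H W) (hHP : H ≤ Subgroup.normalizer (P : Set G)) :
    H ≤ Subgroup.normalizer ((cen π W P hPW : Subgroup G) : Set G) := by
  apply le_normalizer_of_conj
  rintro g hg a ⟨ha, ha'⟩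
  refine ⟨conj_mem_of_le_normalizer hHP hg ha, fun b hb w hw => ?_⟩
  have h1 : g⁻¹ * b * g ∈ P := conj_mem_of_normalizer (hHP hg) hb
  have h2 := ha' _ h1 _ (hHW g⁻¹ (H.inv_mem hg) w hw)
  have h3 : π (g * a * g⁻¹) (π b w) = π g (π a (π (g⁻¹ * b * g) (π g⁻¹ w))) := by
    simp only [← mul_apply']
    congr 2
    group
  have h4 : π b (π (g * a * g⁻¹) w) = π g (π (g⁻¹ * b * g) (π a (π g⁻¹ w))) := by
    simp only [← mul_apply']
    congr 2
    group
  rw [h3, h4, h2]

/-- the subgroup of elements of `P` trivial on a family of subspaces -/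
def fixer (π : Representation E G V) (P : Subgroup G) (S : Set V) : Subgroup G where
  carrier := {y | y ∈ P ∧ ∀ v ∈ S, π y v = v}
  one_mem' := ⟨P.one_mem, fun v _ => by simp⟩
  mul_mem' := by
    rintro a b ⟨ha, ha'⟩ ⟨hb, hb'⟩
    refine ⟨P.mul_mem ha hb, fun v hv => ?_⟩
    rw [mul_apply', hb' v hv, ha' v hv]
  inv_mem' := by
    rintro a ⟨ha, ha'⟩
    refine ⟨P.inv_mem ha, fun v hv => ?_⟩
    have h1 := ha' v hv
    rw [← h1, inv_apply, h1]

theorem mem_fixer {π : Representation E G V} {P : Subgroup G} {S : Set V} {y : G} :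
    y ∈ fixer π P S ↔ y ∈ P ∧ ∀ v ∈ S, π y v = v := Iff.rfl

end Cfsg.Agent.H575.ModM
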