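import Cfsg.Agent.H575.ExtraMod
import Cfsg.Agent.H575.ModM

/-!
# An extraspecial group acting irreducibly and an element of prime order without fixed points
-/

set_option autoImplicit false
set_option linter.unusedSectionVars false

namespace Cfsg.Agent.H575.ExtraIrr

open Module Subgroup Cfsg.Agent.H575.Dim Cfsg.Agent.H575.ModM Cfsg.Agent.H575.ExtraMod
open scoped commutatorElement

/-- the group theoretic data -/
structure ED {G : Type*} [Group G] (F R : Subgroup G) (r s : ℕ) : Prop where
  hr : r.Prime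
  hs : s.Prime
  hrs : r ≠ s
  hR : Nat.card R = r
  hF : IsPGroup s F
  hZ : Nat.card (center F) = s
  hab : ∀ x y : F, x * y * x⁻¹ * y⁻¹ ∈ center F
  hRF : R ≤ normalizer (F : Set G)
  hcomm : ⁅F, R⁆ = F
  hCF : F ⊓ centralizer (R : Set G) ≤ (center F).map F.subtype

variable {E : Type*} [Field E] [IsAlgClosed E] {G V : Type*} [Group G] [Finite G]
  [AddCommGroup V] [Module E V] [FiniteDimensional E V]

/-- the action of `R` on `F` -/
def alpha {F R : Subgroup G} (hRF : R ≤ normalizer (F : Set G)) : R →* MulAut F where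
  toFun a :=
    { toFun := fun f => ⟨a * f * (a : G)⁻¹, conj_mem_of_le_normalizer hRF a.2 f.2⟩
      invFun := fun f => ⟨(a : G)⁻¹ * f * a, by
        have := conj_mem_of_le_normalizer hRF (a⁻¹).2 f.2
        rwa [Subgroup.coe_inv, inv_inv] at this⟩
      left_inv := fun f => Subtype.ext (by
        show (a : G)⁻¹ * (a * f * (a : G)⁻¹) * a = f
        group)
      right_inv := fun f => Subtype.ext (by
        show (a : G) * ((a : G)⁻¹ * f * a) * (a : G)⁻¹ = f
        group)
      map_mul' := fun f g => Subtype.ext (by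
        show (a : G) * (f * g) * (a : G)⁻¹ = a * f * (a : G)⁻¹ * (a * g * (a : G)⁻¹)
        group) }
  map_one' := by
    ext f
    show ((1 : R) : G) * f * ((1 : R) : G)⁻¹ = f
    simp
  map_mul' := by
    intro a b
    ext f
    show ((a * b : R) : G) * f * ((a * b : R) : G)⁻¹ = a * (b * f * (b : G)⁻¹) * (a : G)⁻¹
    rw [Subgroup.coe_mul]
    group

theorem alpha_coe {F R : Subgroup G} (hRF : R ≤ normalizer (F : Set G)) (a : R) (f : F) :
    ((alpha hRF a f : F) : G) = a * f * (a : G)⁻¹ := rfl

theorem map_mem_center {K : Type*} [Group K] (φ : MulAut K) {z : K} (hz : z ∈ center K) :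
    φ z ∈ center K := by
  rw [Subgroup.mem_center_iff] at hz ⊢
  intro g
  obtain ⟨h, rfl⟩ := φ.surjective g
  rw [← map_mul, ← map_mul, hz]

/-- the data for an irreducible restriction -/
structure RD (ρ : Representation E G V) (F R : Subgroup G) (r s : ℕ) : Prop extends
    ED F R r s where
  hrE : (r : E) ≠ 0
  hsE : (s : E) ≠ 0
  hirr : Irr (ρ.comp F.subtype)
  hCV : ∀ v, (∀ f ∈ F, ρ f v = v) → v = 0

theorem irr_isIrreducible {H : Type*} [Group H] {τ : Representation E H V} (h : Irr τ) :
    τ.IsIrreducible := by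
  have hnt := h.1
  refine { exists_pair_ne := ⟨⊥, ⊤, fun hb => ?_⟩, eq_bot_or_eq_top := fun W => ?_ }
  · have h1 : (⊥ : Submodule E V) = ⊤ := congrArg Subrepresentation.toSubmodule hb
    exact bot_ne_top h1
  · rcases h.2 W.toSubmodule (fun g w hw => W.apply_mem_toSubmodule g hw) with h1 | h1
    · exact Or.inl (Subrepresentation.toSubmodule_injective h1)
    · exact Or.inr (Subrepresentation.toSubmodule_injective h1)

variable {ρ : Representation E G V} {F R : Subgroup G} {r s : ℕ}

theorem RD.scalar (h : RD ρ F R r s) {z : F} (hz : z ∈ center F) :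
    ∃ c : E, ∀ v, ρ (z : G) v = c • v := by
  refine h.hirr.scalar (ρ (z : G)) fun f v => ?_
  show ρ (z : G) (ρ (f : G) v) = ρ (f : G) (ρ (z : G) v)
  rw [← mul_apply', ← mul_apply']
  have := congrArg Subtype.val (Subgroup.mem_center_iff.mp hz f)
  rw [Subgroup.coe_mul, Subgroup.coe_mul] at this
  rw [this]

theorem eq_one_of_all {g : G} (h : ∀ v, ρ g v = v) : ρ g = 1 := LinearMap.ext h

/-- some central element acts nontrivially -/
theorem RD.exists_center_ne (h : RD ρ F R r s) : ∃ z ∈ center F, ρ (z : G) ≠ 1 := by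
  by_contra hcon
  push Not at hcon
  have hcom : ∀ f g : F, ∀ v, ρ (f : G) (ρ (g : G) v) = ρ (g : G) (ρ (f : G) v) := by
    intro f g v
    have h1 := hcon _ (h.hab f g)
    have h2 : (f : G) * g = ((f * g * f⁻¹ * g⁻¹ : F) : G) * (g * f) := by
      simp only [Subgroup.coe_mul, Subgroup.coe_inv]
      group
    rw [← mul_apply', h2, mul_apply', h1, Module.End.one_apply, mul_apply']
  have hsc : ∀ f : F, ∃ c : E, ∀ v, ρ (f : G) v = c • v := by
    intro f
    exact h.hirr.scalar (ρ (f : G)) fun g v => hcom f g v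
  have hle : ⁅F, R⁆ ≤ MonoidHom.ker ρ := by
    rw [Subgroup.commutator_le]
    intro f hf a _
    obtain ⟨c, hc⟩ := hsc ⟨f, hf⟩
    rw [MonoidHom.mem_ker]
    refine eq_one_of_all fun v => ?_
    rw [commutatorElement_def, mul_apply', mul_apply', mul_apply']
    have hc' : ∀ v, ρ f v = c • v := hc
    have h1 : ρ f⁻¹ (ρ a⁻¹ v) = ρ a⁻¹ (ρ f⁻¹ v) := by
      have h2 : ∀ w, ρ a⁻¹ (ρ f w) = ρ f (ρ a⁻¹ w) := by
        intro w
        rw [hc', hc', map_smul]
      have h3 := h2 (ρ f⁻¹ v)
      rw [apply_inv] at h3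
      rw [h3, inv_apply]
    rw [h1, apply_inv, apply_inv]
  have hnt := h.hirr.1
  obtain ⟨v, hv⟩ := exists_ne (0 : V)
  apply hv
  refine h.hCV v fun f hf => ?_
  rw [h.hcomm] at hle
  have h1 := hle hf
  rw [MonoidHom.mem_ker] at h1
  rw [h1, Module.End.one_apply]

theorem RD.ne_one (h : RD ρ F R r s) {z : F} (hz : z ∈ center F) (hz1 : z ≠ 1) :
    ρ (z : G) ≠ 1 := by
  intro hcon
  have hp : Fact (Nat.card (center F)).Prime := ⟨h.hZ ▸ h.hs⟩
  obtain ⟨y, hy, hy1⟩ := h.exists_center_ne
  let K : Subgroup (center F) :=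
    MonoidHom.ker ((ρ : G →* Module.End E V).comp (F.subtype.comp (center F).subtype))
  rcases K.eq_bot_or_eq_top_of_prime_card with hK | hK
  · have h1 : (⟨z, hz⟩ : center F) ∈ K := hcon
    rw [hK, Subgroup.mem_bot] at h1
    exact hz1 (congrArg Subtype.val h1)
  · have h1 : (⟨y, hy⟩ : center F) ∈ K := by rw [hK]; exact Subgroup.mem_top _
    exact hy1 h1

theorem RD.eq_one (h : RD ρ F R r s) {z : F} (hz : z ∈ center F) (h1 : ρ (z : G) = 1) : z = 1 := by
  by_contra hz1
  exact h.ne_one hz hz1 h1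

/-- `R` centralizes `Z(F)` -/
theorem RD.alpha_center (h : RD ρ F R r s) (a : R) {z : F} (hz : z ∈ center F) :
    alpha h.hRF a z = z := by
  have h1 : alpha h.hRF a z * z⁻¹ ∈ center F :=
    (center F).mul_mem (map_mem_center _ hz) ((center F).inv_mem hz)
  have h2 : ρ ((alpha h.hRF a z * z⁻¹ : F) : G) = 1 := by
    obtain ⟨c, hc⟩ := h.scalar hz
    refine eq_one_of_all fun v => ?_
    rw [Subgroup.coe_mul, alpha_coe, Subgroup.coe_inv, mul_apply', mul_apply', mul_apply']
    have h3 : ρ (z : G) (ρ (a : G)⁻¹ (ρ (z : G)⁻¹ v)) = ρ (a : G)⁻¹ v := by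
      rw [hc, ← map_smul, ← hc, apply_inv]
    rw [h3, apply_inv]
  exact mul_inv_eq_one.mp (h.eq_one h1 h2)

theorem RD.mem_center_of_fixed (h : RD ρ F R r s) {a : R} (ha : a ≠ 1) {f : F}
    (hf : f⁻¹ * alpha h.hRF a f ∈ center F) : f ∈ center F := by
  set z := f⁻¹ * alpha h.hRF a f with hz
  have h1 : alpha h.hRF a f = f * z := by rw [hz]; group
  have h2 : ∀ n : ℕ, alpha h.hRF (a ^ n) f = f * z ^ n := by
    intro n
    induction n with
    | zero => rw [pow_zero, map_one, pow_zero, mul_one]; rfl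
    | succ n ih =>
      rw [pow_succ', map_mul, MulAut.mul_apply, ih, map_mul, h1, map_pow, h.alpha_center a hf,
        pow_succ', mul_assoc]
  have h3 := h2 r
  have har : a ^ r = 1 := by
    rw [← h.hR]
    exact pow_card_eq_one'
  rw [har, map_one, MulAut.one_apply] at h3
  have h4 : z ^ r = 1 := by
    have h5 : f * 1 = f * z ^ r := by rw [mul_one]; exact h3
    exact (mul_left_cancel h5).symm
  have h5 : z ^ s = 1 := by
    have h6 : (⟨z, hf⟩ : center F) ^ Nat.card (center F) = 1 := pow_card_eq_one'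
    rw [h.hZ] at h6
    exact congrArg Subtype.val h6
  have h6 : z = 1 := by
    have h7 : orderOf z ∣ 1 := by
      have h8 : r.Coprime s := (Nat.coprime_primes h.hr h.hs).mpr h.hrs
      rw [← h8]
      exact Nat.dvd_gcd (orderOf_dvd_of_pow_eq_one h4) (orderOf_dvd_of_pow_eq_one h5)
    exact orderOf_eq_one_iff.mp (Nat.dvd_one.mp h7)
  rw [h6, mul_one] at h1
  have hp : Fact (Nat.card R).Prime := ⟨h.hR ▸ h.hr⟩
  have h7 : (f : G) ∈ F ⊓ centralizer (R : Set G) := by
    refine ⟨f.2, Subgroup.mem_centralizer_iff.mpr fun b hb => ?_⟩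
    have h8 : (⟨b, hb⟩ : R) ∈ Subgroup.zpowers a := mem_zpowers_of_prime_card rfl ha
    rw [← mem_powers_iff_mem_zpowers] at h8
    obtain ⟨n, hn⟩ := h8
    have h9 := h2 n
    rw [h6, one_pow, mul_one] at h9
    have h10 := congrArg Subtype.val h9
    rw [alpha_coe] at h10
    have h11 : ((a ^ n : R) : G) = b := congrArg Subtype.val hn
    rw [h11] at h10
    exact mul_inv_eq_iff_eq_mul.mp h10
  obtain ⟨y, hy, hyf⟩ := h.hCF h7
  have : y = f := Subtype.ext hyf
  rw [← this]
  exact hy

/-! ### the basis indexed by `F / Z(F)` -/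

theorem RD.exists_comm (h : RD ρ F R r s) {f : F} (hf : f ∉ center F) :
    ∃ (g z : F), z ∈ center F ∧ z ≠ 1 ∧ g * f * g⁻¹ = z * f := by
  rw [Subgroup.mem_center_iff] at hf
  push Not at hf
  obtain ⟨g, hg⟩ := hf
  refine ⟨g, g * f * g⁻¹ * f⁻¹, h.hab g f, ?_, by group⟩
  intro h1
  apply hg
  have h2 : g * f = (g * f * g⁻¹ * f⁻¹) * (f * g) := by group
  rw [h2, h1, one_mul]

theorem RD.trace_eq_zero (h : RD ρ F R r s) {f : F} (hf : f ∉ center F) :
    LinearMap.trace E V (ρ (f : G)) = 0 := by
  obtain ⟨g, z, hz, hz1, hgz⟩ := h.exists_comm hf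
  obtain ⟨c, hc⟩ := h.scalar hz
  have hc1 : c ≠ 1 := by
    rintro rfl
    exact h.ne_one hz hz1 (eq_one_of_all fun v => by rw [hc, one_smul])
  have h1 : ρ (g : G) * ρ (f : G) * ρ (g : G)⁻¹ = c • ρ (f : G) := by
    rw [← map_mul, ← map_mul]
    have h2 : (g : G) * f * (g : G)⁻¹ = z * f := congrArg Subtype.val hgz
    rw [h2]
    apply LinearMap.ext
    intro v
    rw [mul_apply', hc]
    rfl
  have h2 : LinearMap.trace E V (ρ (g : G) * ρ (f : G) * ρ (g : G)⁻¹) =
      LinearMap.trace E V (ρ (f : G)) := by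
    rw [LinearMap.trace_mul_comm, ← mul_assoc, ← map_mul, inv_mul_cancel, map_one, one_mul]
  rw [h1, map_smul, smul_eq_mul] at h2
  have h3 : (c - 1) * LinearMap.trace E V (ρ (f : G)) = 0 := by
    rw [sub_mul, one_mul, h2, sub_self]
  exact (mul_eq_zero.mp h3).resolve_left (sub_ne_zero.mpr hc1)

theorem RD.finrank_ne_zero (h : RD ρ F R r s) : (finrank E V : E) ≠ 0 := by
  intro h0
  have hs : Fact s.Prime := ⟨h.hs⟩
  have hnt := h.hirr.1
  have hpos : 0 < finrank E V := finrank_pos
  have hdvd : ringChar E ∣ finrank E V := (ringChar.spec E _).mp h0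
  have hrc : ringChar E ≠ 0 := by
    intro h1
    rw [h1, zero_dvd_iff] at hdvd
    omega
  have hprime : (ringChar E).Prime := by
    rcases CharP.char_is_prime_or_zero E (ringChar E) with h1 | h1
    · exact h1
    · exact absurd h1 hrc
  obtain ⟨k, hk⟩ := h.hF.exists_card_eq
  have hFE : (Nat.card F : E) ≠ 0 := by
    rw [hk, Nat.cast_pow]
    exact pow_ne_zero _ h.hsE
  have hsol : Group.IsSolvable F := by
    have : Group.IsNilpotent F := h.hF.isNilpotent
    infer_instance
  have h1 := prime_dvd_of_irr hprime (ρ.comp F.subtype) hsol hFE h.hirr hdvd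
  apply hFE
  rw [ringChar.spec]
  exact h1

/-- representatives -/
noncomputable def sig (F : Subgroup G) (x : F ⧸ center F) : F := Quotient.out x

theorem mk_sig (x : F ⧸ center F) : (QuotientGroup.mk (sig F x) : F ⧸ center F) = x :=
  Quotient.out_eq' x

theorem RD.apply_eq (h : RD ρ F R r s) (f : F) :
    ∃ c : E, ρ (f : G) = c • ρ (sig F (QuotientGroup.mk f) : G) := by
  have h1 : (sig F (QuotientGroup.mk f))⁻¹ * f ∈ center F :=
    QuotientGroup.eq.mp (mk_sig (QuotientGroup.mk f))
  obtain ⟨c, hc⟩ := h.scalar h1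
  refine ⟨c, ?_⟩
  apply LinearMap.ext
  intro v
  rw [LinearMap.smul_apply, ← map_smul, ← hc, ← mul_apply', ← Subgroup.coe_mul]
  congr 3
  group

theorem RD.linearIndependent (h : RD ρ F R r s) :
    LinearIndependent E (fun x : F ⧸ center F => ρ (sig F x : G)) := by
  have : Fintype (F ⧸ center F) := Fintype.ofFinite _
  rw [Fintype.linearIndependent_iff]
  intro c hc y
  have h1 : LinearMap.trace E V ((∑ x, c x • ρ (sig F x : G)) * ρ (sig F y : G)⁻¹) = 0 := by
    rw [hc, zero_mul, map_zero]
  rw [Finset.sum_mul, map_sum, Finset.sum_eq_single y] at h1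
  · rw [smul_mul_assoc, ← map_mul, mul_inv_cancel, map_one, map_smul, LinearMap.trace_one,
      smul_eq_mul] at h1
    exact (mul_eq_zero.mp h1).resolve_right h.finrank_ne_zero
  · intro x _ hxy
    rw [smul_mul_assoc, ← map_mul, map_smul]
    have h2 : LinearMap.trace E V (ρ ((sig F x * (sig F y)⁻¹ : F) : G)) = 0 := by
      apply h.trace_eq_zero
      intro h3
      apply hxy
      have h4 : (QuotientGroup.mk (sig F x * (sig F y)⁻¹) : F ⧸ center F) = 1 :=
        (QuotientGroup.eq_one_iff _).mpr h3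
      rw [QuotientGroup.mk_mul, QuotientGroup.mk_inv, mk_sig, mk_sig, mul_inv_eq_one] at h4
      exact h4
    rw [Subgroup.coe_mul, Subgroup.coe_inv] at h2
    rw [h2, smul_zero]
  · intro h2
    exact absurd (Finset.mem_univ _) h2

theorem RD.span_eq_top (h : RD ρ F R r s) :
    Submodule.span E (Set.range fun x : F ⧸ center F => ρ (sig F x : G)) = ⊤ := by
  rw [eq_top_iff]
  intro T _
  let τ : Unit → Representation E F V := fun _ => ρ.comp F.subtype
  have hirr : ∀ i, (τ i).IsIrreducible := by
    intro i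
    exact irr_isIrreducible h.hirr
  obtain ⟨a, ha⟩ := Blocks.ModularTraces.exists_density τ hirr
    (fun i j hij => absurd (Subsingleton.elim i j) hij) (fun _ => T)
  have h1 : T = (τ ()).asAlgebraHom a := (ha ()).symm
  rw [h1, Representation.asAlgebraHom_def, MonoidAlgebra.lift_apply]
  refine Submodule.sum_mem _ fun f _ => Submodule.smul_mem _ _ ?_
  obtain ⟨c, hc⟩ := h.apply_eq f
  show ρ (f : G) ∈ _
  rw [hc]
  exact Submodule.smul_mem _ _ (Submodule.subset_span ⟨_, rfl⟩)

theorem RD.card_eq (h : RD ρ F R r s) : Nat.card (F ⧸ center F) = finrank E V ^ 2 := by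
  have : Fintype (F ⧸ center F) := Fintype.ofFinite _
  have b := Basis.mk h.linearIndependent h.span_eq_top.ge
  rw [sq, ← Module.finrank_linearMap, Module.finrank_eq_card_basis b, Nat.card_eq_fintype_card]

/-! ### the orbits of `R` on `F / Z(F)` and the commutant -/

/-- the action of `R` on `F / Z(F)` -/
@[instance_reducible]
def actQ {F R : Subgroup G} (hRF : R ≤ normalizer (F : Set G)) : MulAction R (F ⧸ center F) where
  smul a := QuotientGroup.map (center F) (center F) (alpha hRF a).toMonoidHom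
    (fun _ hz => map_mem_center (alpha hRF a) hz)
  one_smul x := by
    induction x using QuotientGroup.induction_on with | H f => ?_
    show ((alpha hRF 1 f : F) : F ⧸ center F) = f
    rw [map_one, MulAut.one_apply]
  mul_smul a b x := by
    induction x using QuotientGroup.induction_on with | H f => ?_
    show ((alpha hRF (a * b) f : F) : F ⧸ center F) = (alpha hRF a (alpha hRF b f) : F)
    rw [map_mul, MulAut.mul_apply]

/-- averaging over `R` -/
noncomputable def avg (ρ : Representation E G V) (R : Subgroup G) [Fintype R] :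
    Module.End E V →ₗ[E] Module.End E V where
  toFun T := ∑ a : R, ρ (a : G) * T * ρ (a : G)⁻¹
  map_add' S T := by
    rw [← Finset.sum_add_distrib]
    refine Finset.sum_congr rfl fun a _ => ?_
    rw [mul_add, add_mul]
  map_smul' c T := by
    rw [RingHom.id_apply, Finset.smul_sum]
    refine Finset.sum_congr rfl fun a _ => ?_
    rw [mul_smul_comm, smul_mul_assoc]

theorem avg_apply (ρ : Representation E G V) (R : Subgroup G) [Fintype R] (T : Module.End E V) :
    avg ρ R T = ∑ a : R, ρ (a : G) * T * ρ (a : G)⁻¹ := rfl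

theorem avg_conj (ρ : Representation E G V) (R : Subgroup G) [Fintype R] (b : R)
    (T : Module.End E V) : avg ρ R (ρ (b : G) * T * ρ (b : G)⁻¹) = avg ρ R T := by
  rw [avg_apply, avg_apply]
  refine Fintype.sum_equiv (Equiv.mulRight b) _ _ fun a => ?_
  show ρ (a : G) * (ρ (b : G) * T * ρ (b : G)⁻¹) * ρ (a : G)⁻¹ =
    ρ ((a * b : R) : G) * T * ρ ((a * b : R) : G)⁻¹
  rw [Subgroup.coe_mul, map_mul, mul_inv_rev, map_mul]
  simp only [mul_assoc]

theorem RD.finrank_commutant_le (h : RD ρ F R r s) (T0 : Module.End E V) {a0 : R}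
    (ha0 : ∀ a : R, ∃ n : ℕ, a0 ^ n = a) (hT0 : T0 = ρ (a0 : G))
    (C : Submodule E (Module.End E V)) (hC : ∀ S ∈ C, S * T0 = T0 * S) :
    letI := actQ h.hRF
    finrank E C ≤ Nat.card (MulAction.orbitRel.Quotient R (F ⧸ center F)) := by
  classical
  let act := actQ h.hRF
  have : Fintype R := Fintype.ofFinite R
  have : Fintype (F ⧸ center F) := Fintype.ofFinite _
  let Ω := MulAction.orbitRel.Quotient R (F ⧸ center F)
  have : Fintype Ω := Fintype.ofFinite _
  let B : F ⧸ center F → Module.End E V := fun x => ρ (sig F x : G)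
  have hsmul : ∀ (a : R) (f : F), a • (QuotientGroup.mk f : F ⧸ center F) =
    QuotientGroup.mk (alpha h.hRF a f) := fun a f => rfl
  have hB : ∀ (a : R) (x : F ⧸ center F), avg ρ R (B (a • x)) ∈ Submodule.span E {avg ρ R (B x)} := by
    intro a x
    -- `B x` is a multiple of the conjugate
    obtain ⟨c, hc⟩ := h.apply_eq ((alpha h.hRF a⁻¹) (sig F (a • x)))
    have h1 : (QuotientGroup.mk ((alpha h.hRF a⁻¹) (sig F (a • x))) : F ⧸ center F) = x := by
      rw [← hsmul, mk_sig, inv_smul_smul]
    rw [h1, alpha_coe] at hc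
    have h2 : B (a • x) = ρ (a : G) * (c • B x) * ρ (a : G)⁻¹ := by
      show ρ (sig F (a • x) : G) = _
      rw [show c • B x = c • ρ (sig F x : G) from rfl, ← hc, ← map_mul, ← map_mul]
      congr 1
      rw [Subgroup.coe_inv]
      group
    rw [h2, avg_conj, map_smul]
    exact Submodule.smul_mem _ _ (Submodule.mem_span_singleton_self _)
  have hle : C ≤ Submodule.span E (Set.range fun o : Ω => avg ρ R (B (Quotient.out o))) := by
    intro T hT
    have hcomm : ∀ a : R, ρ (a : G) * T * ρ (a : G)⁻¹ = T := by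
      intro a
      obtain ⟨n, rfl⟩ := ha0 a
      have h1 : Commute T T0 := hC T hT
      have h2 : Commute T (ρ ((a0 ^ n : R) : G)) := by
        rw [Subgroup.coe_pow, map_pow, ← hT0]
        exact h1.pow_right n
      rw [← h2.eq, mul_assoc, ← map_mul, mul_inv_cancel, map_one, mul_one]
    have h1 : avg ρ R T = (r : E) • T := by
      rw [avg_apply, Finset.sum_congr rfl fun a _ => hcomm a, Finset.sum_const, Finset.card_univ,
        ← Nat.card_eq_fintype_card, h.hR, Nat.cast_smul_eq_nsmul]
    have h2 : T = (r : E)⁻¹ • avg ρ R T := by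
      rw [h1, smul_smul, inv_mul_cancel₀ h.hrE, one_smul]
    have h3 : ∀ S : Module.End E V, avg ρ R S ∈
        Submodule.span E (Set.range fun o : Ω => avg ρ R (B (Quotient.out o))) := by
      intro S
      have h4 : S ∈ Submodule.span E (Set.range B) := by
        rw [show Set.range B = Set.range fun x : F ⧸ center F => ρ (sig F x : G) from rfl,
          h.span_eq_top]
        exact Submodule.mem_top
      induction h4 using Submodule.span_induction with
      | mem x hx =>
        obtain ⟨y, rfl⟩ := hx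
        have h5 : (Quotient.out (Quotient.mk (MulAction.orbitRel R (F ⧸ center F)) y)) ∈
            MulAction.orbit R y := by
          have h6 := Quotient.mk_out (s := MulAction.orbitRel R (F ⧸ center F)) y
          exact MulAction.orbitRel_apply.mp h6
        obtain ⟨a, ha⟩ := h5
        have h6 : y = a⁻¹ • (Quotient.out (Quotient.mk (MulAction.orbitRel R (F ⧸ center F)) y)) := by
          rw [← ha, inv_smul_smul]
        have h7 := hB a⁻¹ (Quotient.out (Quotient.mk (MulAction.orbitRel R (F ⧸ center F)) y))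
        rw [← h6] at h7
        refine (Submodule.span_le.mpr ?_) h7
        rintro _ rfl
        exact Submodule.subset_span ⟨_, rfl⟩
      | zero => rw [map_zero]; exact Submodule.zero_mem _
      | add x y _ _ hx hy => rw [map_add]; exact Submodule.add_mem _ hx hy
      | smul c x _ hx => rw [map_smul]; exact Submodule.smul_mem _ _ hx
    rw [h2]
    exact Submodule.smul_mem _ _ (h3 T)
  calc finrank E C ≤ finrank E (Submodule.span E
        (Set.range fun o : Ω => avg ρ R (B (Quotient.out o)))) := Submodule.finrank_mono hle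
    _ ≤ Fintype.card Ω := finrank_range_le_card _
    _ = Nat.card Ω := Nat.card_eq_fintype_card.symm

theorem RD.card_orbits (h : RD ρ F R r s) :
    letI := actQ h.hRF
    Nat.card (MulAction.orbitRel.Quotient R (F ⧸ center F)) * r =
      Nat.card (F ⧸ center F) + (r - 1) := by
  classical
  let act := actQ h.hRF
  have : Fintype R := Fintype.ofFinite R
  have : Fintype (F ⧸ center F) := Fintype.ofFinite _
  have : Fintype (MulAction.orbitRel.Quotient R (F ⧸ center F)) := Fintype.ofFinite _
  have h1 := MulAction.sum_card_fixedBy_eq_card_orbits_mul_card_group R (F ⧸ center F)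
  have hR : Fintype.card R = r := by rw [← Nat.card_eq_fintype_card, h.hR]
  rw [hR] at h1
  rw [Nat.card_eq_fintype_card, Nat.card_eq_fintype_card, ← h1]
  rw [← Finset.add_sum_erase Finset.univ _ (Finset.mem_univ (1 : R))]
  congr 1
  · refine Fintype.card_congr ?_
    have : MulAction.fixedBy (F ⧸ center F) (1 : R) = Set.univ := by
      ext x
      simp
    rw [this]
    exact Equiv.Set.univ _
  · have h2 : ∀ a ∈ Finset.univ.erase (1 : R),
        Fintype.card (MulAction.fixedBy (F ⧸ center F) a) = 1 := by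
      intro a ha
      have ha1 : a ≠ 1 := Finset.ne_of_mem_erase ha
      rw [Fintype.card_eq_one_iff]
      refine ⟨⟨1, ?_⟩, ?_⟩
      · rw [MulAction.mem_fixedBy]
        exact map_one (QuotientGroup.map (center F) (center F) (alpha h.hRF a).toMonoidHom
          (fun _ hz => map_mem_center (alpha h.hRF a) hz))
      · rintro ⟨x, hx⟩
        apply Subtype.ext
        show x = 1
        induction x using QuotientGroup.induction_on with | H f => ?_
        rw [MulAction.mem_fixedBy] at hx
        have h3 : ((alpha h.hRF a f : F) : F ⧸ center F) = f := hx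
        have h4 : f⁻¹ * alpha h.hRF a f ∈ center F := QuotientGroup.eq.mp h3.symm
        exact (QuotientGroup.eq_one_iff _).mpr (h.mem_center_of_fixed ha1 h4)
    rw [Finset.sum_congr rfl h2, Finset.sum_const, Finset.card_erase_of_mem (Finset.mem_univ _),
      Finset.card_univ, hR, smul_eq_mul, mul_one]

theorem arith {d r s k : ℕ} (hr : r.Prime) (hs : s.Prime) (hd : 2 ≤ d) (hk : d ^ 2 = s ^ k)
    {c o : ℕ} (h1 : o * r = d ^ 2 + (r - 1)) (h2 : c ≤ o) (h3 : d ^ 2 ≤ (r - 1) * c) :
    ∃ k : ℕ, r = 2 ^ k + 1 := by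
  obtain ⟨t, rfl⟩ : ∃ t, r = t + 1 := ⟨r - 1, by have := hr.pos; omega⟩
  rw [Nat.add_sub_cancel] at h1 h3
  have ht : 1 ≤ t := by have := hr.two_le; omega
  -- `d ≤ t`
  have h4 : d ^ 2 ≤ t ^ 2 := by
    have h5 : d ^ 2 * (t + 1) ≤ t * (d ^ 2 + t) := by
      calc d ^ 2 * (t + 1) ≤ t * c * (t + 1) := Nat.mul_le_mul_right _ h3
        _ ≤ t * o * (t + 1) := Nat.mul_le_mul_right _ (Nat.mul_le_mul_left _ h2)
        _ = t * (d ^ 2 + t) := by rw [mul_assoc, h1]
    nlinarith
  have h5 : d ≤ t := by
    by_contra hcon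
    push Not at hcon
    have : t ^ 2 < d ^ 2 := Nat.pow_lt_pow_left hcon (by norm_num)
    omega
  have h6 : (t + 1) ∣ (d - 1) * (d + 1) := by
    have h7 : (d - 1) * (d + 1) + (t + 1) = o * (t + 1) := by
      rw [h1]
      obtain ⟨e, rfl⟩ : ∃ e, d = e + 1 := ⟨d - 1, by omega⟩
      rw [Nat.add_sub_cancel]
      ring
    have h8 : (t + 1) ∣ (d - 1) * (d + 1) + (t + 1) := by rw [h7]; exact dvd_mul_left _ _
    exact (Nat.dvd_add_left (dvd_refl _)).mp h8
  have h7 : d = t := by
    rcases (Nat.Prime.dvd_mul hr).mp h6 with h | h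
    · have := Nat.le_of_dvd (by omega) h
      omega
    · have := Nat.le_of_dvd (by omega) h
      omega
  subst h7
  obtain ⟨m, -, hm⟩ : ∃ m ≤ k, d = s ^ m := (Nat.dvd_prime_pow hs).mp
    ((dvd_pow_self d (by norm_num)).trans hk.dvd)
  rcases hs.eq_two_or_odd' with rfl | hodd
  · exact ⟨m, by rw [hm]⟩
  · have h8 : Odd d := by rw [hm]; exact hodd.pow
    have h9 : Even (d + 1) := h8.add_one
    have h10 := (Nat.Prime.even_iff hr).mp h9
    exact ⟨0, by rw [h10]; norm_num⟩

/-- **The key lemma.** -/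
theorem RD.exists_fixed (h : RD ρ F R r s) (hr : ¬ ∃ k : ℕ, r = 2 ^ k + 1) :
    ∃ v : V, v ≠ 0 ∧ ∀ a ∈ R, ρ a v = v := by
  by_contra hcon
  push Not at hcon
  apply hr
  have hp : Fact (Nat.card R).Prime := ⟨h.hR ▸ h.hr⟩
  have hsp : Fact s.Prime := ⟨h.hs⟩
  have hnt : Nontrivial R := Finite.one_lt_card_iff_nontrivial.mp (hp.out.one_lt)
  obtain ⟨a0, ha0⟩ := exists_ne (1 : R)
  have hgen : ∀ a : R, ∃ n : ℕ, a0 ^ n = a := by
    intro a
    have h8 : a ∈ Subgroup.zpowers a0 := mem_zpowers_of_prime_card rfl ha0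
    rw [← mem_powers_iff_mem_zpowers] at h8
    exact h8
  let T0 : Module.End E V := ρ (a0 : G)
  let C : Submodule E (Module.End E V) :=
    { carrier := {S | S * T0 = T0 * S}
      add_mem' := by
        intro a b ha hb
        show (a + b) * T0 = T0 * (a + b)
        rw [add_mul, mul_add, ha, hb]
      zero_mem' := by
        show 0 * T0 = T0 * 0
        rw [zero_mul, mul_zero]
      smul_mem' := by
        intro c a ha
        show c • a * T0 = T0 * c • a
        rw [smul_mul_assoc, mul_smul_comm, ha] }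
  have hT0r : T0 ^ r = 1 := by
    show ρ (a0 : G) ^ r = 1
    rw [← map_pow, ← Subgroup.coe_pow, ← h.hR, pow_card_eq_one', Subgroup.coe_one, map_one]
  have hfix : ∀ v, T0 v = v → v = 0 := by
    intro v hv
    by_contra hv0
    obtain ⟨a, ha, hne⟩ := hcon v hv0
    apply hne
    obtain ⟨n, hn⟩ := hgen ⟨a, ha⟩
    have h1 : (a0 : G) ^ n = a := by
      have := congrArg Subtype.val hn
      rwa [Subgroup.coe_pow] at this
    rw [← h1]
    have h2 : ∀ m : ℕ, ρ ((a0 : G) ^ m) v = v := by
      intro m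
      induction m with
      | zero => rw [pow_zero, map_one, Module.End.one_apply]
      | succ m ih => rw [pow_succ', mul_apply', ih]; exact hv
    exact h2 n
  have h3 := sq_le_commutant T0 h.hrE hT0r hfix C (fun S hS => hS)
  have h2 := h.finrank_commutant_le T0 hgen rfl C (fun S hS => hS)
  have h1 := h.card_orbits
  have hcard := h.card_eq
  rw [hcard] at h1
  obtain ⟨k, hk⟩ : ∃ k, finrank E V ^ 2 = s ^ k := by
    rw [← hcard]
    obtain ⟨n, hn⟩ := h.hF.exists_card_eq
    have h4 : Nat.card (F ⧸ center F) ∣ s ^ n := by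
      rw [← hn]
      exact Subgroup.card_quotient_dvd_card _
    obtain ⟨k, -, hk⟩ := (Nat.dvd_prime_pow h.hs).mp h4
    exact ⟨k, hk⟩
  have hd : 2 ≤ finrank E V := by
    have hntV := h.hirr.1
    have hpos : 0 < finrank E V := finrank_pos
    by_contra hlt
    have hd1 : finrank E V = 1 := by omega
    rw [hd1, one_pow] at hcard
    -- `F` is its own centre, and `[F, R] = F` is trivial
    have hall : ∀ f : F, f ∈ center F := by
      intro f
      have h4 : Subsingleton (F ⧸ center F) := (Nat.card_eq_one_iff_unique.mp hcard).1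
      exact (QuotientGroup.eq_one_iff f).mp (Subsingleton.elim _ _)
    have hle : ⁅F, R⁆ ≤ ⊥ := by
      rw [Subgroup.commutator_le]
      intro f hf a ha
      have h5 := congrArg Subtype.val (h.alpha_center ⟨a, ha⟩ (hall ⟨f, hf⟩))
      rw [alpha_coe] at h5
      have h6 : a * f * a⁻¹ = f := h5
      rw [Subgroup.mem_bot, commutatorElement_def]
      have h7 : f * a * f⁻¹ * a⁻¹ = f * (a * f * a⁻¹)⁻¹ := by group
      rw [h7, h6, mul_inv_cancel]
    rw [h.hcomm, le_bot_iff] at hle
    have h8 := h.hZ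
    have h9 : Nat.card (center F) = 1 := by
      have h10 := Subgroup.card_le_card_group (center F)
      have h11 : Nat.card F = 1 := by rw [hle]; exact Subgroup.card_bot
      rw [h11] at h10
      exact le_antisymm h10 Nat.card_pos
    rw [h9] at h8
    exact h.hs.one_lt.ne h8
  exact arith h.hr h.hs hd hk h1 h2 h3

end Cfsg.Agent.H575.ExtraIrr
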