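import Cfsg.Agent.H575.Dim
import Cfsg.Agent.Blocks.ModularTraces

/-!
# An element of prime order acting together with an extraspecial group on a module

Lemmas on modules over an algebraically closed field.
-/

set_option autoImplicit false
set_option linter.unusedSectionVars false

namespace Cfsg.Agent.H575.ExtraMod

open Module Cfsg.Agent.H575.Dim

section Clifford

variable {E : Type*} [Field E] [IsAlgClosed E] {H V : Type*} [Group H] [Finite H]
  [AddCommGroup V] [Module E V] [FiniteDimensional E V]

/-- If the restriction to a normal subgroup of prime index is reducible, then a complement has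
nonzero fixed points. -/
theorem exists_fixed_of_not_irr (hH : (Nat.card H : E) ≠ 0) (ρ : Representation E H V)
    (hρ : Irr ρ) (N R : Subgroup H) [hNn : N.Normal] (hN : N.index.Prime)
    (hR : Nat.card R = N.index) (hNR : N ⊔ R = ⊤) (hirr : ¬ Irr (ρ.comp N.subtype)) :
    ∃ v : V, v ≠ 0 ∧ ∀ g ∈ R, ρ g v = v := by
  classical
  have : Fintype R := Fintype.ofFinite R
  obtain ⟨W, hW, hWirr, hfin⟩ := (step hH ρ hρ N hN).resolve_left hirr
  let Φ : (R → W) →ₗ[E] V :=
    { toFun := fun w => ∑ g : R, ρ g (w g)
      map_add' := by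
        intro a b
        simp [Finset.sum_add_distrib]
      map_smul' := by
        intro c a
        simp [Finset.smul_sum] }
  have hΦ : ∀ w, Φ w = ∑ g : R, ρ g (w g) := fun w => rfl
  have hΦR : ∀ (h : R) (w : R → W), ρ h (Φ w) = Φ fun g => w (h⁻¹ * g) := by
    intro h w
    rw [hΦ, hΦ, map_sum]
    refine Fintype.sum_bijective (fun y => h * y) (Group.mulLeft_bijective h) _ _ fun y => ?_
    rw [inv_mul_cancel_left, Subgroup.coe_mul, mul_apply']
  have hΦN : ∀ n ∈ N, ∀ w : R → W, ρ n (Φ w) ∈ LinearMap.range Φ := by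
    intro n hn w
    refine ⟨fun g => ⟨ρ ((g : H)⁻¹ * n * g) (w g), hW ⟨_, by
      have := hNn.conj_mem n hn (g : H)⁻¹
      rwa [inv_inv] at this⟩ _ (w g).2⟩, ?_⟩
    rw [hΦ, hΦ, map_sum]
    refine Finset.sum_congr rfl fun g _ => ?_
    show ρ g (ρ ((g : H)⁻¹ * n * g) (w g)) = ρ n (ρ g (w g))
    rw [← mul_apply', ← mul_apply']
    congr 2
    group
  have hinv : ∀ h : H, ∀ v ∈ LinearMap.range Φ, ρ h v ∈ LinearMap.range Φ := by
    intro h
    have h1 : h ∈ N ⊔ R := by rw [hNR]; exact Subgroup.mem_top h
    let K : Subgroup H :=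
      { carrier := {h | ∀ v ∈ LinearMap.range Φ, ρ h v ∈ LinearMap.range Φ}
        one_mem' := fun v hv => by rw [map_one]; exact hv
        mul_mem' := fun {a b} ha hb v hv => by
          rw [mul_apply']
          exact ha _ (hb _ hv)
        inv_mem' := by
          intro a ha v hv
          have h2 : ∀ (n : ℕ), ∀ v ∈ LinearMap.range Φ, ρ (a ^ n) v ∈ LinearMap.range Φ := by
            intro n
            induction n with
            | zero => intro v hv; rw [pow_zero, map_one]; exact hv
            | succ n ih =>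
              intro v hv
              rw [pow_succ', mul_apply']
              exact ha _ (ih v hv)
          have h3 : a⁻¹ = a ^ (orderOf a - 1) := by
            rw [inv_eq_of_mul_eq_one_right]
            rw [← pow_succ', Nat.sub_add_cancel (orderOf_pos a), pow_orderOf_eq_one]
          rw [h3]
          exact h2 _ v hv }
    have hK : N ⊔ R ≤ K := by
      refine sup_le ?_ ?_
      · rintro n hn _ ⟨w, rfl⟩
        exact hΦN n hn w
      · rintro h hh _ ⟨w, rfl⟩
        exact ⟨_, (hΦR ⟨h, hh⟩ w).symm⟩
    exact hK h1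
  have hWnt := hWirr.1
  obtain ⟨w0, hw0⟩ := exists_ne (0 : W)
  have hrange : LinearMap.range Φ = ⊤ := by
    rcases hρ.2 _ hinv with h | h
    · exfalso
      have h1 : Φ (Pi.single 1 w0) = w0 := by
        rw [hΦ, Finset.sum_eq_single 1]
        · rw [Pi.single_eq_same, Subgroup.coe_one, map_one]
          rfl
        · intro b _ hb
          rw [Pi.single_eq_of_ne hb]
          simp
        · intro h
          exact absurd (Finset.mem_univ _) h
      have h2 : (w0 : V) ∈ LinearMap.range Φ := ⟨_, h1⟩
      rw [h, Submodule.mem_bot] at h2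
      exact hw0 (Subtype.ext h2)
    · exact h
  have hsurj : Function.Surjective Φ := LinearMap.range_eq_top.mp hrange
  have hfr : finrank E (R → W) = finrank E V := by
    rw [Module.finrank_pi_fintype, Finset.sum_const, Finset.card_univ, smul_eq_mul, hfin, ← hR,
      Nat.card_eq_fintype_card]
  have hinj : Function.Injective Φ := (LinearMap.injective_iff_surjective_of_finrank_eq_finrank hfr).mpr hsurj
  refine ⟨Φ fun _ => w0, ?_, ?_⟩
  · intro h
    have h1 := hinj (h.trans (map_zero Φ).symm)
    exact hw0 (congrFun h1 1)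
  · intro g hg
    exact hΦR ⟨g, hg⟩ _

end Clifford

section Commutant

variable {E : Type*} [Field E] [IsAlgClosed E] {V : Type*}
  [AddCommGroup V] [Module E V] [FiniteDimensional E V]

/-- An operator of finite order `r` without nonzero fixed points has a large commutant. -/
theorem sq_le_commutant (T : Module.End E V) {r : ℕ} (hr : (r : E) ≠ 0) (hT : T ^ r = 1)
    (h1 : ∀ v, T v = v → v = 0) (C : Submodule E (Module.End E V))
    (hC : ∀ S : Module.End E V, S * T = T * S → S ∈ C) :
    finrank E V ^ 2 ≤ (r - 1) * finrank E C := by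
  classical
  have hr0 : 0 < r := Nat.pos_of_ne_zero (by rintro rfl; exact hr Nat.cast_zero)
  have hss : T.IsSemisimple := by
    apply Module.End.isSemisimple_of_squarefree_aeval_eq_zero (p := Polynomial.X ^ r - 1)
    · exact (Polynomial.X_pow_sub_one_separable_iff.mpr hr).squarefree
    · rw [map_sub, map_pow, Polynomial.aeval_X, map_one, sub_eq_zero, hT]
  have htop : ⨆ μ : E, T.eigenspace μ = ⊤ := by
    rw [← Module.End.iSup_maxGenEigenspace_eq_top T]
    exact iSup_congr fun μ => (hss.isFinitelySemisimple.maxGenEigenspace_eq_eigenspace μ).symm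
  let S : Finset E := (Polynomial.nthRootsFinset r (1 : E)).erase 1
  have hS : S.card ≤ r - 1 := by
    rw [Finset.card_erase_of_mem ((Polynomial.mem_nthRootsFinset hr0 1).mpr (one_pow r))]
    refine Nat.sub_le_sub_right ?_ 1
    rw [Polynomial.nthRootsFinset_def]
    exact (Multiset.toFinset_card_le _).trans (Polynomial.card_nthRoots r 1)
  have hpow : ∀ (μ : E) (v : V), T v = μ • v → ∀ n : ℕ, (T ^ n) v = μ ^ n • v := by
    intro μ v hv n
    induction n with
    | zero => simp
    | succ n ih => rw [pow_succ', Module.End.mul_apply, ih, map_smul, hv, smul_smul, pow_succ]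
  have hbot : ∀ μ : E, μ ∉ S → T.eigenspace μ = ⊥ := by
    intro μ hμ
    rw [eq_bot_iff]
    intro v hv
    rw [Module.End.mem_eigenspace_iff] at hv
    rw [Submodule.mem_bot]
    by_contra hv0
    apply hμ
    rw [Finset.mem_erase, Polynomial.mem_nthRootsFinset hr0]
    constructor
    · rintro rfl
      rw [one_smul] at hv
      exact hv0 (h1 v hv)
    · have h2 := hpow μ v hv r
      rw [hT, Module.End.one_apply] at h2
      have h3 : (μ ^ r - 1) • v = 0 := by rw [sub_smul, one_smul, ← h2, sub_self]
      exact sub_eq_zero.mp ((smul_eq_zero.mp h3).resolve_right hv0)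
  have htop' : ⨆ μ : S, T.eigenspace (μ : E) = ⊤ := by
    rw [eq_top_iff, ← htop]
    refine iSup_le fun μ => ?_
    by_cases h : μ ∈ S
    · exact le_iSup (fun μ : S => T.eigenspace (μ : E)) ⟨μ, h⟩
    · rw [hbot μ h]; exact bot_le
  have hind : iSupIndep fun μ : S => T.eigenspace (μ : E) :=
    (T.eigenspaces_iSupIndep).comp Subtype.val_injective
  have hint := DirectSum.isInternal_submodule_of_iSupIndep_of_iSup_eq_top hind htop'
  let Φ : (∀ μ : S, T.eigenspace (μ : E)) ≃ₗ[E] V :=
    (DirectSum.linearEquivFunOnFintype E S fun μ : S => T.eigenspace (μ : E)).symm ≪≫ₗ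
      LinearEquiv.ofBijective (DirectSum.coeLinearMap fun μ : S => T.eigenspace (μ : E)) hint
  have hΦs : ∀ (μ : S) (v : T.eigenspace (μ : E)), Φ (Pi.single μ v) = v := by
    intro μ v
    show (DirectSum.coeLinearMap fun μ : S => T.eigenspace (μ : E))
      ((DirectSum.linearEquivFunOnFintype E S fun μ : S => T.eigenspace (μ : E)).symm
        (Pi.single μ v)) = v
    rw [DirectSum.linearEquivFunOnFintype_symm_single, DirectSum.coeLinearMap_lof]
  have hTΦ : ∀ w : (∀ μ : S, T.eigenspace (μ : E)),
      T (Φ w) = Φ fun μ => (μ : E) • w μ := by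
    intro w
    have h2 : w = ∑ μ : S, Pi.single μ (w μ) := (Finset.univ_sum_single w).symm
    have h3 : (fun μ : S => (μ : E) • w μ) = ∑ μ : S, Pi.single μ ((μ : E) • w μ) :=
      (Finset.univ_sum_single _).symm
    rw [h3]
    conv_lhs => rw [h2]
    rw [map_sum, map_sum, map_sum]
    refine Finset.sum_congr rfl fun μ _ => ?_
    rw [hΦs, hΦs]
    exact Module.End.mem_eigenspace_iff.mp (w μ).2
  -- block diagonal operators
  let Ψ : (∀ μ : S, Module.End E (T.eigenspace (μ : E))) →ₗ[E] Module.End E V :=
    { toFun := fun φ => Φ.toLinearMap ∘ₗ (LinearMap.pi fun μ => φ μ ∘ₗ LinearMap.proj μ) ∘ₗ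
        Φ.symm.toLinearMap
      map_add' := by
        intro a b
        apply LinearMap.ext
        intro v
        show Φ _ = Φ _ + Φ _
        rw [← map_add]
        rfl
      map_smul' := by
        intro c a
        apply LinearMap.ext
        intro v
        show Φ _ = c • Φ _
        rw [← map_smul]
        rfl }
  have hΨ : ∀ φ w, Ψ φ (Φ w) = Φ fun μ => φ μ (w μ) := by
    intro φ w
    show Φ _ = _
    congr 1
    funext μ
    show φ μ (Φ.symm (Φ w) μ) = φ μ (w μ)
    rw [LinearEquiv.symm_apply_apply]
  have hΨC : ∀ φ, Ψ φ ∈ C := by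
    intro φ
    apply hC
    apply LinearMap.ext
    intro v
    obtain ⟨w, rfl⟩ := Φ.surjective v
    rw [Module.End.mul_apply, Module.End.mul_apply, hTΦ, hΨ, hΨ, hTΦ]
    congr 1
    funext μ
    rw [map_smul]
  have hΨinj : Function.Injective Ψ := by
    intro a b hab
    funext μ
    apply LinearMap.ext
    intro v
    have h2 : Ψ a (Φ (Pi.single μ v)) = Ψ b (Φ (Pi.single μ v)) := by rw [hab]
    rw [hΨ, hΨ] at h2
    have h3 := congrFun (Φ.injective h2) μ
    simpa using h3
  have h2 : finrank E (∀ μ : S, Module.End E (T.eigenspace (μ : E))) ≤ finrank E C :=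
    LinearMap.finrank_le_finrank_of_injective (f := Ψ.codRestrict C hΨC)
      (fun a b hab => hΨinj (congrArg Subtype.val hab))
  rw [Module.finrank_pi_fintype] at h2
  have h3 : finrank E V = ∑ μ : S, finrank E (T.eigenspace (μ : E)) := by
    rw [← Φ.finrank_eq, Module.finrank_pi_fintype]
  have h4 : ∑ μ : S, finrank E (Module.End E (T.eigenspace (μ : E))) =
      ∑ μ : S, finrank E (T.eigenspace (μ : E)) ^ 2 := by
    refine Finset.sum_congr rfl fun μ _ => ?_
    rw [Module.finrank_linearMap, sq]
  rw [h4] at h2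
  rw [h3]
  refine (sq_sum_le_card_mul_sum_sq).trans ?_
  refine Nat.mul_le_mul ?_ h2
  rw [Finset.card_univ, Fintype.card_coe]
  exact hS

end Commutant

end Cfsg.Agent.H575.ExtraMod
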