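import Cfsg.Agent.H575.ClaimK
import Cfsg.Agent.SignalizersComponents.CoprimeBasic

/-!
# Weight spaces of a subgroup acting commutatively

`π` a representation of `G` on `V` over an algebraically closed field, `A` a subgroup of order
invertible in the field acting commutatively on the invariant subspace `W`; `wt π A W l` is the weight
space of the function `l` on `A`.
-/

set_option autoImplicit false
set_option linter.unusedSectionVars false

namespace Cfsg.Agent.H575.Weights

open Module Cfsg.Agent.H575.Dim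

variable {E : Type*} [Field E] {G V : Type*} [Group G] [AddCommGroup V] [Module E V]

/-- `H` preserves `W` -/
def Pres (π : Representation E G V) (H : Subgroup G) (W : Submodule E V) : Prop :=
  ∀ h ∈ H, ∀ w ∈ W, π h w ∈ W

theorem Pres.sup {π : Representation E G V} {H K : Subgroup G} {W : Submodule E V}
    (h1 : Pres π H W) (h2 : Pres π K W) (hn : K ≤ Subgroup.normalizer (H : Set G)) :
    Pres π (H ⊔ K) W := by
  intro g hg w hw
  obtain ⟨x, hx, y, hy, rfl⟩ :=
    (SignalizersComponents.CoprimeBasic.mem_sup_iff hn g).mp hg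
  rw [mul_apply']
  exact h1 _ hx _ (h2 _ hy _ hw)

theorem Pres.mono {π : Representation E G V} {H K : Subgroup G} {W : Submodule E V}
    (h1 : Pres π H W) (h : K ≤ H) : Pres π K W := fun g hg => h1 g (h hg)

/-- the weight space of `l` -/
def wt (π : Representation E G V) (A : Subgroup G) (W : Submodule E V) (l : G → E) :
    Submodule E V where
  carrier := {v | v ∈ W ∧ ∀ a ∈ A, π a v = l a • v}
  add_mem' := by
    rintro u v ⟨hu, hu'⟩ ⟨hv, hv'⟩
    refine ⟨W.add_mem hu hv, fun a ha => ?_⟩
    rw [map_add, hu' a ha, hv' a ha, smul_add]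
  zero_mem' := ⟨W.zero_mem, fun a _ => by rw [map_zero, smul_zero]⟩
  smul_mem' := by
    rintro c v ⟨hv, hv'⟩
    refine ⟨W.smul_mem _ hv, fun a ha => ?_⟩
    rw [map_smul, hv' a ha, smul_comm]

theorem mem_wt {π : Representation E G V} {A : Subgroup G} {W : Submodule E V} {l : G → E}
    {v : V} : v ∈ wt π A W l ↔ v ∈ W ∧ ∀ a ∈ A, π a v = l a • v := Iff.rfl

theorem wt_le (π : Representation E G V) (A : Subgroup G) (W : Submodule E V) (l : G → E) :
    wt π A W l ≤ W := fun _ h => h.1

/-- equality of weights on `A` -/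
def Same (A : Subgroup G) (l m : G → E) : Prop := ∀ a ∈ A, l a = m a

theorem Same.symm {A : Subgroup G} {l m : G → E} (h : Same A l m) : Same A m l :=
  fun a ha => (h a ha).symm

theorem Same.trans {A : Subgroup G} {l m k : G → E} (h : Same A l m) (h' : Same A m k) :
    Same A l k := fun a ha => (h a ha).trans (h' a ha)

theorem Same.refl (A : Subgroup G) (l : G → E) : Same A l l := fun _ _ => rfl

theorem wt_congr (π : Representation E G V) {A : Subgroup G} (W : Submodule E V) {l m : G → E}
    (h : Same A l m) : wt π A W l = wt π A W m := by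
  ext v
  rw [mem_wt, mem_wt]
  constructor
  · rintro ⟨h1, h2⟩
    exact ⟨h1, fun a ha => by rw [h2 a ha, h a ha]⟩
  · rintro ⟨h1, h2⟩
    exact ⟨h1, fun a ha => by rw [h2 a ha, h a ha]⟩

/-- the conjugate weight -/
def cj (g : G) (l : G → E) : G → E := fun a => l (g⁻¹ * a * g)

theorem cj_mul (g h : G) (l : G → E) : cj (g * h) l = cj g (cj h l) := by
  funext a
  simp only [cj]
  congr 1
  group

theorem cj_one (l : G → E) : cj 1 l = l := by
  funext a
  simp [cj]

theorem conj_mem_of_normalizer {A : Subgroup G} {g : G} (hg : g ∈ Subgroup.normalizer (A : Set G))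
    {a : G} (ha : a ∈ A) : g⁻¹ * a * g ∈ A := by
  have h1 := (Subgroup.mem_normalizer_iff.mp
    ((Subgroup.normalizer (A : Set G)).inv_mem hg) a).mp ha
  rwa [inv_inv] at h1

theorem Same.cj {A : Subgroup G} {l m : G → E} (h : Same A l m) {g : G}
    (hg : g ∈ Subgroup.normalizer (A : Set G)) : Same A (cj g l) (cj g m) :=
  fun _ ha => h _ (conj_mem_of_normalizer hg ha)

theorem same_of_cj {A : Subgroup G} {l m : G → E} {g : G}
    (hg : g ∈ Subgroup.normalizer (A : Set G)) (h : Same A (cj g l) (cj g m)) : Same A l m := by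
  have h1 := h.cj ((Subgroup.normalizer (A : Set G)).inv_mem hg)
  rwa [← cj_mul, ← cj_mul, inv_mul_cancel, cj_one, cj_one] at h1

/-- translates of weight spaces -/
theorem apply_mem_wt {π : Representation E G V} {A : Subgroup G} {W : Submodule E V} {l : G → E}
    {g : G} (hg : g ∈ Subgroup.normalizer (A : Set G)) (hgW : ∀ w ∈ W, π g w ∈ W) {v : V}
    (hv : v ∈ wt π A W l) : π g v ∈ wt π A W (cj g l) := by
  refine ⟨hgW v hv.1, fun a ha => ?_⟩
  have h1 : π a (π g v) = π g (π (g⁻¹ * a * g) v) := by
    rw [← mul_apply', ← mul_apply']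
    congr 2
    group
  rw [h1, hv.2 _ (conj_mem_of_normalizer hg ha), map_smul]
  rfl

/-- elements commuting with `A` on `W` preserve weight spaces -/
theorem apply_mem_wt_of_comm {π : Representation E G V} {A : Subgroup G} {W : Submodule E V}
    {l : G → E} {x : G} (hxW : ∀ w ∈ W, π x w ∈ W)
    (hx : ∀ a ∈ A, ∀ w ∈ W, π a (π x w) = π x (π a w)) {v : V}
    (hv : v ∈ wt π A W l) : π x v ∈ wt π A W l := by
  refine ⟨hxW v hv.1, fun a ha => ?_⟩
  rw [hx a ha v hv.1, hv.2 a ha, map_smul]

open Classical in
/-- **independence of weight vectors** -/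
theorem sum_same_eq_zero {π : Representation E G V} {A : Subgroup G} {W : Submodule E V}
    {ι : Type*} (s : Finset ι) (v : ι → V) (l : ι → G → E)
    (hv : ∀ i ∈ s, v i ∈ wt π A W (l i)) (hsum : ∑ i ∈ s, v i = 0) (m : G → E) :
    ∑ i ∈ s with Same A (l i) m, v i = 0 := by
  -- separate the weights different from `m`
  have hsep : ∀ i : ι, ¬ Same A (l i) m → ∃ a ∈ A, m a ≠ l i a := by
    intro i hi
    by_contra hcon
    push Not at hcon
    exact hi (fun a ha => (hcon a ha).symm)
  choose! a haA ha using hsep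
  -- apply the operators one after the other
  have key : ∀ t : Finset ι, t ⊆ s.filter (fun i => ¬ Same A (l i) m) →
      ∃ (T : V →ₗ[E] V) (c : E), c ≠ 0 ∧ (∀ i ∈ s, Same A (l i) m → T (v i) = c • v i) ∧
        (∀ i ∈ s, ∃ d : E, T (v i) = d • v i) ∧ (∀ i ∈ t, T (v i) = 0) := by
    intro t
    induction t using Finset.induction_on with
    | empty =>
      intro _
      refine ⟨LinearMap.id, 1, one_ne_zero, fun i _ _ => by simp, fun i _ => ⟨1, by simp⟩, ?_⟩
      intro i hi
      exact absurd hi (Finset.notMem_empty i)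
    | insert j t hj ih =>
      intro hjt
      obtain ⟨T, c, hc, h1, h2, h3⟩ := ih (fun i hi => hjt (Finset.mem_insert_of_mem hi))
      have hjs := hjt (Finset.mem_insert_self j t)
      rw [Finset.mem_filter] at hjs
      have haj := haA j hjs.2
      refine ⟨(π (a j) - (l j (a j)) • LinearMap.id) ∘ₗ T, c * (m (a j) - l j (a j)),
        mul_ne_zero hc (sub_ne_zero.mpr (ha j hjs.2)), ?_, ?_, ?_⟩
      · intro i hi hsame
        rw [LinearMap.comp_apply, h1 i hi hsame, map_smul, LinearMap.sub_apply,
          LinearMap.smul_apply, LinearMap.id_apply, (hv i hi).2 _ haj, hsame _ haj, ← sub_smul,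
          smul_smul]
      · intro i hi
        obtain ⟨d, hd⟩ := h2 i hi
        refine ⟨d * (l i (a j) - l j (a j)), ?_⟩
        rw [LinearMap.comp_apply, hd, map_smul, LinearMap.sub_apply,
          LinearMap.smul_apply, LinearMap.id_apply, (hv i hi).2 _ haj, ← sub_smul, smul_smul]
      · intro i hi
        rw [Finset.mem_insert] at hi
        rcases hi with rfl | hi
        · obtain ⟨d, hd⟩ := h2 i hjs.1
          rw [LinearMap.comp_apply, hd, map_smul, LinearMap.sub_apply,
            LinearMap.smul_apply, LinearMap.id_apply, (hv i hjs.1).2 _ haj, sub_self, smul_zero]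
        · rw [LinearMap.comp_apply, h3 i hi, map_zero]
  obtain ⟨T, c, hc, h1, -, h3⟩ := key _ subset_rfl
  have h4 : T (∑ i ∈ s, v i) = c • ∑ i ∈ s with Same A (l i) m, v i := by
    rw [map_sum, ← Finset.sum_filter_add_sum_filter_not s (fun i => Same A (l i) m)
      (fun i => T (v i))]
    have h5 : ∑ i ∈ s with ¬ Same A (l i) m, T (v i) = 0 := Finset.sum_eq_zero fun i hi => h3 i hi
    rw [h5, add_zero, Finset.smul_sum]
    refine Finset.sum_congr rfl fun i hi => ?_
    rw [Finset.mem_filter] at hi
    exact h1 i hi.1 hi.2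
  rw [hsum, map_zero] at h4
  exact (smul_eq_zero.mp h4.symm).resolve_left hc

/-- **weight vectors span** -/
theorem le_of_wt_le [IsAlgClosed E] [FiniteDimensional E V] [Finite G]
    {π : Representation E G V} {A : Subgroup G} {W : Submodule E V}
    (hA : (Nat.card A : E) ≠ 0) (hAW : Pres π A W)
    (hcomm : ∀ a ∈ A, ∀ b ∈ A, ∀ w ∈ W, π a (π b w) = π b (π a w))
    (Q : Submodule E V) (hQ : ∀ l : G → E, wt π A W l ≤ Q) : W ≤ Q := by
  classical
  let f : A → Module.End E W := fun a => sub π A.subtype W (fun a => hAW a a.2) a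
  have hf : ∀ a w, ((f a w : W) : V) = π a w := fun a w => rfl
  have hfpow : ∀ (a : A) (n : ℕ) (w : W), (((f a ^ n) w : W) : V) = π ((a : G) ^ n) w := by
    intro a n
    induction n with
    | zero => intro w; simp
    | succ n ih =>
      intro w
      rw [pow_succ', Module.End.mul_apply, hf, ih, pow_succ', mul_apply']
  have hss : ∀ a, (f a).IsSemisimple := by
    intro a
    apply Module.End.isSemisimple_of_squarefree_aeval_eq_zero
      (p := Polynomial.X ^ (Nat.card A) - 1)
    · exact (Polynomial.X_pow_sub_one_separable_iff.mpr hA).squarefree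
    · rw [map_sub, map_pow, Polynomial.aeval_X, map_one, sub_eq_zero]
      apply LinearMap.ext
      intro w
      apply Subtype.ext
      rw [hfpow]
      have : (a : G) ^ Nat.card A = 1 := by
        have h1 : a ^ Nat.card A = 1 := pow_card_eq_one'
        exact congrArg Subtype.val h1
      rw [this, map_one]
      rfl
  have htop : ⨆ χ : A → E, ⨅ a, (f a).maxGenEigenspace (χ a) = ⊤ := by
    apply Module.End.iSup_iInf_maxGenEigenspace_eq_top_of_iSup_maxGenEigenspace_eq_top_of_commute
    · intro a b _
      apply LinearMap.ext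
      intro w
      apply Subtype.ext
      exact hcomm a a.2 b b.2 w w.2
    · intro a
      exact Module.End.iSup_maxGenEigenspace_eq_top (f a)
  intro w hw
  have hw1 : (⟨w, hw⟩ : W) ∈ ⨆ χ : A → E, ⨅ a, (f a).maxGenEigenspace (χ a) := by
    rw [htop]; exact Submodule.mem_top
  have h2 : ∀ x : W, x ∈ ⨆ χ : A → E, ⨅ a, (f a).maxGenEigenspace (χ a) → (x : V) ∈ Q := by
    intro x hx
    induction hx using Submodule.iSup_induction' with
    | mem χ x hx =>
      apply hQ (fun g => if h : g ∈ A then χ ⟨g, h⟩ else 0)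
      refine ⟨x.2, fun a ha => ?_⟩
      change π a x = (if h : a ∈ A then χ ⟨a, h⟩ else 0) • (x : V)
      rw [dif_pos ha]
      rw [Submodule.mem_iInf] at hx
      have h3 := hx ⟨a, ha⟩
      rw [(hss _).isFinitelySemisimple.maxGenEigenspace_eq_eigenspace,
        Module.End.mem_eigenspace_iff] at h3
      exact congrArg Subtype.val h3
    | zero => exact Q.zero_mem
    | add x y _ _ hx hy => exact Q.add_mem hx hy
  exact h2 _ hw1

/-- the stabiliser of a weight -/
def stab (A : Subgroup G) (l : G → E) : Subgroup G where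
  carrier := {g | g ∈ Subgroup.normalizer (A : Set G) ∧ Same A (cj g l) l}
  one_mem' := ⟨Subgroup.one_mem _, by rw [cj_one]; exact Same.refl A l⟩
  mul_mem' := by
    rintro g h ⟨hg, hg'⟩ ⟨hh, hh'⟩
    refine ⟨Subgroup.mul_mem _ hg hh, ?_⟩
    rw [cj_mul]
    exact (hh'.cj hg).trans hg'
  inv_mem' := by
    rintro g ⟨hg, hg'⟩
    refine ⟨Subgroup.inv_mem _ hg, ?_⟩
    have h1 := hg'.cj (Subgroup.inv_mem _ hg)
    rw [← cj_mul, inv_mul_cancel, cj_one] at h1
    exact h1.symm

theorem mem_stab {A : Subgroup G} {l : G → E} {g : G} :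
    g ∈ stab A l ↔ g ∈ Subgroup.normalizer (A : Set G) ∧ Same A (cj g l) l := Iff.rfl

end Cfsg.Agent.H575.Weights
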