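import Cfsg.Agent.H575.Fix
import Cfsg.Agent.H575.Weights
import Cfsg.Agent.Blocks.ModularTraces

/-!
# Dimensions of representations of groups of class two
-/

set_option autoImplicit false
set_option linter.unusedSectionVars false

namespace Cfsg.Agent.H575.ExtraSq

open Module Subgroup Cfsg.Agent.H575.Dim Cfsg.Agent.H575.ExtraIrr Cfsg.Agent.H575.Weights
open scoped commutatorElement

variable {E : Type*} [Field E] {G V : Type*} [Group G]
  [AddCommGroup V] [Module E V] [FiniteDimensional E V]

/-- the conjugation action on operators -/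
def cjRep (ρ : Representation E G V) : Representation E G (Module.End E V) where
  toFun g :=
    { toFun := fun T => ρ g * T * ρ g⁻¹
      map_add' := fun S T => by rw [mul_add, add_mul]
      map_smul' := fun c T => by rw [mul_smul_comm, smul_mul_assoc]; rfl }
  map_one' := by
    apply LinearMap.ext
    intro T
    show ρ 1 * T * ρ 1⁻¹ = T
    rw [inv_one, map_one, one_mul, mul_one]
  map_mul' := by
    intro a b
    apply LinearMap.ext
    intro T
    show ρ (a * b) * T * ρ (a * b)⁻¹ = ρ a * (ρ b * T * ρ b⁻¹) * ρ a⁻¹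
    rw [mul_inv_rev, map_mul, map_mul]
    simp only [mul_assoc]

theorem cjRep_apply (ρ : Representation E G V) (g : G) (T : Module.End E V) :
    cjRep ρ g T = ρ g * T * ρ g⁻¹ := rfl

theorem ne_zero_rep (ρ : Representation E G V) [Nontrivial V] (g : G) : ρ g ≠ 0 := by
  intro h
  obtain ⟨v, hv⟩ := exists_ne (0 : V)
  apply hv
  rw [← inv_apply ρ g v, h, LinearMap.zero_apply, map_zero]

/-- operators of different cosets of the radical are linearly independent -/
theorem relIndex_le_sq [Finite G] (ρ : Representation E G V) [Nontrivial V] (P N : Subgroup G)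
    (c : G → G → E) (hc : ∀ x ∈ P, ∀ y ∈ P, ∀ v, ρ ⁅x, y⁆ v = c x y • v)
    (hnd : ∀ x ∈ P, (∀ y ∈ P, c y x = 1) → x ∈ N) : N.relIndex P ≤ finrank E V ^ 2 := by
  classical
  let S := P ⧸ N.subgroupOf P
  have : Fintype S := Fintype.ofFinite S
  let x : S → P := fun s => Quotient.out s
  have hx : ∀ s : S, (QuotientGroup.mk (x s) : S) = s := fun s => Quotient.out_eq' s
  have hwt : ∀ s : S, ρ (x s : G) ∈ wt (cjRep ρ) P ⊤ (fun y => c y (x s)) := by
    intro s
    refine ⟨Submodule.mem_top, fun y hy => ?_⟩
    rw [cjRep_apply]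
    have h1 : ρ y * ρ (x s : G) * ρ y⁻¹ = ρ ⁅y, (x s : G)⁆ * ρ (x s : G) := by
      rw [← map_mul, ← map_mul, ← map_mul]
      congr 1
      simp only [commutatorElement_def]
      group
    rw [h1]
    apply LinearMap.ext
    intro v
    rw [Module.End.mul_apply, hc y hy _ (x s).2, LinearMap.smul_apply]
  have hli : LinearIndependent E (fun s : S => ρ (x s : G)) := by
    rw [Fintype.linearIndependent_iff]
    intro a ha t
    have h1 := sum_same_eq_zero (π := cjRep ρ) (A := P) (W := ⊤) Finset.univ
      (fun s : S => a s • ρ (x s : G)) (fun s : S => fun y => c y (x s))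
      (fun s _ => Submodule.smul_mem _ _ (hwt s)) ha (fun y => c y (x t))
    have hfil : (Finset.univ.filter fun s : S =>
        Same P (fun y => c y (x s)) (fun y => c y (x t))) = {t} := by
      ext s
      rw [Finset.mem_filter, Finset.mem_singleton]
      constructor
      · rintro ⟨-, hs⟩
        rw [← hx s, ← hx t, QuotientGroup.eq]
        show ((x s)⁻¹ * x t : P) ∈ N.subgroupOf P
        rw [Subgroup.mem_subgroupOf]
        apply hnd _ ((x s)⁻¹ * x t).2
        intro y hy
        have h2 : c y (x s) = c y (x t) := hs y hy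
        -- `[y, xs⁻¹ xt]` acts trivially
        obtain ⟨v, hv⟩ := exists_ne (0 : V)
        have h3 : ⁅y, (((x s)⁻¹ * x t : P) : G)⁆ =
            (x s : G)⁻¹ * (⁅y, (x s : G)⁆⁻¹ * ⁅y, (x t : G)⁆) * x s := by
          rw [Subgroup.coe_mul, Subgroup.coe_inv]
          simp only [commutatorElement_def]
          group
        have h4 : ρ (⁅y, (x s : G)⁆⁻¹ * ⁅y, (x t : G)⁆) = 1 := by
          apply LinearMap.ext
          intro w
          rw [mul_apply', hc y hy _ (x t).2, ← h2, ← hc y hy _ (x s).2, inv_apply]
          rfl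
        have h5 : ρ ⁅y, (((x s)⁻¹ * x t : P) : G)⁆ v = v := by
          rw [h3, mul_apply', mul_apply', h4, Module.End.one_apply, inv_apply]
        rw [hc y hy _ ((x s)⁻¹ * x t).2] at h5
        have h6 : (c y (((x s)⁻¹ * x t : P) : G) - 1) • v = 0 := by
          rw [sub_smul, one_smul, h5, sub_self]
        exact sub_eq_zero.mp ((smul_eq_zero.mp h6).resolve_right hv)
      · rintro rfl
        exact ⟨Finset.mem_univ _, Same.refl _ _⟩
    rw [hfil, Finset.sum_singleton] at h1
    exact (smul_eq_zero.mp h1).resolve_right (ne_zero_rep ρ _)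
  have h1 := hli.fintype_card_le_finrank
  rw [Module.finrank_linearMap, ← sq] at h1
  rw [Subgroup.relIndex, Subgroup.index_eq_card, Nat.card_eq_fintype_card]
  exact h1

/-- density -/
theorem sq_le_card [IsAlgClosed E] {H : Type*} [Group H] [Finite H] (ρ : Representation E H V)
    (hirr : Irr ρ) {ι : Type*} [Fintype ι] (f : ι → Module.End E V)
    (hf : ∀ h, ρ h ∈ Submodule.span E (Set.range f)) : finrank E V ^ 2 ≤ Fintype.card ι := by
  have h1 : Submodule.span E (Set.range f) = ⊤ := by
    rw [eq_top_iff]
    intro T _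
    let τ : Unit → Representation E H V := fun _ => ρ
    have hirr' : ∀ i, (τ i).IsIrreducible := fun i => irr_isIrreducible hirr
    obtain ⟨a, ha⟩ := Blocks.ModularTraces.exists_density τ hirr'
      (fun i j hij => absurd (Subsingleton.elim i j) hij) (fun _ => T)
    have h1 : T = (τ ()).asAlgebraHom a := (ha ()).symm
    rw [h1, Representation.asAlgebraHom_def, MonoidAlgebra.lift_apply]
    exact Submodule.sum_mem _ fun g _ => Submodule.smul_mem _ _ (hf g)
  have h2 := finrank_range_le_card (R := E) f
  rw [Set.finrank, h1, finrank_top, Module.finrank_linearMap, ← sq] at h2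
  exact h2

/-- **The index of the radical is the square of the dimension.** -/
theorem relIndex_eq_sq [IsAlgClosed E] {H : Type*} [Group H] [Finite H]
    (ρ : Representation E H V) (hirr : Irr ρ) (N : Subgroup H)
    (c : H → H → E) (hc : ∀ x y, ∀ v, ρ ⁅x, y⁆ v = c x y • v)
    (hnd : ∀ x, (∀ y, c y x = 1) → x ∈ N) (hN : ∀ x ∈ N, ∀ y, c y x = 1) :
    N.index = finrank E V ^ 2 := by
  classical
  have hnt := hirr.1
  apply le_antisymm
  · have h1 := relIndex_le_sq ρ ⊤ N c (fun x _ y _ => hc x y) (fun x _ h => hnd x fun y => h y trivial)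
    rwa [Subgroup.relIndex_top_right] at h1
  · have : Fintype (H ⧸ N) := Fintype.ofFinite _
    have hscal : ∀ x ∈ N, ∃ a : E, ∀ v, ρ x v = a • v := by
      intro x hx
      refine hirr.scalar (ρ x) fun y v => ?_
      have h1 : y * x = ⁅y, x⁆ * (x * y) := by
        simp only [commutatorElement_def]
        group
      rw [← mul_apply' ρ y x, h1, mul_apply', hc, hN x hx y, one_smul, mul_apply']
    have h1 := sq_le_card ρ hirr (fun s : H ⧸ N => ρ (Quotient.out s)) (by
      intro h
      have h2 : (Quotient.out (QuotientGroup.mk h : H ⧸ N))⁻¹ * h ∈ N :=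
        QuotientGroup.eq.mp (Quotient.out_eq' _)
      obtain ⟨a, ha⟩ := hscal _ h2
      have h3 : ρ h = a • ρ (Quotient.out (QuotientGroup.mk h : H ⧸ N)) := by
        apply LinearMap.ext
        intro v
        rw [LinearMap.smul_apply, ← map_smul, ← ha, ← mul_apply']
        congr 2
        group
      rw [h3]
      exact Submodule.smul_mem _ _ (Submodule.subset_span ⟨_, rfl⟩))
    rw [Subgroup.index_eq_card, Nat.card_eq_fintype_card]
    exact h1

end Cfsg.Agent.H575.ExtraSq
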