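import Cfsg.Agent.H575.FTopFaith

/-!
# A group centralizing `R` above a group `Q = [Q, R]`
-/

set_option autoImplicit false
set_option linter.unusedSectionVars false
set_option linter.unusedVariables false

namespace Cfsg.Agent.H575.FTop

open Module Subgroup Cfsg.Agent.H575.Dim Cfsg.Agent.H575.Weights Cfsg.Agent.H575.Sect
  Cfsg.Agent.H575.Fix Cfsg.Agent.H575.Lev Cfsg.Agent.H575.ModM Cfsg.Agent.H575.Tower
  Cfsg.Agent.H575.Mult Cfsg.Agent.H575.HA Cfsg.Agent.H575.KL Cfsg.Agent.H575.ExtraIrr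
open scoped commutatorElement

/-- The group `Q = [Q, R] = [Q, T]` of class two with `T` centralizing `R`. -/
structure TD {G : Type*} [Group G] (Q Z T R : Subgroup G) (r s : ℕ) : Prop where
  hr : r.Prime
  hs : s.Prime
  hrs : r ≠ s
  hR : Nat.card R = r
  hQ : IsPGroup s Q
  hZQ : Z ≤ Q
  hQQ : ∀ x ∈ Q, ∀ y ∈ Q, ⁅x, y⁆ ∈ Z
  hQs : ∀ x ∈ Q, x ^ s ∈ Z
  hZ : ∀ z ∈ Z, ∀ x ∈ Q, z * x = x * z
  hRQ : R ≤ normalizer (Q : Set G)
  hRZ : R ≤ normalizer (Z : Set G)
  hcomm : ⁅Q, R⁆ = Q
  hTQ : T ≤ normalizer (Q : Set G)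
  hTR : ∀ t ∈ T, ∀ a ∈ R, t * a = a * t
  hTr : ¬ r ∣ Nat.card T
  hTs : ¬ s ∣ Nat.card T
  hZT : ∀ z ∈ Z, ∀ t ∈ T, z * t = t * z
  hQT : ⁅Q, T⁆ = Q

variable {E : Type*} [Field E] [IsAlgClosed E] {G V : Type*} [Group G] [Finite G]
  [AddCommGroup V] [Module E V] [FiniteDimensional E V] {Q Z T R : Subgroup G} {r s : ℕ}

theorem TD.isPGroup_R (h : TD Q Z T R r s) : IsPGroup r R := by
  have : Fact r.Prime := ⟨h.hr⟩
  exact IsPGroup.of_card (n := 1) (by rw [h.hR, pow_one])

/-- if `T` is trivial on `W` then so is `Q = [Q, T]` -/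
theorem le_fix_of_trivial (h : TD Q Z T R r s) {π : Representation E G V} {W : Submodule E V}
    (hQW : Pres π Q W) (hT : ∀ t ∈ T, ∀ w ∈ W, π t w = w) : W ≤ fix π Q := by
  let S : Subgroup G :=
    { carrier := {x | x ∈ Q ∧ ∀ w ∈ W, π x w = w}
      one_mem' := ⟨Q.one_mem, fun w _ => by rw [map_one]; rfl⟩
      mul_mem' := fun {a b} ha hb => ⟨Q.mul_mem ha.1 hb.1, fun w hw => by
        rw [mul_apply', hb.2 w hw, ha.2 w hw]⟩
      inv_mem' := fun {a} ha => ⟨Q.inv_mem ha.1, fun w hw => by
        have := inv_apply π a w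
        rwa [ha.2 w hw] at this⟩ }
  have h1 : ⁅Q, T⁆ ≤ S := by
    rw [commutator_le]
    intro x hx t ht
    refine ⟨by rw [← h.hQT]; exact commutator_mem_commutator hx ht, fun w hw => ?_⟩
    rw [commutatorElement_def, mul_apply', mul_apply', mul_apply', hT _ (T.inv_mem ht) w hw,
      hT t ht _ (hQW _ (Q.inv_mem hx) w hw), apply_inv]
  rw [h.hQT] at h1
  intro w hw x hx
  exact (h1 hx).2 w hw

/-- only the identity of `R` stabilises a weight which is not `R`-invariant -/
theorem eq_one_of_same (h : TD Q Z T R r s) {N : Subgroup G} (hRN : R ≤ normalizer (N : Set G))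
    {l : G → E} (hl : ¬ ∀ a ∈ R, Same N (cj a l) l) {a : R} (ha : Same N (cj (a : G) l) l) :
    a = 1 := by
  by_contra hr1
  apply hl
  have : Fact (Nat.card R).Prime := ⟨h.hR ▸ h.hr⟩
  have hgen : ∀ x : R, x ∈ Subgroup.zpowers a := fun x => mem_zpowers_of_prime_card rfl hr1
  intro s hs
  have h1 : (a : G) ∈ stab N l := ⟨hRN a.2, ha⟩
  obtain ⟨n, hn⟩ := hgen ⟨s, hs⟩
  have hn' : (a : G) ^ n = s := congrArg Subtype.val hn
  have h2 : s ∈ stab N l := by
    rw [← hn']
    exact Subgroup.zpow_mem _ h1 n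
  exact h2.2

theorem eq_zero_of_sum (h : TD Q Z T R r s) {π : Representation E G V} {W : Submodule E V}
    {N : Subgroup G} (hRW : Pres π R W) (hRN : R ≤ normalizer (N : Set G)) {l : G → E}
    (hl : ¬ ∀ a ∈ R, Same N (cj a l) l) [Fintype R] {u : V} (hu : u ∈ wt π N W l)
    (hsum : ∑ a : R, π (a : G) u = 0) : u = 0 := by
  classical
  have hsame := sum_same_eq_zero (π := π) (A := N) (W := W) Finset.univ (fun a : R => π a u)
    (fun a : R => cj (a : G) l)
    (fun a _ => apply_mem_wt (hRN a.2) (hRW a a.2) hu) hsum l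
  have hfil : (Finset.univ.filter fun a : R => Same N (cj (a : G) l) l) = {1} := by
    ext a
    rw [Finset.mem_filter, Finset.mem_singleton]
    constructor
    · rintro ⟨-, ha⟩
      exact eq_one_of_same h hRN hl ha
    · rintro rfl
      refine ⟨Finset.mem_univ _, ?_⟩
      rw [Subgroup.coe_one, cj_one]
      exact Same.refl N l
  rw [hfil, Finset.sum_singleton, Subgroup.coe_one, map_one, Module.End.one_apply] at hsame
  exact hsame

theorem sum_fixed {π : Representation E G V} [Fintype R] (v : V) :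
    ∀ b ∈ R, π b (∑ a : R, π (a : G) v) = ∑ a : R, π (a : G) v := by
  intro b hb
  rw [map_sum]
  refine Fintype.sum_bijective (fun y => ⟨b, hb⟩ * y) (Group.mulLeft_bijective _) _ _ fun y => ?_
  rw [← mul_apply']
  rfl

/-- all weights are invariant under `R` -/
theorem weight_inv (h : TD Q Z T R r s) {π : Representation E G V}
    (hT : ∀ v, (∀ a ∈ R, π a v = v) → ∀ t ∈ T, π t v = v) {W : Submodule E V} {N : Subgroup G}
    {l : G → E} (hRW : Pres π R W) (hTW : Pres π T W) (hQW : Pres π Q W)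
    (hNQ : N ≤ Q) (hRN : R ≤ normalizer (N : Set G)) (hTN : T ≤ normalizer (N : Set G))
    (hc : ∀ n ∈ N, ∀ x ∈ Q, ∀ w ∈ W, π n (π x w) = π x (π n w))
    (hQ0 : fix π Q = ⊥) (hl : wt π N W l ≠ ⊥) : ∀ a ∈ R, Same N (cj a l) l := by
  classical
  have : Fintype R := Fintype.ofFinite R
  by_contra hlR
  have hst : ∀ t ∈ T, t ∈ stab N l := by
    intro t ht
    obtain ⟨v, hv, hv0⟩ := Submodule.exists_mem_ne_zero_of_ne_bot hl
    let vv : R ⊕ R → V := Sum.elim (fun a => π (t * a) v) (fun a => -π (a : G) v)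
    let ll : R ⊕ R → G → E := Sum.elim (fun a => cj (t * a) l) (fun a => cj (a : G) l)
    have hvv : ∀ i ∈ (Finset.univ : Finset (R ⊕ R)), vv i ∈ wt π N W (ll i) := by
      rintro (a | a) _
      · refine apply_mem_wt (Subgroup.mul_mem _ (hTN ht) (hRN a.2)) (fun w hw => ?_) hv
        rw [mul_apply']
        exact hTW t ht _ (hRW a a.2 w hw)
      · exact (wt π N W _).neg_mem (apply_mem_wt (hRN a.2) (hRW a a.2) hv)
    have hsum : ∑ i : R ⊕ R, vv i = 0 := by
      rw [Fintype.sum_sum_type]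
      show ∑ a : R, π (t * a) v + ∑ a : R, -π (a : G) v = 0
      have h1 : ∑ a : R, π (t * a) v = π t (∑ a : R, π (a : G) v) := by
        rw [map_sum]
        exact Finset.sum_congr rfl fun a _ => mul_apply' π t a v
      rw [h1, hT _ (sum_fixed v) t ht, Finset.sum_neg_distrib, add_neg_cancel]
    have hsame := sum_same_eq_zero (π := π) (A := N) (W := W) Finset.univ vv ll hvv hsum l
    have hex : ∃ a : R, Same N (cj (t * a) l) l := by
      by_contra hno
      push Not at hno
      have hfil : (Finset.univ.filter fun i : R ⊕ R => Same N (ll i) l) = {Sum.inr 1} := by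
        ext i
        rw [Finset.mem_filter, Finset.mem_singleton]
        constructor
        · rintro ⟨-, ha⟩
          rcases i with a | a
          · exact absurd ha (hno a)
          · rw [eq_one_of_same h hRN hlR ha]
        · rintro rfl
          refine ⟨Finset.mem_univ _, ?_⟩
          show Same N (cj ((1 : R) : G) l) l
          rw [Subgroup.coe_one, cj_one]
          exact Same.refl N l
      rw [hfil, Finset.sum_singleton] at hsame
      have h2 : -π ((1 : R) : G) v = 0 := hsame
      rw [Subgroup.coe_one, map_one, Module.End.one_apply, neg_eq_zero] at h2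
      exact hv0 h2
    obtain ⟨a, ha⟩ := hex
    have hta : t * (a : G) ∈ stab N l := ⟨Subgroup.mul_mem _ (hTN ht) (hRN a.2), ha⟩
    have hcom : Commute t (a : G) := h.hTR t ht a a.2
    have hpow : (a : G) ^ Nat.card T ∈ stab N l := by
      have h3 := Subgroup.pow_mem _ hta (Nat.card T)
      rw [hcom.mul_pow] at h3
      have h4 : t ^ Nat.card T = 1 := by
        have : (⟨t, ht⟩ : T) ^ Nat.card T = 1 := pow_card_eq_one'
        exact congrArg Subtype.val this
      rwa [h4, one_mul] at h3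
    have ha1 : a = 1 := by
      have hcop : (Nat.card T).Coprime (Nat.card R) := by
        rw [h.hR]
        exact ((Nat.Prime.coprime_iff_not_dvd h.hr).mpr h.hTr).symm
      have h5 : (Nat.card T).Coprime (orderOf a) :=
        hcop.coprime_dvd_right (orderOf_dvd_natCard a)
      obtain ⟨k, hk⟩ := exists_pow_eq_self_of_coprime h5
      have h6 : (a : G) ∈ stab N l := by
        have h7 := Subgroup.pow_mem _ hpow k
        have h8 : ((a : G) ^ Nat.card T) ^ k = a := congrArg Subtype.val hk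
        rwa [h8] at h7
      exact eq_one_of_same h hRN hlR h6.2
    rw [ha1, Subgroup.coe_one, mul_one] at hta
    exact hta
  -- `T` is trivial on the weight space
  have htriv : ∀ t ∈ T, ∀ w ∈ wt π N W l, π t w = w := by
    intro t ht w hw
    have h1 : π t w ∈ wt π N W l := by
      have h2 := apply_mem_wt (hTN ht) (hTW t ht) hw
      rwa [wt_congr π W (hst t ht).2] at h2
    have h2 : π t w - w = 0 := by
      refine eq_zero_of_sum h hRW hRN hlR ((wt π N W l).sub_mem h1 hw) ?_
      simp only [map_sub, Finset.sum_sub_distrib]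
      have h3 : ∑ a : R, π (a : G) (π t w) = π t (∑ a : R, π (a : G) w) := by
        rw [map_sum]
        refine Finset.sum_congr rfl fun a _ => ?_
        rw [← mul_apply', ← mul_apply', h.hTR t ht a a.2]
      rw [h3, hT _ (sum_fixed w) t ht, sub_self]
    exact sub_eq_zero.mp h2
  have hle : wt π N W l ≤ fix π Q := by
    refine le_fix_of_trivial h (fun x hx w hw => ?_) htriv
    exact apply_mem_wt_of_comm (hQW x hx) (fun n hn v hv => hc n hn x hx v hv) hw
  rw [hQ0, le_bot_iff] at hle
  exact hl hle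

end Cfsg.Agent.H575.FTop
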