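import Cfsg.Agent.H575.FTopIrr
import Cfsg.Agent.H555.F3.Main

/-!
# Faithful representations of an extraspecial group with operators
-/

set_option autoImplicit false
set_option linter.unusedSectionVars false
set_option linter.unusedVariables false

namespace Cfsg.Agent.H575.FTop

open Module Subgroup Cfsg.Agent.H575.Dim Cfsg.Agent.H575.Weights Cfsg.Agent.H575.Sect
  Cfsg.Agent.H575.Fix Cfsg.Agent.H575.Lev Cfsg.Agent.H575.ModM Cfsg.Agent.H575.Tower
  Cfsg.Agent.H575.Mult Cfsg.Agent.H575.HA Cfsg.Agent.H575.KL Cfsg.Agent.H575.ExtraIrr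
open scoped commutatorElement

variable {E : Type*} [Field E] [IsAlgClosed E] {H V : Type*} [Group H] [Finite H]
  [AddCommGroup V] [Module E V] [FiniteDimensional E V] {F R : Subgroup H} {r s : ℕ}

theorem mem_center_subgroupOf {K : Subgroup H} (hF : F ≤ K) {z : F.subgroupOf K}
    (hz : z ∈ center (F.subgroupOf K)) : (⟨((z : K) : H), z.2⟩ : F) ∈ center F := by
  rw [Subgroup.mem_center_iff] at hz ⊢
  intro g
  have h1 := hz ⟨⟨(g : H), hF g.2⟩, g.2⟩
  apply Subtype.ext
  exact congrArg (fun x : F.subgroupOf K => ((x : K) : H)) h1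

theorem no_fixed {π : Representation E H V} (h : ED F R r s)
    (hscal : ∀ z : F, z ∈ center F → ∃ c : E, ∀ v, π z v = c • v)
    (hfaith : ∀ z : F, z ∈ center F → π z = 1 → z = 1) {v : V} (hv : ∀ f ∈ F, π f v = v) :
    v = 0 := by
  by_contra hv0
  have hnt : Nontrivial (center F) := by
    rw [← Finite.one_lt_card_iff_nontrivial, h.hZ]
    exact h.hs.one_lt
  obtain ⟨z, hz⟩ := exists_ne (1 : center F)
  obtain ⟨c, hc⟩ := hscal z z.2
  have h1 : c = 1 := by
    have h2 := hc v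
    rw [hv _ (z : F).2] at h2
    have h3 : (1 - c) • v = 0 := by rw [sub_smul, one_smul, ← h2, sub_self]
    exact (sub_eq_zero.mp ((smul_eq_zero.mp h3).resolve_right hv0)).symm
  apply hz
  apply Subtype.ext
  refine hfaith z z.2 ?_
  ext w
  rw [hc, h1, one_smul, Module.End.one_apply]

theorem scal_sub {π : Representation E H V} {K : Subgroup H} (hF : F ≤ K)
    (hscal : ∀ z : F, z ∈ center F → ∃ c : E, ∀ v, π z v = c • v) :
    ∀ z : F.subgroupOf K, z ∈ center (F.subgroupOf K) →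
      ∃ c : E, ∀ v, π ((z : K) : H) v = c • v := by
  intro z hz
  exact hscal _ (mem_center_subgroupOf hF hz)

theorem faith_sub {π : Representation E H V} {K : Subgroup H} (hF : F ≤ K)
    (hscal : ∀ z : F, z ∈ center F → ∃ c : E, ∀ v, π z v = c • v)
    (hfaith : ∀ z : F, z ∈ center F → π z = 1 → z = 1) {v : V} (hv0 : v ≠ 0) :
    ∀ z : F.subgroupOf K, z ∈ center (F.subgroupOf K) → π ((z : K) : H) v = v → z = 1 := by
  intro z hz h1
  obtain ⟨c, hc⟩ := hscal _ (mem_center_subgroupOf hF hz)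
  have hc1 : c = 1 := by
    have h2 := hc v
    rw [h1] at h2
    have h3 : (1 - c) • v = 0 := by rw [sub_smul, one_smul, ← h2, sub_self]
    exact (sub_eq_zero.mp ((smul_eq_zero.mp h3).resolve_right hv0)).symm
  have h3 := hfaith _ (mem_center_subgroupOf hF hz) (by
    ext w
    rw [hc, hc1, one_smul, Module.End.one_apply])
  apply Subtype.ext
  apply Subtype.ext
  exact congrArg (fun x : F => (x : H)) h3

theorem card_quot_eq (h : ED F R r s) {K : Subgroup H} (hF : F ≤ K)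
    (h' : ED (F.subgroupOf K) (R.subgroupOf K) r s) :
    Nat.card (F ⧸ center F) = Nat.card (F.subgroupOf K ⧸ center (F.subgroupOf K)) := by
  have h1 := (center F).card_mul_index
  have h2 := (center (F.subgroupOf K)).card_mul_index
  rw [h.hZ] at h1
  rw [h'.hZ, Nat.card_congr (Subgroup.subgroupOfEquivOfLe hF).toEquiv, ← h1] at h2
  exact (Nat.eq_of_mul_eq_mul_left h.hs.pos h2).symm

theorem f2f {π : Representation E H V} [Nontrivial V] (h : ED F R r s)
    (hscal : ∀ z : F, z ∈ center F → ∃ c : E, ∀ v, π z v = c • v)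
    (hfaith : ∀ z : F, z ∈ center F → π z = 1 → z = 1) (hrE : (r : E) ≠ 0) (hsE : (s : E) ≠ 0)
    (hfix : fix π R = ⊥) : s = 2 ∧ Nat.card (F ⧸ center F) = (r - 1) ^ 2 := by
  have hcop := ed_cop h
  obtain ⟨hidx, hcR, hFn, hFR⟩ := index_subgroupOf_sup h.hRF hcop
  set K : Subgroup H := F ⊔ R with hK
  have hED : ED (F.subgroupOf K) (R.subgroupOf K) r s :=
    ExtraFix.ed_subgroupOf h le_sup_left le_sup_right
  have hKE := ed_card (E := E) hED hFR hrE hsE
  obtain ⟨U, hU, hirr⟩ := ExtraFix.exists_irr (π.comp K.subtype)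
  have hnofix : ∀ u : U, (∀ a ∈ R.subgroupOf K,
      sub (π.comp K.subtype) (MonoidHom.id K) U hU a u = u) → u = 0 := by
    intro u hu
    apply Subtype.ext
    have h1 : (u : V) ∈ fix π R := fun a ha =>
      congrArg Subtype.val (hu ⟨a, le_sup_right (a := F) ha⟩ ha)
    rw [hfix, Submodule.mem_bot] at h1
    exact h1
  have hFirr : Irr ((sub (π.comp K.subtype) (MonoidHom.id K) U hU).comp
      (F.subgroupOf K).subtype) := by
    by_contra hred
    obtain ⟨v, hv, hf⟩ := ExtraMod.exists_fixed_of_not_irr hKE _ hirr (F.subgroupOf K)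
      (R.subgroupOf K) (by rw [hidx, h.hR]; exact h.hr) (by rw [hidx, hcR]) hFR hred
    exact hv (hnofix v hf)
  have hRD : RD (sub (π.comp K.subtype) (MonoidHom.id K) U hU) (F.subgroupOf K)
      (R.subgroupOf K) r s :=
    { toED := hED
      hrE := hrE
      hsE := hsE
      hirr := hFirr
      hCV := fun v hv => Subtype.ext (no_fixed h hscal hfaith fun f hf =>
        congrArg Subtype.val (hv ⟨f, le_sup_left (a := F) hf⟩ hf)) }
  obtain ⟨hs2, m, hm, hdim⟩ := rd_exceptional hRD (by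
    rw [eq_bot_iff]
    intro u hu
    rw [Submodule.mem_bot]
    exact hnofix u hu)
  refine ⟨hs2, ?_⟩
  rw [card_quot_eq h le_sup_left hED, hRD.card_eq, hdim, hm, Nat.add_sub_cancel]

theorem pres_of_simple {π : Representation E H V} {K T : Subgroup H}
    (hTK : T ≤ normalizer (K : Set H)) {W : Submodule E V} (hW : Pres π K W)
    (hs : ∀ U : Submodule E V, Pres π K U → U ≤ W → U = ⊥ ∨ U = W) {w : V} (hw : w ∈ W)
    (hw0 : w ≠ 0) (hT : ∀ t ∈ T, π t w = w) : Pres π T W := by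
  intro t ht x hx
  have h1 : Pres π K (W ⊓ W.map (π t⁻¹)) := by
    rintro g hg _ ⟨hy, y, hyW, rfl⟩
    refine ⟨hW g hg _ hy, ?_⟩
    refine ⟨π (t * g * t⁻¹) y, hW _ (Sect.conj_mem hTK ht hg) y hyW, ?_⟩
    rw [← mul_apply', ← mul_apply']
    congr 2
    group
  rcases hs _ h1 inf_le_left with h2 | h2
  · exfalso
    have h3 : w ∈ W ⊓ W.map (π t⁻¹) := ⟨hw, w, hw, hT _ (T.inv_mem ht)⟩
    rw [h2, Submodule.mem_bot] at h3
    exact hw0 h3
  · have h3 : x ∈ W ⊓ W.map (π t⁻¹) := by rw [h2]; exact hx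
    obtain ⟨-, y, hyW, rfl⟩ := h3
    rw [apply_inv]
    exact hyW

theorem f3f {π : Representation E H V} (h : ED F R r s)
    (hscal : ∀ z : F, z ∈ center F → ∃ c : E, ∀ v, π z v = c • v)
    (hfaith : ∀ z : F, z ∈ center F → π z = 1 → z = 1) (hrE : (r : E) ≠ 0) (hsE : (s : E) ≠ 0)
    (T : Subgroup H)
    (hTF : T ≤ normalizer (F : Set H)) (hTR : ∀ t ∈ T, ∀ a ∈ R, t * a = a * t)
    (hTr : ¬ r ∣ Nat.card T) (hTs : ¬ s ∣ Nat.card T)
    (hTZ : ∀ t ∈ T, ∀ z ∈ (center F).map F.subtype, t * z = z * t)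
    (hfix : fix π R ≠ ⊥) (hT : ∀ t ∈ T, ∀ v ∈ fix π R, π t v = v) :
    ∀ t ∈ T, (∀ f ∈ F, ⁅t, f⁆ ∈ (center F).map F.subtype) ∨
      (∀ f ∈ F, t * f * t⁻¹ * f ∈ (center F).map F.subtype) := by
  have hcop := ed_cop h
  obtain ⟨hidx, hcR, hFn, hFR⟩ := index_subgroupOf_sup h.hRF hcop
  set K : Subgroup H := F ⊔ R with hK
  have hED : ED (F.subgroupOf K) (R.subgroupOf K) r s :=
    ExtraFix.ed_subgroupOf h le_sup_left le_sup_right
  have hKE : (Nat.card K : E) ≠ 0 := ed_card (E := E) hED hFR hrE hsE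
  obtain ⟨W, hW, ⟨w, hw, hw0, hwR⟩, hs⟩ :=
    exists_irr_fixed (K := K) (R := R) (σ := π) hKE le_sup_right hfix
  have hirrK := irr_of_simple hW ⟨w, hw, hw0⟩ hs
  have hirrF := irr_of_top hirrK hFR hED
    (fun z hz => by
      obtain ⟨c, hc⟩ := scal_sub le_sup_left hscal z hz
      exact ⟨c, fun v => Subtype.ext (hc v)⟩)
    (fun z hz h1 => faith_sub le_sup_left hscal hfaith hw0 z hz
      (congrArg Subtype.val (LinearMap.congr_fun h1 ⟨w, hw⟩))) hrE hsE
  have hTK : T ≤ normalizer (K : Set H) := by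
    refine le_normalizer_sup' hTF (le_norm fun t ht a ha => ?_)
    rw [hTR t ht a ha, mul_inv_cancel_right]
    exact ha
  have hTW : Pres π T W := pres_of_simple hTK hW hs hw hw0 fun t ht => hT t ht w hwR
  have hLW : Pres π (K ⊔ T) W := hW.sup hTW hTK
  have hFL : F ≤ K ⊔ T := le_sup_left.trans le_sup_left
  have hRL : R ≤ K ⊔ T := le_sup_right.trans le_sup_left
  have hTL : T ≤ K ⊔ T := le_sup_right
  have hRD : RD (sub π (K ⊔ T).subtype W (fun g w hw => hLW g g.2 w hw))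
      (F.subgroupOf (K ⊔ T)) (R.subgroupOf (K ⊔ T)) r s :=
    { toED := ExtraFix.ed_subgroupOf h hFL hRL
      hrE := hrE
      hsE := hsE
      hirr := ⟨hirrF.1, fun U hU => hirrF.2 U fun g u hu =>
        hU ⟨⟨((g : K) : H), hFL g.2⟩, g.2⟩ u hu⟩
      hCV := fun v hv => Subtype.ext (no_fixed h hscal hfaith fun f hf =>
        congrArg Subtype.val (hv ⟨f, hFL hf⟩ hf)) }
  have hcT : Nat.card (T.subgroupOf (K ⊔ T)) = Nat.card T :=
    Nat.card_congr (Subgroup.subgroupOfEquivOfLe hTL).toEquiv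
  have hmapc : ∀ x : ↥(K ⊔ T), x ∈ (center (F.subgroupOf (K ⊔ T))).map
      (F.subgroupOf (K ⊔ T)).subtype → (x : H) ∈ (center F).map F.subtype := by
    rintro _ ⟨z, hz, rfl⟩
    exact ⟨_, mem_center_subgroupOf hFL hz, rfl⟩
  have hmain := H555.F3.Main.f3_core hRD (T.subgroupOf (K ⊔ T))
    (subgroupOf_le_normalizer' hTF)
    (fun t ht a ha => Subtype.ext (hTR t ht a ha)) (by rw [hcT]; exact hTr)
    (by rw [hcT]; exact hTs) (fun t ht z hz => Subtype.ext (hTZ t ht z (hmapc z hz)))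
    (by
      intro hbot
      have h1 : (⟨w, hw⟩ : W) ∈ fix (sub π (K ⊔ T).subtype W (fun g w hw => hLW g g.2 w hw))
          (R.subgroupOf (K ⊔ T)) := fun a ha => Subtype.ext (hwR a ha)
      rw [hbot, Submodule.mem_bot] at h1
      exact hw0 (congrArg Subtype.val h1))
    (by
      intro t ht v hv
      refine Subtype.ext (hT t ht v fun a ha => ?_)
      exact congrArg Subtype.val (hv ⟨a, hRL ha⟩ ha))
  intro t ht
  rcases hmain ⟨t, hTL ht⟩ ht with h1 | h1
  · left
    intro f hf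
    exact hmapc _ (h1 ⟨f, hFL hf⟩ hf)
  · right
    intro f hf
    exact hmapc _ (h1 ⟨f, hFL hf⟩ hf)

end Cfsg.Agent.H575.FTop
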