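import Cfsg.Agent.H575.KL

/-!
# Counting irreducible representations above an extraspecial group
-/

set_option autoImplicit false
set_option linter.unusedSectionVars false
set_option linter.unusedVariables false

namespace Cfsg.Agent.H575.FTop

open Module Subgroup Cfsg.Agent.H575.Dim Cfsg.Agent.H575.Weights Cfsg.Agent.H575.Sect
  Cfsg.Agent.H575.Fix Cfsg.Agent.H575.Lev Cfsg.Agent.H575.ModM Cfsg.Agent.H575.Tower
  Cfsg.Agent.H575.Mult Cfsg.Agent.H575.HA Cfsg.Agent.H575.KL Cfsg.Agent.H575.ExtraIrr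
open scoped commutatorElement

variable {E : Type*} [Field E] [IsAlgClosed E] {H V : Type*} [Group H] [Finite H]
  [AddCommGroup V] [Module E V] [FiniteDimensional E V] {F R : Subgroup H} {r s : ℕ}

theorem ed_cop (h : ED F R r s) : (Nat.card R).Coprime (Nat.card F) := by
  have hs : Fact s.Prime := ⟨h.hs⟩
  obtain ⟨k, hk⟩ := h.hF.exists_card_eq
  rw [h.hR, hk]
  exact Nat.Coprime.pow_right _ ((Nat.coprime_primes h.hr h.hs).mpr h.hrs)

theorem ed_index (h : ED F R r s) [F.Normal] (hFR : F ⊔ R = ⊤) : F.index = r := by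
  have hcomp : Subgroup.IsComplement' F R := by
    refine Subgroup.isComplement'_of_disjoint_and_mul_eq_univ
      (Subgroup.disjoint_of_coprime_natCard (ed_cop h).symm) ?_
    rw [← Subgroup.normal_mul, hFR, Subgroup.coe_top]
  rw [hcomp.symm.index_eq_card, h.hR]

theorem ed_card (h : ED F R r s) [F.Normal] (hFR : F ⊔ R = ⊤) (hrE : (r : E) ≠ 0)
    (hsE : (s : E) ≠ 0) : (Nat.card H : E) ≠ 0 := by
  have hs : Fact s.Prime := ⟨h.hs⟩
  rw [← F.card_mul_index, ed_index h hFR, Nat.cast_mul]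
  obtain ⟨k, hk⟩ := h.hF.exists_card_eq
  rw [hk, Nat.cast_pow]
  exact mul_ne_zero (pow_ne_zero _ hsE) hrE

theorem irr_of_top {σ : Representation E H V} (hσ : Irr σ) [F.Normal] (hFR : F ⊔ R = ⊤)
    (h : ED F R r s) (hscal : ∀ z : F, z ∈ center F → ∃ c : E, ∀ v, σ z v = c • v)
    (hfaith : ∀ z : F, z ∈ center F → σ z = 1 → z = 1) (hrE : (r : E) ≠ 0) (hsE : (s : E) ≠ 0) :
    Irr (σ.comp F.subtype) := by
  classical
  have hidx := ed_index h hFR
  rcases step (ed_card h hFR hrE hsE) σ hσ F (by rw [hidx]; exact h.hr) with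
    h1 | ⟨W, hW, hWirr, hdim⟩
  · exact h1
  exfalso
  rw [hidx] at hdim
  have := hWirr.1
  have : Fintype (F ⧸ center F) := Fintype.ofFinite _
  have : Fintype R := Fintype.ofFinite _
  -- upper bound for the dimension
  have ha : finrank E V ^ 2 ≤ Fintype.card ((F ⧸ center F) × R) := by
    refine ExtraSq.sq_le_card σ hσ (fun i => σ (sig F i.1 : H) * σ (i.2 : H)) fun g => ?_
    have hg : g ∈ F ⊔ R := by rw [hFR]; exact Subgroup.mem_top g
    rw [Subgroup.mem_sup_of_normal_left] at hg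
    obtain ⟨f, hf, a, ha, rfl⟩ := hg
    have hz : (sig F (QuotientGroup.mk (⟨f, hf⟩ : F)))⁻¹ * (⟨f, hf⟩ : F) ∈ center F := by
      rw [← QuotientGroup.eq]
      exact mk_sig _
    obtain ⟨c, hc⟩ := hscal _ hz
    have h2 : σ (f * a) = c • (σ (sig F (QuotientGroup.mk (⟨f, hf⟩ : F)) : H) * σ a) := by
      have h3 : f = (sig F (QuotientGroup.mk (⟨f, hf⟩ : F)) : H) *
          (((sig F (QuotientGroup.mk (⟨f, hf⟩ : F)))⁻¹ * (⟨f, hf⟩ : F) : F) : H) := by
        rw [Subgroup.coe_mul, Subgroup.coe_inv, mul_inv_cancel_left]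
      ext v
      rw [LinearMap.smul_apply, Module.End.mul_apply, mul_apply']
      conv_lhs => rw [h3]
      rw [mul_apply', hc, map_smul]
    rw [h2]
    exact Submodule.smul_mem _ _ (Submodule.subset_span ⟨(QuotientGroup.mk (⟨f, hf⟩ : F),
      ⟨a, ha⟩), rfl⟩)
  have hb : (center F).index ≤ finrank E W ^ 2 := by
    have hc : ∀ x y : F, ∃ c : E, ∀ v, σ ((⁅x, y⁆ : F) : H) v = c • v := fun x y =>
      hscal _ (h.hab x y)
    choose c hc using hc
    have h1 := ExtraSq.relIndex_le_sq (sub σ F.subtype W hW) (⊤ : Subgroup F) (center F) c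
      (fun x _ y _ v => Subtype.ext (hc x y v)) (by
        intro x _ hx
        rw [Subgroup.mem_center_iff]
        intro y
        rw [← commutatorElement_eq_one_iff_mul_comm]
        refine hfaith _ (h.hab y x) ?_
        ext v
        rw [hc, hx y (Subgroup.mem_top y), one_smul, Module.End.one_apply])
    rwa [Subgroup.relIndex_top_right] at h1
  rw [Fintype.card_prod, ← Nat.card_eq_fintype_card, ← Nat.card_eq_fintype_card, h.hR, hdim] at ha
  have hpos : 0 < finrank E W := Module.finrank_pos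
  have h2 : 2 ≤ r := h.hr.two_le
  have h3 : (r * finrank E W) ^ 2 ≤ finrank E W ^ 2 * r :=
    ha.trans (Nat.mul_le_mul_right _ hb)
  have h4 : 0 < finrank E W ^ 2 := by positivity
  nlinarith [Nat.mul_le_mul_left (finrank E W ^ 2 * r) h2]

/-- a submodule on which the group is irreducible, containing a fixed vector of `R` -/
theorem exists_irr_fixed {K : Subgroup H} {σ : Representation E H V} (hK : (Nat.card K : E) ≠ 0)
    (hRK : R ≤ K) (hfix : fix σ R ≠ ⊥) :
    ∃ W : Submodule E V, Pres σ K W ∧ (∃ w ∈ W, w ≠ 0 ∧ w ∈ fix σ R) ∧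
      (∀ U : Submodule E V, Pres σ K U → U ≤ W → U = ⊥ ∨ U = W) := by
  let S : Set (Submodule E V) := {W | Pres σ K W ∧ ∃ w ∈ W, w ≠ 0 ∧ w ∈ fix σ R}
  have hS : S.Nonempty := by
    obtain ⟨w, hw, hw0⟩ := Submodule.exists_mem_ne_zero_of_ne_bot hfix
    exact ⟨⊤, fun _ _ _ _ => Submodule.mem_top, w, Submodule.mem_top, hw0, hw⟩
  obtain ⟨W, ⟨hW, hw⟩, hmin⟩ :=
    WellFounded.has_min (wellFounded_lt : WellFounded ((· < ·) : Submodule E V → _ → Prop)) S hS
  refine ⟨W, hW, hw, ?_⟩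
  intro U hU hUW
  by_cases hU0 : ∃ u ∈ U, u ≠ 0 ∧ u ∈ fix σ R
  · right
    by_contra hne
    exact hmin U ⟨hU, hU0⟩ (lt_of_le_of_ne hUW hne)
  · left
    push Not at hU0
    obtain ⟨T, hT, hTU, hTm⟩ := exists_proj (σ.comp K.subtype) hK U
      (fun g w hw => hU g g.2 w hw)
    have hker : W ⊓ LinearMap.ker T = W := by
      by_contra hne
      refine hmin (W ⊓ LinearMap.ker T) ⟨?_, ?_⟩ (lt_of_le_of_ne inf_le_left hne)
      · intro g hg w hw
        refine ⟨hW g hg w hw.1, ?_⟩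
        have h1 := hT ⟨g, hg⟩ w
        rw [LinearMap.mem_ker.mp hw.2, map_zero] at h1
        exact h1
      · obtain ⟨w, hwW, hw0, hwf⟩ := hw
        refine ⟨w, ⟨hwW, ?_⟩, hw0, hwf⟩
        rw [SetLike.mem_coe, LinearMap.mem_ker]
        by_contra hne0
        refine hU0 (T w) (hTm w) hne0 fun a ha => ?_
        have h1 := hT ⟨a, hRK ha⟩ w
        have h2 : (σ.comp K.subtype) ⟨a, hRK ha⟩ w = w := hwf a ha
        rw [h2] at h1
        exact h1.symm
    rw [eq_bot_iff]
    intro u hu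
    rw [Submodule.mem_bot, ← hTU u hu]
    have h1 : u ∈ W ⊓ LinearMap.ker T := by rw [hker]; exact hUW hu
    exact LinearMap.mem_ker.mp h1.2

theorem irr_of_simple {K : Subgroup H} {σ : Representation E H V} {W : Submodule E V}
    (hW : Pres σ K W) (hne : ∃ w ∈ W, w ≠ 0)
    (hs : ∀ U : Submodule E V, Pres σ K U → U ≤ W → U = ⊥ ∨ U = W) :
    Irr (sub σ K.subtype W (fun g w hw => hW g g.2 w hw)) := by
  obtain ⟨w, hw, hw0⟩ := hne
  refine ⟨⟨⟨w, hw⟩, 0, fun h => hw0 (congrArg Subtype.val h)⟩, fun U hU => ?_⟩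
  have h1 := hs (U.map W.subtype) (by
    rintro g hg _ ⟨u, hu, rfl⟩
    exact ⟨_, hU ⟨g, hg⟩ u hu, rfl⟩) (Submodule.map_subtype_le W U)
  rcases h1 with h1 | h1
  · left
    rw [eq_bot_iff]
    intro u hu
    have h2 : (u : V) ∈ U.map W.subtype := ⟨u, hu, rfl⟩
    rw [h1, Submodule.mem_bot] at h2
    exact Subtype.ext h2
  · right
    rw [eq_top_iff]
    rintro ⟨x, hx⟩ _
    rw [← h1] at hx
    obtain ⟨u, hu, hux⟩ := hx
    have : u = ⟨x, by rw [← h1]; exact ⟨u, hu, hux⟩⟩ := Subtype.ext hux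
    rw [← this]
    exact hu

end Cfsg.Agent.H575.FTop
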