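import Cfsg.Agent.H575.FTopScal

/-!
# `T` trivial on the vectors fixed by `R`
-/

set_option autoImplicit false
set_option linter.unusedSectionVars false
set_option linter.unusedVariables false

namespace Cfsg.Agent.H575.FTop

open Module Subgroup Cfsg.Agent.H575.Dim Cfsg.Agent.H575.Weights Cfsg.Agent.H575.Sect
  Cfsg.Agent.H575.Fix Cfsg.Agent.H575.Lev Cfsg.Agent.H575.ModM Cfsg.Agent.H575.Tower
  Cfsg.Agent.H575.Mult Cfsg.Agent.H575.HA Cfsg.Agent.H575.KL Cfsg.Agent.H575.ExtraIrr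
open scoped commutatorElement

variable {E : Type*} [Field E] [IsAlgClosed E] {G V : Type*} [Group G] [Finite G]
  [AddCommGroup V] [Module E V] [FiniteDimensional E V] {Q Z T R : Subgroup G} {r s : ℕ}

theorem TD_subgroupOf (h : TD Q Z T R r s) {H : Subgroup G} (hQH : Q ≤ H) (hTH : T ≤ H)
    (hRH : R ≤ H) :
    TD (Q.subgroupOf H) (Z.subgroupOf H) (T.subgroupOf H) (R.subgroupOf H) r s where
  hr := h.hr
  hs := h.hs
  hrs := h.hrs
  hR := by rw [Nat.card_congr (Subgroup.subgroupOfEquivOfLe hRH).toEquiv, h.hR]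
  hQ := h.hQ.comap_of_injective _ H.subtype_injective
  hZQ := fun x hx => h.hZQ hx
  hQQ := fun x hx y hy => h.hQQ _ hx _ hy
  hQs := fun x hx => h.hQs _ hx
  hZ := fun z hz x hx => Subtype.ext (h.hZ _ hz _ hx)
  hRQ := subgroupOf_le_normalizer' h.hRQ
  hRZ := subgroupOf_le_normalizer' h.hRZ
  hcomm := by rw [commutator_subgroupOf hQH hRH, h.hcomm]
  hTQ := subgroupOf_le_normalizer' h.hTQ
  hTR := fun t ht a ha => Subtype.ext (h.hTR _ ht _ ha)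
  hTr := by rw [Nat.card_congr (Subgroup.subgroupOfEquivOfLe hTH).toEquiv]; exact h.hTr
  hTs := by rw [Nat.card_congr (Subgroup.subgroupOfEquivOfLe hTH).toEquiv]; exact h.hTs
  hZT := fun z hz t ht => Subtype.ext (h.hZT _ hz _ ht)
  hQT := by rw [commutator_subgroupOf hQH hTH, h.hQT]

theorem TD.hTZ (h : TD Q Z T R r s) : T ≤ normalizer (Z : Set G) := by
  refine le_norm fun t ht z hz => ?_
  rw [← h.hZT z hz t ht, mul_inv_cancel_right]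
  exact hz

theorem TD.cop (h : TD Q Z T R r s) : (Nat.card R).Coprime (Nat.card Q) := by
  have hs : Fact s.Prime := ⟨h.hs⟩
  obtain ⟨k, hk⟩ := h.hQ.exists_card_eq
  rw [h.hR, hk]
  exact Nat.Coprime.pow_right _ ((Nat.coprime_primes h.hr h.hs).mpr h.hrs)

/-- the fixed points of `R` in `Q` -/
theorem TD.cent_le (h : TD Q Z T R r s) : Q ⊓ centralizer (R : Set G) ≤ Z := by
  refine cent_le_gen h.cop ?_ h.hRQ h.hcomm
  rw [commutator_le]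
  exact h.hQQ

theorem td_inv (h : TD Q Z T R r s) {π : Representation E G V}
    (hT : ∀ v, (∀ a ∈ R, π a v = v) → ∀ t ∈ T, π t v = v) (hQ0 : fix π Q = ⊥)
    {μ : G → E} (hμ : wt π Z ⊤ μ ≠ ⊥) : ∀ a ∈ R, Same Z (cj a μ) μ :=
  weight_inv h hT (fun _ _ _ _ => Submodule.mem_top) (fun _ _ _ _ => Submodule.mem_top)
    (fun _ _ _ _ => Submodule.mem_top) h.hZQ h.hRZ h.hTZ
    (fun n hn x hx w _ => by rw [← mul_apply', ← mul_apply', h.hZ n hn x hx]) hQ0 hμ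

theorem td_inv' (h : TD Q Z T R r s) {π : Representation E G V}
    (hT : ∀ v, (∀ a ∈ R, π a v = v) → ∀ t ∈ T, π t v = v) (hQ0 : fix π Q = ⊥)
    {μ : G → E} (hμ : wt π Z ⊤ μ ≠ ⊥) : ∀ g ∈ R, ∀ z ∈ Z, μ (g * z * g⁻¹) = μ z := by
  intro g hg z hz
  have h1 := td_inv h hT hQ0 hμ g⁻¹ (R.inv_mem hg) z hz
  have h2 : cj g⁻¹ μ z = μ (g⁻¹⁻¹ * z * g⁻¹) := rfl
  rw [h2, inv_inv] at h1
  exact h1

theorem td_comm (h : TD Q Z T R r s) {π : Representation E G V} (hsE : (s : E) ≠ 0)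
    (hT : ∀ v, (∀ a ∈ R, π a v = v) → ∀ t ∈ T, π t v = v) (hQ0 : fix π Q = ⊥)
    {μ : G → E} (hμ : wt π Z ⊤ μ ≠ ⊥) : ∀ x ∈ Q, (∀ y ∈ Q, μ ⁅x, y⁆ = 1) → ∀ a ∈ R,
      ∀ w ∈ wt π Z ⊤ μ, π x (π a w) = π a (π x w) := by
  obtain ⟨m1, mm, -, -⟩ := wt_facts hμ
  have hRμ := td_inv' h hT hQ0 hμ
  have hTμ : ∀ g ∈ T, ∀ z ∈ Z, μ (g * z * g⁻¹) = μ z := by
    intro g hg z hz
    rw [← h.hZT z hz g hg, mul_inv_cancel_right]
  set W := wt π Z ⊤ μ with hW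
  have hRW : Pres π R W := pres_wt_of_inv π h.hRZ hRμ
  have hTW : Pres π T W := pres_wt_of_comm π h.hZT
  have hQW : Pres π Q W := pres_wt_of_comm π h.hZ
  let N := rad h.hQQ h.hZ μ m1 mm
  have hNQ : N ≤ Q := fun x hx => hx.1
  have hRN : R ≤ normalizer (N : Set G) := le_normalizer_rad h.hRQ hRμ
  have hTN : T ≤ normalizer (N : Set G) := le_normalizer_rad h.hTQ hTμ
  have hc : ∀ n ∈ N, ∀ x ∈ Q, ∀ w ∈ W, π n (π x w) = π x (π n w) := by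
    intro n hn x hx w hw
    exact comm_on_wt (h.hQQ n hn.1 x hx) (hn.2 x hx) (hQW x hx _ (hQW n hn.1 w hw))
  intro x hx hxr a ha w hw
  have hxN : x ∈ N := ⟨hx, hxr⟩
  have hle : W ≤ LinearMap.ker (π x * π a - π a * π x) := by
    refine le_of_wt_le (A := N) (card_ne_zero_of_pgroup h.hs (h.hQ.to_le hNQ) hsE)
      (fun n hn => hQW n (hNQ hn)) (fun n hn n' hn' w hw => hc n hn n' (hNQ hn') w hw) _ ?_
    intro l u hu
    by_cases hl : wt π N W l = ⊥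
    · rw [hl, Submodule.mem_bot] at hu
      rw [hu]
      exact Submodule.zero_mem _
    have hinv := weight_inv h hT hRW hTW hQW hNQ hRN hTN hc hQ0 hl a ha
    have h1 := apply_mem_wt (hRN ha) (hRW a ha) hu
    rw [wt_congr π W hinv] at h1
    rw [LinearMap.mem_ker, LinearMap.sub_apply, Module.End.mul_apply, Module.End.mul_apply,
      h1.2 x hxN, hu.2 x hxN, map_smul, sub_self]
  have h2 := hle hw
  rw [LinearMap.mem_ker, LinearMap.sub_apply, Module.End.mul_apply, Module.End.mul_apply,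
    sub_eq_zero] at h2
  exact h2

theorem td_ne (h : TD Q Z T R r s) {π : Representation E G V} (hsE : (s : E) ≠ 0)
    (hT : ∀ v, (∀ a ∈ R, π a v = v) → ∀ t ∈ T, π t v = v) (hQ0 : fix π Q = ⊥)
    {μ : G → E} (hμ : wt π Z ⊤ μ ≠ ⊥) : ∃ x ∈ Q, ∃ y ∈ Q, μ ⁅x, y⁆ ≠ 1 := by
  by_contra hcon
  push Not at hcon
  apply hμ
  have hRW : Pres π R (wt π Z ⊤ μ) := pres_wt_of_inv π h.hRZ (td_inv' h hT hQ0 hμ)
  have hQW : Pres π Q (wt π Z ⊤ μ) := pres_wt_of_comm π h.hZ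
  have hc := td_comm h hsE hT hQ0 hμ
  let S : Subgroup G :=
    { carrier := {x | x ∈ Q ∧ ∀ w ∈ wt π Z ⊤ μ, π x w = w}
      one_mem' := ⟨Q.one_mem, fun w _ => by rw [map_one]; rfl⟩
      mul_mem' := fun {a b} ha hb => ⟨Q.mul_mem ha.1 hb.1, fun w hw => by
        rw [mul_apply', hb.2 w hw, ha.2 w hw]⟩
      inv_mem' := fun {a} ha => ⟨Q.inv_mem ha.1, fun w hw => by
        have := inv_apply π a w
        rwa [ha.2 w hw] at this⟩ }
  have h1 : ⁅Q, R⁆ ≤ S := by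
    rw [commutator_le]
    intro x hx a ha
    refine ⟨by rw [← h.hcomm]; exact commutator_mem_commutator hx ha, fun w hw => ?_⟩
    have h2 := hc x⁻¹ (Q.inv_mem hx) (fun y hy => hcon _ (Q.inv_mem hx) y hy) a⁻¹
      (R.inv_mem ha) w hw
    rw [commutatorElement_def, mul_apply', mul_apply', mul_apply', h2, apply_inv, apply_inv]
  rw [h.hcomm] at h1
  rw [← le_bot_iff, ← hQ0]
  intro w hw x hx
  exact (h1 hx).2 w hw

theorem td_fix (h : TD Q Z T R r s) {π : Representation E G V} (hsE : (s : E) ≠ 0)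
    (hrE : (r : E) ≠ 0)
    (hT : ∀ v, (∀ a ∈ R, π a v = v) → ∀ t ∈ T, π t v = v) (hQ0 : fix π Q = ⊥)
    {μ : G → E} (hμ : wt π Z ⊤ μ ≠ ⊥) :
    (∃ v ∈ wt π Z ⊤ μ, v ≠ 0 ∧ ∀ a ∈ R, π a v = v) ∧
    ∀ t ∈ T, (∀ x ∈ Q, ∀ y ∈ Q, μ ⁅⁅t, x⁆, y⁆ = 1) ∨
      (∀ x ∈ Q, ∀ y ∈ Q, μ ⁅t * x * t⁻¹ * x, y⁆ = 1) := by
  have hRμ := td_inv' h hT hQ0 hμ
  have hcomm := td_comm h hsE hT hQ0 hμ
  obtain ⟨x0, hx0, y0, hy0, hne⟩ := td_ne h hsE hT hQ0 hμ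
  set W := wt π Z ⊤ μ with hW
  let H : Subgroup G := (Q ⊔ T) ⊔ R
  have hHW : Pres π H W := by
    refine Pres.sup (Pres.sup (pres_wt_of_comm π h.hZ) (pres_wt_of_comm π h.hZT) h.hTQ)
      (pres_wt_of_inv π h.hRZ hRμ) (le_normalizer_sup' h.hRQ (le_norm fun a ha t ht => ?_))
    rw [← h.hTR t ht a ha, mul_inv_cancel_right]
    exact ht
  have hQH : Q ≤ H := le_sup_left.trans le_sup_left
  have hTH : T ≤ H := le_sup_right.trans le_sup_left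
  have hRH : R ≤ H := le_sup_right
  have hnt : Nontrivial W := Submodule.nontrivial_iff_ne_bot.mpr hμ
  have h' := TD_subgroupOf h hQH hTH hRH
  have a1 : ∀ z ∈ Z.subgroupOf H, ∀ v : W,
      sub π H.subtype W (fun g w hw => hHW g g.2 w hw) z v = μ ((z : H) : G) • v :=
    fun z hz v => Subtype.ext (v.2.2 z hz)
  have a2 : ∀ x ∈ Q.subgroupOf H, (∀ y ∈ Q.subgroupOf H, μ ((⁅x, y⁆ : H) : G) = 1) →
      ∀ a ∈ R.subgroupOf H, ∀ v,
      sub π H.subtype W (fun g w hw => hHW g g.2 w hw) x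
        (sub π H.subtype W (fun g w hw => hHW g g.2 w hw) a v) =
      sub π H.subtype W (fun g w hw => hHW g g.2 w hw) a
        (sub π H.subtype W (fun g w hw => hHW g g.2 w hw) x v) := by
    intro x hx hxy a ha v
    exact Subtype.ext (hcomm x hx (fun y hy => hxy ⟨y, hQH hy⟩ hy) a ha v v.2)
  have a3 : ∃ x ∈ Q.subgroupOf H, ∃ y ∈ Q.subgroupOf H, μ ((⁅x, y⁆ : H) : G) ≠ 1 :=
    ⟨⟨x0, hQH hx0⟩, hx0, ⟨y0, hQH hy0⟩, hy0, hne⟩
  constructor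
  · have h1 := sc_fix (μ := fun g : H => μ g) h' a1 a3 a2 hrE hsE
    obtain ⟨v, hv, hv0⟩ := Submodule.exists_mem_ne_zero_of_ne_bot h1
    refine ⟨v, v.2, fun h0 => hv0 (Subtype.ext h0), fun a ha => ?_⟩
    exact congrArg Subtype.val (hv ⟨a, hRH ha⟩ ha)
  · intro t ht
    have h1 := sc_core (μ := fun g : H => μ g) h' a1 a3 a2 hrE hsE (by
      intro v hv t ht
      refine Subtype.ext (hT v (fun a ha => ?_) t ht)
      exact congrArg Subtype.val (hv ⟨a, hRH ha⟩ ha)) ⟨t, hTH ht⟩ ht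
    rcases h1 with h1 | h1
    · left
      intro x hx y hy
      exact h1 ⟨x, hQH hx⟩ hx ⟨y, hQH hy⟩ hy
    · right
      intro x hx y hy
      exact h1 ⟨x, hQH hx⟩ hx ⟨y, hQH hy⟩ hy

/-- `R` fixes a nonzero vector moved by `z` -/
theorem top_vec (h : TD Q Z T R r s) {π : Representation E G V} (hsE : (s : E) ≠ 0)
    (hrE : (r : E) ≠ 0)
    (hT : ∀ v, (∀ a ∈ R, π a v = v) → ∀ t ∈ T, π t v = v) (hQ0 : fix π Q = ⊥)
    {z : G} (hz : z ∈ Z) (hz1 : π z ≠ 1) : ∃ v, (∀ a ∈ R, π a v = v) ∧ π z v ≠ v := by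
  by_contra hcon
  push Not at hcon
  apply hz1
  have hle : (⊤ : Submodule E V) ≤ LinearMap.ker (π z - 1) := by
    refine le_of_wt_le (π := π) (A := Z) (W := ⊤)
      (card_ne_zero_of_pgroup h.hs (h.hQ.to_le h.hZQ) hsE)
      (fun _ _ _ _ => Submodule.mem_top) (fun a ha b hb w _ => by
        rw [← mul_apply', ← mul_apply', h.hZ a ha b (h.hZQ hb)]) _ ?_
    intro μ u hu
    by_cases hl : wt π Z ⊤ μ = ⊥
    · rw [hl, Submodule.mem_bot] at hu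
      rw [hu]
      exact Submodule.zero_mem _
    obtain ⟨⟨v, hv, hv0, hvR⟩, -⟩ := td_fix h hsE hrE hT hQ0 hl
    have h1 := hcon v hvR
    rw [hv.2 z hz] at h1
    have h3 : (1 - μ z) • v = 0 := by rw [sub_smul, one_smul, h1, sub_self]
    have h4 : μ z = 1 := (sub_eq_zero.mp ((smul_eq_zero.mp h3).resolve_right hv0)).symm
    rw [LinearMap.mem_ker, LinearMap.sub_apply, hu.2 z hz, h4, one_smul, Module.End.one_apply,
      sub_self]
  ext v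
  have h2 := hle (Submodule.mem_top (x := v))
  rw [LinearMap.mem_ker, LinearMap.sub_apply, sub_eq_zero] at h2
  exact h2

theorem exists_wt [Nontrivial V] (h : TD Q Z T R r s) (π : Representation E G V)
    (hsE : (s : E) ≠ 0) : ∃ μ, wt π Z ⊤ μ ≠ ⊥ := by
  by_contra hcon
  push Not at hcon
  have hle : (⊤ : Submodule E V) ≤ ⊥ := by
    refine le_of_wt_le (π := π) (A := Z) (W := ⊤)
      (card_ne_zero_of_pgroup h.hs (h.hQ.to_le h.hZQ) hsE)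
      (fun _ _ _ _ => Submodule.mem_top) (fun a ha b hb w _ => by
        rw [← mul_apply', ← mul_apply', h.hZ a ha b (h.hZQ hb)]) _ ?_
    intro μ
    rw [hcon μ]
  exact top_ne_bot (le_bot_iff.mp hle)

theorem top_z [Nontrivial V] (h : TD Q Z T R r s) {π : Representation E G V} (hsE : (s : E) ≠ 0)
    (hT : ∀ v, (∀ a ∈ R, π a v = v) → ∀ t ∈ T, π t v = v) (hQ0 : fix π Q = ⊥) :
    ∃ z ∈ Z, z ∈ centralizer (R : Set G) ∧ π z ≠ 1 := by
  obtain ⟨μ, hμ⟩ := exists_wt h π hsE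
  obtain ⟨m1, mm, -, -⟩ := wt_facts hμ
  obtain ⟨x0, hx0, y0, hy0, hne⟩ := td_ne h hsE hT hQ0 hμ
  have hRμ := td_inv' h hT hQ0 hμ
  obtain ⟨c, hc, hcR, hcw⟩ := exists_cent_mul h.hr h.isPGroup_R h.hRZ
    (cop_of_ne h.hr h.hs h.hrs (h.hQ.to_le h.hZQ)) (h.hQQ x0 hx0 y0 hy0)
  refine ⟨c, hc, hcR, fun h1 => hne ?_⟩
  have h2 : μ (c⁻¹ * ⁅x0, y0⁆) = 1 := kills h.hRZ μ m1 mm hRμ _ hcw
  have h3 : μ ⁅x0, y0⁆ = μ c * μ (c⁻¹ * ⁅x0, y0⁆) := by
    rw [← mm c hc _ (Z.mul_mem (Z.inv_mem hc) (h.hQQ x0 hx0 y0 hy0)), mul_inv_cancel_left]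
  rw [h3, h2, mul_one]
  obtain ⟨v, hv, hv0⟩ := Submodule.exists_mem_ne_zero_of_ne_bot hμ
  have h4 := hv.2 c hc
  rw [h1, Module.End.one_apply] at h4
  have h5 : (1 - μ c) • v = 0 := by rw [sub_smul, one_smul, ← h4, sub_self]
  exact (sub_eq_zero.mp ((smul_eq_zero.mp h5).resolve_right hv0)).symm

theorem top_F [Nontrivial V] (h : TD Q Z T R r s) {π : Representation E G V}
    (hsE : (s : E) ≠ 0) (hrE : (r : E) ≠ 0)
    (hT : ∀ v, (∀ a ∈ R, π a v = v) → ∀ t ∈ T, π t v = v) (hQ0 : fix π Q = ⊥)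
    {F : Subgroup G} (hFQ : F ≤ normalizer (Q : Set G)) (hFZ : F ≤ normalizer (Z : Set G))
    (hFR : ∀ f ∈ F, ∀ a ∈ R, f * a = a * f) (hTF : ⁅T, F⁆ = T)
    (hFT : F ≤ normalizer (T : Set G))
    (hFC : ∀ z ∈ Z, z ∈ centralizer (R : Set G) → ∀ f ∈ F, f * z = z * f) : False := by
  obtain ⟨μ, hμ⟩ := exists_wt h π hsE
  obtain ⟨m1, mm, -, -⟩ := wt_facts hμ
  obtain ⟨x0, hx0, y0, hy0, hne⟩ := td_ne h hsE hT hQ0 hμ
  have hRμ := td_inv' h hT hQ0 hμ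
  obtain ⟨-, hpm⟩ := td_fix h hsE hrE hT hQ0 hμ
  have hTμ : ∀ g ∈ T, ∀ z ∈ Z, μ (g * z * g⁻¹) = μ z := by
    intro g hg z hz
    rw [← h.hZT z hz g hg, mul_inv_cancel_right]
  have hFμ : ∀ g ∈ F, ∀ z ∈ Z, μ (g * z * g⁻¹) = μ z := by
    intro g hg z hz
    obtain ⟨c, hc, hcR, hcw⟩ := exists_cent_mul h.hr h.isPGroup_R h.hRZ
      (cop_of_ne h.hr h.hs h.hrs (h.hQ.to_le h.hZQ)) hz
    have hgR : g ∈ normalizer (R : Set G) := by
      refine le_norm (H := F) (P := R) (fun f hf a ha => ?_) hg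
      rw [hFR f hf a ha, mul_inv_cancel_right]
      exact ha
    have h1 : g * (c⁻¹ * z) * g⁻¹ ∈ ⁅Z, R⁆ :=
      Sect.conj_mem (le_normalizer_commutator (H := zpowers g)
        ((zpowers_le.mpr (hFZ hg))) (zpowers_le.mpr hgR)) (mem_zpowers g) hcw
    have hle : ⁅Z, R⁆ ≤ Z := Lib.CoprimeCommutator.commutator_le_left h.hRZ
    have h2 : μ (g * (c⁻¹ * z) * g⁻¹) = 1 := kills h.hRZ μ m1 mm hRμ _ h1
    have h3 : μ (c⁻¹ * z) = 1 := kills h.hRZ μ m1 mm hRμ _ hcw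
    have h4 : g * z * g⁻¹ = c * (g * (c⁻¹ * z) * g⁻¹) := by
      have h5 := hFC c hc hcR g hg
      have h6 : c⁻¹ * g = g * c⁻¹ := by
        rw [inv_mul_eq_iff_eq_mul, ← mul_assoc, ← h5, mul_inv_cancel_right]
      calc g * z * g⁻¹ = c * (c⁻¹ * g) * z * g⁻¹ := by group
        _ = c * (g * (c⁻¹ * z) * g⁻¹) := by rw [h6]; group
    have h7 : z = c * (c⁻¹ * z) := by rw [mul_inv_cancel_left]
    rw [h4, mm c hc _ (hle h1), h2, mul_one]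
    conv_rhs => rw [h7]
    rw [mm c hc _ (hle hcw), h3, mul_one]
  let N := rad h.hQQ h.hZ μ m1 mm
  have hNQ : N ≤ Q := fun x hx => hx.1
  have hQN : Q ≤ normalizer (N : Set G) := by
    refine le_normalizer_rad Subgroup.le_normalizer fun g hg z hz => ?_
    rw [← h.hZ z hz g hg, mul_inv_cancel_right]
  have hTN : T ≤ normalizer (N : Set G) := le_normalizer_rad h.hTQ hTμ
  have hFN : F ≤ normalizer (N : Set G) := le_normalizer_rad hFQ hFμ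
  -- the kernel of `T` on `Q / N`
  let S : Subgroup G :=
    { carrier := {t | t ∈ T ∧ ∀ x ∈ Q, t * x * t⁻¹ * x⁻¹ ∈ N}
      one_mem' := ⟨T.one_mem, fun x hx => by
        rw [one_mul, inv_one, mul_one, mul_inv_cancel]; exact N.one_mem⟩
      mul_mem' := fun {a b} ha hb => ⟨T.mul_mem ha.1 hb.1, fun x hx => by
        have h1 := ha.2 (b * x * b⁻¹) (Sect.conj_mem h.hTQ hb.1 hx)
        have h2 := hb.2 x hx
        have h3 : a * b * x * (a * b)⁻¹ * x⁻¹ =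
            (a * (b * x * b⁻¹) * a⁻¹ * (b * x * b⁻¹)⁻¹) * (b * x * b⁻¹ * x⁻¹) := by group
        rw [h3]
        exact N.mul_mem h1 h2⟩
      inv_mem' := fun {a} ha => ⟨T.inv_mem ha.1, fun x hx => by
        have h1 := ha.2 (a⁻¹ * x * a) (by
          have := Sect.conj_mem h.hTQ (T.inv_mem ha.1) hx
          rwa [inv_inv] at this)
        have h3 : a⁻¹ * x * a⁻¹⁻¹ * x⁻¹ = (a * (a⁻¹ * x * a) * a⁻¹ * (a⁻¹ * x * a)⁻¹)⁻¹ := by
          group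
        rw [h3]
        exact N.inv_mem h1⟩ }
  have hTS : ⁅T, F⁆ ≤ S := by
    rw [commutator_le]
    intro t ht f hf
    have hft : f * t⁻¹ * f⁻¹ ∈ T := Sect.conj_mem hFT hf (T.inv_mem ht)
    have hcm : ⁅t, f⁆ = t * (f * t⁻¹ * f⁻¹) := by rw [commutatorElement_def]; group
    rw [hcm]
    refine ⟨T.mul_mem ht hft, fun x hx => ?_⟩
    have hfx : f⁻¹ * x * f ∈ Q := by
      have := Sect.conj_mem hFQ (F.inv_mem hf) hx
      rwa [inv_inv] at this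
    have hy : t⁻¹ * (f⁻¹ * x * f) * t ∈ Q := by
      have := Sect.conj_mem h.hTQ (T.inv_mem ht) hfx
      rwa [inv_inv] at this
    have hQQ' : Q ≤ normalizer (Q : Set G) := Subgroup.le_normalizer
    rcases hpm t ht with h1 | h1
    · have h1' : ∀ x ∈ Q, t * x * t⁻¹ * x⁻¹ ∈ N := by
        intro x hx
        refine ⟨Q.mul_mem (Sect.conj_mem h.hTQ ht hx) (Q.inv_mem hx), fun y hy => ?_⟩
        exact h1 x hx y hy
      -- `f t⁻¹ f⁻¹` moves `x` to `x` modulo `N`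
      have h2 : (f * t⁻¹ * f⁻¹) * x * (f * t⁻¹ * f⁻¹)⁻¹ * x⁻¹ ∈ N := by
        have h3 := h1' _ hy
        have h4 := Sect.conj_mem hFN hf (N.inv_mem h3)
        have h5 : (f * t⁻¹ * f⁻¹) * x * (f * t⁻¹ * f⁻¹)⁻¹ * x⁻¹ =
            f * (t * (t⁻¹ * (f⁻¹ * x * f) * t) * t⁻¹ * (t⁻¹ * (f⁻¹ * x * f) * t)⁻¹)⁻¹ * f⁻¹ := by
          group
        rw [h5]
        exact h4
      have h3 := h1' _ (Sect.conj_mem h.hTQ hft hx)
      have h4 : t * (f * t⁻¹ * f⁻¹) * x * (t * (f * t⁻¹ * f⁻¹))⁻¹ * x⁻¹ =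
          (t * ((f * t⁻¹ * f⁻¹) * x * (f * t⁻¹ * f⁻¹)⁻¹) * t⁻¹ *
            ((f * t⁻¹ * f⁻¹) * x * (f * t⁻¹ * f⁻¹)⁻¹)⁻¹) *
            ((f * t⁻¹ * f⁻¹) * x * (f * t⁻¹ * f⁻¹)⁻¹ * x⁻¹) := by group
      rw [h4]
      exact N.mul_mem h3 h2
    · have h1' : ∀ x ∈ Q, t * x * t⁻¹ * x ∈ N := by
        intro x hx
        refine ⟨Q.mul_mem (Sect.conj_mem h.hTQ ht hx) hx, fun y hy => ?_⟩
        exact h1 x hx y hy
      -- `f t⁻¹ f⁻¹` moves `x` to `x⁻¹` modulo `N`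
      have h2 : x * ((f * t⁻¹ * f⁻¹) * x * (f * t⁻¹ * f⁻¹)⁻¹) ∈ N := by
        have h3 := h1' _ hy
        have h4 := Sect.conj_mem hFN hf h3
        have h5 : x * ((f * t⁻¹ * f⁻¹) * x * (f * t⁻¹ * f⁻¹)⁻¹) =
            f * (t * (t⁻¹ * (f⁻¹ * x * f) * t) * t⁻¹ * (t⁻¹ * (f⁻¹ * x * f) * t)) * f⁻¹ := by
          group
        rw [h5]
        exact h4
      have h3 := h1' _ (Sect.conj_mem h.hTQ hft hx)
      have h4 : t * (f * t⁻¹ * f⁻¹) * x * (t * (f * t⁻¹ * f⁻¹))⁻¹ * x⁻¹ =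
          (t * ((f * t⁻¹ * f⁻¹) * x * (f * t⁻¹ * f⁻¹)⁻¹) * t⁻¹ *
            ((f * t⁻¹ * f⁻¹) * x * (f * t⁻¹ * f⁻¹)⁻¹)) *
            (x * ((f * t⁻¹ * f⁻¹) * x * (f * t⁻¹ * f⁻¹)⁻¹))⁻¹ := by group
      rw [h4]
      exact N.mul_mem h3 (N.inv_mem h2)
  rw [hTF] at hTS
  have hQle : ⁅Q, T⁆ ≤ N := by
    rw [commutator_comm, commutator_le]
    intro t ht x hx
    exact (hTS ht).2 x hx
  rw [h.hQT] at hQle
  exact hne ((hQle hx0).2 y0 hy0)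

end Cfsg.Agent.H575.FTop
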