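import Cfsg.Agent.H575.FTop
import Cfsg.Agent.H813.TurullTwo

/-!
# `Q = [Q, T]` with the centre acting by scalars
-/

set_option autoImplicit false
set_option linter.unusedSectionVars false
set_option linter.unusedVariables false

namespace Cfsg.Agent.H575.FTop

open Module Subgroup Cfsg.Agent.H575.Dim Cfsg.Agent.H575.Weights Cfsg.Agent.H575.Sect
  Cfsg.Agent.H575.Fix Cfsg.Agent.H575.Lev Cfsg.Agent.H575.ModM Cfsg.Agent.H575.Tower
  Cfsg.Agent.H575.Mult Cfsg.Agent.H575.HA Cfsg.Agent.H575.KL Cfsg.Agent.H575.ExtraIrr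
open scoped commutatorElement

variable {E : Type*} [Field E] [IsAlgClosed E] {G V : Type*} [Group G] [Finite G]
  [AddCommGroup V] [Module E V] [FiniteDimensional E V] {Q Z T R : Subgroup G} {r s : ℕ}

theorem img_inj {π : Representation E G V} (x y : (MonoidHom.toHomUnits π).range)
    (hxy : imgRep π x = imgRep π y) : x = y := Subtype.ext (Units.ext hxy)

theorem mu_one_of_trivial {π : Representation E G V} [Nontrivial V] {μ : G → E} {g : G}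
    (h1 : ∀ v, π g v = μ g • v) (h2 : π g = 1) : μ g = 1 := by
  obtain ⟨v, hv⟩ := exists_ne (0 : V)
  have h3 := h1 v
  rw [h2, Module.End.one_apply] at h3
  have h4 : (1 - μ g) • v = 0 := by rw [sub_smul, one_smul, ← h3, sub_self]
  exact (sub_eq_zero.mp ((smul_eq_zero.mp h4).resolve_right hv)).symm

theorem map_center_comm {π : Representation E G V} {x y : G}
    (h : toImg π x * toImg π y = toImg π y * toImg π x) : π ⁅x, y⁆ = 1 := by
  rw [← toImg_eq_one, map_commutatorElement]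
  exact commutatorElement_eq_one_iff_mul_comm.mpr h

/-- the elements of the radical act as scalars -/
theorem sc_rad (h : TD Q Z T R r s) {π : Representation E G V} [Nontrivial V] {μ : G → E}
    (hμ : ∀ z ∈ Z, ∀ v, π z v = μ z • v)
    (hrad : ∀ x ∈ Q, (∀ y ∈ Q, μ ⁅x, y⁆ = 1) → ∀ a ∈ R, ∀ v, π x (π a v) = π a (π x v)) {x : G}
    (hx : x ∈ Q) (hxr : ∀ y ∈ Q, μ ⁅x, y⁆ = 1) : ∃ z ∈ Z, π x = π z := by
  have hs : Fact s.Prime := ⟨h.hs⟩
  have hcop : (Nat.card (R.map (toImg π))).Coprime (Nat.card (Q.map (toImg π))) := by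
    obtain ⟨k, hk⟩ := h.hQ.exists_card_eq
    have h1 : (Nat.card R).Coprime (Nat.card Q) := by
      rw [h.hR, hk]
      exact Nat.Coprime.pow_right _ ((Nat.coprime_primes h.hr h.hs).mpr h.hrs)
    exact (h1.coprime_dvd_left (Subgroup.card_map_dvd (f := toImg π) (H := R))).coprime_dvd_right
      (Subgroup.card_map_dvd (f := toImg π) (H := Q))
  have h1 := cent_le_gen (N := Z.map (toImg π)) hcop ?_ ?_ ?_
  · have h2 : toImg π x ∈ Q.map (toImg π) ⊓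
        centralizer ((R.map (toImg π) : Subgroup _) : Set (MonoidHom.toHomUnits π).range) := by
      rw [Subgroup.mem_inf]
      refine ⟨⟨x, hx, rfl⟩, ?_⟩
      rw [Subgroup.mem_centralizer_iff]
      rintro _ ⟨a, ha, rfl⟩
      rw [← map_mul, ← map_mul]
      apply toImg_eq
      ext v
      rw [mul_apply', mul_apply', hrad x hx hxr a ha]
    obtain ⟨z, hz, hzx⟩ := h1 h2
    refine ⟨z, hz, ?_⟩
    rw [← imgRep_toImg π x, ← imgRep_toImg π z, hzx]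
  · rw [← Subgroup.map_commutator]
    refine Subgroup.map_mono ?_
    rw [commutator_le]
    exact h.hQQ
  · refine le_norm ?_
    rintro _ ⟨a, ha, rfl⟩ _ ⟨x, hx, rfl⟩
    exact ⟨a * x * a⁻¹, Sect.conj_mem h.hRQ ha hx, by simp⟩
  · rw [← Subgroup.map_commutator, h.hcomm]

theorem sc_center (h : TD Q Z T R r s) {π : Representation E G V} [Nontrivial V] {μ : G → E}
    (hμ : ∀ z ∈ Z, ∀ v, π z v = μ z • v)
    (hrad : ∀ x ∈ Q, (∀ y ∈ Q, μ ⁅x, y⁆ = 1) → ∀ a ∈ R, ∀ v, π x (π a v) = π a (π x v))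
    {x : G} (hx : x ∈ Q) (hxc : (⟨toImg π x, ⟨x, hx, rfl⟩⟩ : Q.map (toImg π)) ∈
      center (Q.map (toImg π))) : ∀ y ∈ Q, μ ⁅x, y⁆ = 1 := by
  intro y hy
  rw [Subgroup.mem_center_iff] at hxc
  have h1 := hxc ⟨toImg π y, ⟨y, hy, rfl⟩⟩
  have h2 : toImg π x * toImg π y = toImg π y * toImg π x :=
    (congrArg Subtype.val h1).symm
  exact mu_one_of_trivial (hμ _ (h.hQQ x hx y hy)) (map_center_comm h2)

theorem sc_scal (h : TD Q Z T R r s) {π : Representation E G V} [Nontrivial V] {μ : G → E}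
    (hμ : ∀ z ∈ Z, ∀ v, π z v = μ z • v)
    (hrad : ∀ x ∈ Q, (∀ y ∈ Q, μ ⁅x, y⁆ = 1) → ∀ a ∈ R, ∀ v, π x (π a v) = π a (π x v)) :
    ∀ z : Q.map (toImg π), z ∈ center (Q.map (toImg π)) →
      ∃ c : E, ∀ v, imgRep π z v = c • v := by
  rintro ⟨_, x, hx, rfl⟩ hxc
  obtain ⟨z, hz, hzx⟩ := sc_rad h hμ hrad hx (sc_center h hμ hrad hx hxc)
  refine ⟨μ z, fun v => ?_⟩
  show π x v = μ z • v
  rw [hzx, hμ z hz]

theorem sc_ed (h : TD Q Z T R r s) {π : Representation E G V} [Nontrivial V] {μ : G → E}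
    (hμ : ∀ z ∈ Z, ∀ v, π z v = μ z • v)
    (hne : ∃ x ∈ Q, ∃ y ∈ Q, μ ⁅x, y⁆ ≠ 1)
    (hrad : ∀ x ∈ Q, (∀ y ∈ Q, μ ⁅x, y⁆ = 1) → ∀ a ∈ R, ∀ v, π x (π a v) = π a (π x v)) :
    ED (Q.map (toImg π)) (R.map (toImg π)) r s := by
  refine ed_of_scal (π := imgRep π) img_inj h.hr h.hs h.hrs ?_ (h.hQ.map _) ?_ ?_ ?_ ?_
    (sc_scal h hμ hrad) ?_
  · rw [← h.hR]
    exact Subgroup.card_map_dvd (f := toImg π) (H := R)
  · refine le_norm ?_
    rintro _ ⟨a, ha, rfl⟩ _ ⟨x, hx, rfl⟩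
    exact ⟨a * x * a⁻¹, Sect.conj_mem h.hRQ ha hx, by simp⟩
  · rw [← Subgroup.map_commutator, h.hcomm]
  · rintro _ ⟨x, hx, rfl⟩ _ ⟨y, hy, rfl⟩ _ ⟨z, hz, rfl⟩
    rw [← map_commutatorElement, ← map_commutatorElement,
      commutatorElement_eq_one_iff_mul_comm.mpr (h.hZ _ (h.hQQ _ hx _ hy) _ hz), map_one]
  · rintro _ ⟨x, hx, rfl⟩ _ ⟨y, hy, rfl⟩
    rw [← map_pow, ← map_commutatorElement,
      commutatorElement_eq_one_iff_mul_comm.mpr (h.hZ _ (h.hQs _ hx) _ hy), map_one]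
  · obtain ⟨x, hx, y, hy, hxy⟩ := hne
    intro hbot
    apply hxy
    have h1 : ∀ g ∈ Q, π g = 1 := by
      intro g hg
      have h3 : toImg π g ∈ Q.map (toImg π) := ⟨g, hg, rfl⟩
      rw [hbot, Subgroup.mem_bot] at h3
      exact toImg_eq_one.mp h3
    exact mu_one_of_trivial (hμ _ (h.hQQ x hx y hy))
      (map_commutatorElement' π (h1 x hx) (h1 y hy))

theorem sc_fixbot {π : Representation E G V} (R : Subgroup G) :
    fix (imgRep π) (R.map (toImg π)) = fix π R := by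
  ext v
  constructor
  · intro hv a ha
    exact hv (toImg π a) ⟨a, ha, rfl⟩
  · rintro hv _ ⟨a, ha, rfl⟩
    exact hv a ha

theorem sc_TN (h : TD Q Z T R r s) {π : Representation E G V} :
    T.map (toImg π) ≤ normalizer ((Q.map (toImg π) : Subgroup _) : Set _) := by
  refine le_norm ?_
  rintro _ ⟨a, ha, rfl⟩ _ ⟨x, hx, rfl⟩
  exact ⟨a * x * a⁻¹, Sect.conj_mem h.hTQ ha hx, by simp⟩

theorem sc_TZ (h : TD Q Z T R r s) {π : Representation E G V} [Nontrivial V] {μ : G → E}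
    (hμ : ∀ z ∈ Z, ∀ v, π z v = μ z • v)
    (hrad : ∀ x ∈ Q, (∀ y ∈ Q, μ ⁅x, y⁆ = 1) → ∀ a ∈ R, ∀ v, π x (π a v) = π a (π x v)) :
    ∀ t ∈ T.map (toImg π), ∀ z ∈ (center (Q.map (toImg π))).map (Q.map (toImg π)).subtype,
      t * z = z * t := by
  rintro t - _ ⟨z, hz, rfl⟩
  obtain ⟨c, hc⟩ := sc_scal h hμ hrad z hz
  apply img_inj
  ext v
  show imgRep π (t * (z : (MonoidHom.toHomUnits π).range)) v =
    imgRep π ((z : (MonoidHom.toHomUnits π).range) * t) v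
  rw [mul_apply', mul_apply', hc, hc, map_smul]

theorem sc_mem (h : TD Q Z T R r s) {π : Representation E G V} [Nontrivial V] {μ : G → E}
    (hμ : ∀ z ∈ Z, ∀ v, π z v = μ z • v)
    (hrad : ∀ x ∈ Q, (∀ y ∈ Q, μ ⁅x, y⁆ = 1) → ∀ a ∈ R, ∀ v, π x (π a v) = π a (π x v))
    {x : G} (hx : x ∈ Q)
    (hxc : toImg π x ∈ (center (Q.map (toImg π))).map (Q.map (toImg π)).subtype) :
    ∀ y ∈ Q, μ ⁅x, y⁆ = 1 := by
  obtain ⟨z, hz, hzx⟩ := hxc
  refine sc_center h hμ hrad hx ?_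
  have : (⟨toImg π x, ⟨x, hx, rfl⟩⟩ : Q.map (toImg π)) = z := Subtype.ext hzx.symm
  rw [this]
  exact hz

/-- there are vectors fixed by `R` -/
theorem sc_fix (h : TD Q Z T R r s) {π : Representation E G V} [Nontrivial V] {μ : G → E}
    (hμ : ∀ z ∈ Z, ∀ v, π z v = μ z • v)
    (hne : ∃ x ∈ Q, ∃ y ∈ Q, μ ⁅x, y⁆ ≠ 1)
    (hrad : ∀ x ∈ Q, (∀ y ∈ Q, μ ⁅x, y⁆ = 1) → ∀ a ∈ R, ∀ v, π x (π a v) = π a (π x v))
    (hrE : (r : E) ≠ 0) (hsE : (s : E) ≠ 0) : fix π R ≠ ⊥ := by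
  intro hbot
  have hED := sc_ed h hμ hne hrad
  obtain ⟨hs2, hcard⟩ := f2f (π := imgRep π) hED (sc_scal h hμ hrad)
    (fun z _ hz => Subtype.ext (img_inj _ _ (by rw [hz, Subgroup.coe_one, map_one]))) hrE hsE
    (by rw [sc_fixbot, hbot])
  subst hs2
  have h1 := H813.TurullTwo.f2_core hED hcard (T.map (toImg π)) (sc_TN h) (by
      rintro _ ⟨t, ht, rfl⟩ _ ⟨a, ha, rfl⟩
      rw [← map_mul, ← map_mul, h.hTR t ht a ha])
    (fun h2 => h.hTr (h2.trans (Subgroup.card_map_dvd (f := toImg π) (H := T))))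
    (fun h2 => h.hTs (h2.trans (Subgroup.card_map_dvd (f := toImg π) (H := T))))
    (sc_TZ h hμ hrad)
  have h2 : Q.map (toImg π) ≤ (center (Q.map (toImg π))).map (Q.map (toImg π)).subtype := by
    have h3 : ⁅T.map (toImg π), Q.map (toImg π)⁆ ≤
        (center (Q.map (toImg π))).map (Q.map (toImg π)).subtype := by
      rw [commutator_le]
      exact h1
    rwa [← Subgroup.map_commutator, commutator_comm, h.hQT] at h3
  obtain ⟨x, hx, y, hy, hxy⟩ := hne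
  exact hxy (sc_mem h hμ hrad hx (h2 ⟨x, hx, rfl⟩) y hy)

theorem sc_core (h : TD Q Z T R r s) {π : Representation E G V} [Nontrivial V] {μ : G → E}
    (hμ : ∀ z ∈ Z, ∀ v, π z v = μ z • v)
    (hne : ∃ x ∈ Q, ∃ y ∈ Q, μ ⁅x, y⁆ ≠ 1)
    (hrad : ∀ x ∈ Q, (∀ y ∈ Q, μ ⁅x, y⁆ = 1) → ∀ a ∈ R, ∀ v, π x (π a v) = π a (π x v))
    (hrE : (r : E) ≠ 0) (hsE : (s : E) ≠ 0)
    (hT : ∀ v, (∀ a ∈ R, π a v = v) → ∀ t ∈ T, π t v = v) :
    ∀ t ∈ T, (∀ x ∈ Q, ∀ y ∈ Q, μ ⁅⁅t, x⁆, y⁆ = 1) ∨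
      (∀ x ∈ Q, ∀ y ∈ Q, μ ⁅t * x * t⁻¹ * x, y⁆ = 1) := by
  intro t ht
  have hED := sc_ed h hμ hne hrad
  have h1 := f3f (π := imgRep π) hED (sc_scal h hμ hrad)
    (fun z _ hz => Subtype.ext (img_inj _ _ (by rw [hz, Subgroup.coe_one, map_one]))) hrE hsE
    (T.map (toImg π)) (sc_TN h) (by
      rintro _ ⟨t, ht, rfl⟩ _ ⟨a, ha, rfl⟩
      rw [← map_mul, ← map_mul, h.hTR t ht a ha])
    (fun h2 => h.hTr (h2.trans (Subgroup.card_map_dvd (f := toImg π) (H := T))))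
    (fun h2 => h.hTs (h2.trans (Subgroup.card_map_dvd (f := toImg π) (H := T))))
    (sc_TZ h hμ hrad) (by rw [sc_fixbot]; exact sc_fix h hμ hne hrad hrE hsE) (by
      rintro _ ⟨t, ht, rfl⟩ v hv
      rw [sc_fixbot] at hv
      exact hT v hv t ht) (toImg π t) ⟨t, ht, rfl⟩
  rcases h1 with h1 | h1
  · left
    intro x hx
    refine sc_mem h hμ hrad ?_ ?_
    · rw [commutatorElement_def]
      exact Q.mul_mem (Sect.conj_mem h.hTQ ht hx) (Q.inv_mem hx)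
    · rw [map_commutatorElement]
      exact h1 _ ⟨x, hx, rfl⟩
  · right
    intro x hx
    refine sc_mem h hμ hrad (Q.mul_mem (Sect.conj_mem h.hTQ ht hx) hx) ?_
    rw [map_mul, map_mul, map_mul, map_inv]
    exact h1 _ ⟨x, hx, rfl⟩

end Cfsg.Agent.H575.FTop
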