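import Cfsg.Agent.H575.ExtraIrr

/-!
# Fixed points and the image of a representation
-/

set_option autoImplicit false
set_option linter.unusedSectionVars false

namespace Cfsg.Agent.H575.Fix

open Module Subgroup Cfsg.Agent.H575.Dim Cfsg.Agent.H575.ModM Cfsg.Agent.H575.ExtraMod
  Cfsg.Agent.H575.ExtraIrr
open scoped commutatorElement

section Def

variable {k : Type*} [Field k] {G V : Type*} [Group G] [AddCommGroup V] [Module k V]

/-- the fixed points of `R` -/
def fix (ρ : Representation k G V) (R : Subgroup G) : Submodule k V where
  carrier := {v | ∀ a ∈ R, ρ a v = v}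
  add_mem' := by
    intro u v hu hv a ha
    rw [map_add, hu a ha, hv a ha]
  zero_mem' := fun a _ => map_zero _
  smul_mem' := by
    intro c v hv a ha
    rw [map_smul, hv a ha]

theorem mem_fix {ρ : Representation k G V} {R : Subgroup G} {v : V} :
    v ∈ fix ρ R ↔ ∀ a ∈ R, ρ a v = v := Iff.rfl

/-- the image of the group in the general linear group -/
def toImg (ρ : Representation k G V) : G →* (MonoidHom.toHomUnits ρ).range :=
  (MonoidHom.toHomUnits ρ).rangeRestrict

/-- the faithful representation of the image -/
def imgRep (ρ : Representation k G V) :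
    Representation k (MonoidHom.toHomUnits ρ).range V :=
  (Units.coeHom (Module.End k V)).comp (MonoidHom.toHomUnits ρ).range.subtype

theorem imgRep_toImg (ρ : Representation k G V) (g : G) : imgRep ρ (toImg ρ g) = ρ g := rfl

theorem toImg_eq_one {ρ : Representation k G V} {g : G} : toImg ρ g = 1 ↔ ρ g = 1 := by
  constructor
  · intro h
    rw [← imgRep_toImg, h, map_one]
  · intro h
    apply Subtype.ext
    apply Units.ext
    exact h

theorem toImg_eq {ρ : Representation k G V} {g h : G} (hgh : ρ g = ρ h) :
    toImg ρ g = toImg ρ h := by
  apply Subtype.ext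
  apply Units.ext
  exact hgh

end Def

end Cfsg.Agent.H575.Fix
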