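import Cfsg.Agent.H575.Model

/-!
# Group-level versions of the main lemmas
-/

set_option autoImplicit false
set_option linter.unusedSectionVars false
set_option linter.unusedVariables false

namespace Cfsg.Agent.H575.GLev

open Subgroup Cfsg.Agent.H575.Sect Cfsg.Agent.H575.Tower Cfsg.Agent.H575.BC
  Cfsg.Agent.H575.Model Cfsg.Agent.H575.Lev Cfsg.Agent.H575.FTop Cfsg.Agent.H575.HA
open scoped commutatorElement

universe u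

variable {Γ : Type u} [Group Γ]

/-- the data of a level of the tower -/
structure GD (L ZL P Z K A R : Subgroup Γ) (r s q p : ℕ) : Prop where
  hr : r.Prime
  hs : s.Prime
  hq : q.Prime
  hp : p.Prime
  hrs : r ≠ s
  hrq : r ≠ q
  hqs : q ≠ s
  hrp : r ≠ p
  hsp : s ≠ p
  hR : Nat.card R = r
  hL : IsPGroup p L
  hZL : ZL ≤ L
  hLL : ∀ x ∈ L, ∀ y ∈ L, ⁅x, y⁆ ∈ ZL
  hLp : ∀ x ∈ L, x ^ p ∈ ZL
  hPS : P ≤ nn L ZL
  hAS : A ≤ nn L ZL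
  hRS : R ≤ nn L ZL
  hRL : ∃ a ∈ R, ∃ l ∈ L, ⁅a, l⁆ ∉ ZL
  hP : IsPGroup s P
  hKP : K ≤ P
  hK : ∀ x ∈ P, (∀ l ∈ L, ⁅x, l⁆ ∈ ZL) ↔ x ∈ K
  hZP : Z ≤ P
  hPP : ∀ x ∈ P, ∀ y ∈ P, ⁅x, y⁆ ∈ Z
  hPs : ∀ x ∈ P, x ^ s ∈ Z
  hZ : ∀ z ∈ Z, ∀ x ∈ P, ⁅z, x⁆ ∈ K
  hA : IsPGroup q A
  hAP : A ≤ normalizer (P : Set Γ)
  hZA : ∀ z ∈ Z, ∀ a ∈ A, ⁅z, a⁆ ∈ K
  hRP : R ≤ normalizer (P : Set Γ)
  hRZ : R ≤ normalizer (Z : Set Γ)
  hRA : R ≤ normalizer (A : Set Γ)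
  hcomm : ⁅A, R⁆ = A
  hA3 : ∀ a ∈ A, ∀ b ∈ A, ∀ c ∈ A, ∀ x ∈ P, ⁅⁅⁅a, b⁆, c⁆, x⁆ ∈ K
  hAq : ∀ a ∈ A, ∀ b ∈ A, ∀ x ∈ P, ⁅⁅a ^ q, b⁆, x⁆ ∈ K

/-- `x` acts nontrivially on the fixed points of `R` in `[L / ZL, B]` -/
def Vis (L ZL B R : Subgroup Γ) (x : Γ) : Prop :=
  ∃ g ∈ ⁅L, B⁆, g ∈ centralizer (R : Set Γ) ∧ ⁅x, g⁆ ∉ ZL

variable {L ZL P Z K A R : Subgroup Γ} {r s q p : ℕ} {M : Type u} [CommGroup M] {f : L →* M}
  {θ : nn L ZL →* MulAut M}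

theorem isPGroup_of_card (hr : r.Prime) (hR : Nat.card R = r) : IsPGroup r R := by
  have : Fact r.Prime := ⟨hr⟩
  exact IsPGroup.of_card (n := 1) (by rw [hR, pow_one])

variable [Finite Γ]

theorem card_im_R (hm : Mod L ZL p f θ) (hr : r.Prime) (hR : Nat.card R = r)
    (hRS : R ≤ nn L ZL) (hRL : ∃ a ∈ R, ∃ l ∈ L, ⁅a, l⁆ ∉ ZL) : Nat.card (im θ R) = r := by
  have h1 : Nat.card (im θ R) ∣ r := by
    have h2 := Subgroup.card_map_dvd (f := θ) (H := R.subgroupOf (nn L ZL))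
    rwa [Nat.card_congr (Subgroup.subgroupOfEquivOfLe hRS).toEquiv, hR] at h2
  rcases (Nat.dvd_prime hr).mp h1 with h2 | h2
  · exfalso
    obtain ⟨a, ha, l, hl, hne⟩ := hRL
    apply hne
    have h3 : θ ⟨a, hRS ha⟩ = 1 := by
      have h4 : θ ⟨a, hRS ha⟩ ∈ im θ R := mem_im_of (g := ⟨a, hRS ha⟩) ha
      rw [Subgroup.card_eq_one.mp h2, Subgroup.mem_bot] at h4
      exact h4
    exact hm.eq_one_iff.mp h3 l hl
  · exact h2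

theorem vis_of (hm : Mod L ZL p f θ) (hr : r.Prime) (hR : IsPGroup r R)
    (hrL : ¬ r ∣ Nat.card L) (hRS : R ≤ nn L ZL) {B : Subgroup Γ} (hBS : B ≤ nn L ZL)
    (hRB : R ≤ normalizer (B : Set Γ)) {d : nn L ZL}
    (h : ∃ m ∈ brm (im θ B), (∀ a ∈ im θ R, a m = m) ∧ θ d m ≠ m) : Vis L ZL B R d := by
  obtain ⟨m, hmb, hmR, hdm⟩ := h
  obtain ⟨l, hl, rfl⟩ := hm.brm_lift hmb
  have hle : ⁅L, B⁆ ≤ L := Lib.CoprimeCommutator.commutator_le_left (hBS.trans inf_le_left)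
  obtain ⟨c, hc, hcR, hcl⟩ := hm.lift_fixed hr hR hrL hRS hle
    (le_normalizer_commutator (hRS.trans inf_le_left) hRB) hl hmR
  refine ⟨c, hc, hcR, fun h1 => hdm ?_⟩
  rw [← hcl]
  exact hm.fix_iff.mpr h1

theorem GD.toLD (h : GD L ZL P Z K A R r s q p) (hm : Mod L ZL p f θ) :
    LD (im θ P) (im θ Z) (im θ A) (im θ R) r s q := by
  have hZS : Z ≤ nn L ZL := h.hZP.trans h.hPS
  have hone : ∀ g : nn L ZL, (g : Γ) ∈ K → θ g = 1 := by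
    intro g hg
    rw [hm.eq_one_iff]
    exact (h.hK g (h.hKP hg)).mpr hg
  have hcom : ∀ g k : nn L ZL, ⁅(g : Γ), (k : Γ)⁆ ∈ K → θ g * θ k = θ k * θ g := by
    intro g k hgk
    rw [← commutatorElement_eq_one_iff_mul_comm, ← map_commutatorElement]
    exact hone _ hgk
  refine
    { hr := h.hr
      hs := h.hs
      hq := h.hq
      hrs := h.hrs
      hrq := h.hrq
      hqs := h.hqs
      hR := card_im_R hm h.hr h.hR h.hRS h.hRL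
      hP := im_pgroup h.hP
      hZP := im_mono h.hZP
      hPP := ?_
      hPs := ?_
      hZ := ?_
      hA := im_pgroup h.hA
      hAP := im_norm h.hAP
      hZA := ?_
      hRP := im_norm h.hRP
      hRZ := im_norm h.hRZ
      hRA := im_norm h.hRA
      hcomm := by rw [← im_comm h.hAS h.hRS, h.hcomm]
      hA3 := ?_
      hAq := ?_ }
  · rintro _ ⟨x, hx, rfl⟩ _ ⟨y, hy, rfl⟩
    rw [← map_commutatorElement]
    exact mem_im_of (h.hPP _ hx _ hy)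
  · rintro _ ⟨x, hx, rfl⟩
    rw [← map_pow]
    exact mem_im_of (h.hPs _ hx)
  · rintro _ ⟨x, hx, rfl⟩ _ ⟨y, hy, rfl⟩
    exact hcom _ _ (h.hZ _ hx _ hy)
  · rintro _ ⟨x, hx, rfl⟩ _ ⟨y, hy, rfl⟩
    exact hcom _ _ (h.hZA _ hx _ hy)
  · rintro _ ⟨a, ha, rfl⟩ _ ⟨b, hb, rfl⟩ _ ⟨c, hc, rfl⟩ _ ⟨x, hx, rfl⟩
    rw [← map_commutatorElement, ← map_commutatorElement]
    exact hcom _ _ (h.hA3 _ ha _ hb _ hc _ hx)
  · rintro _ ⟨a, ha, rfl⟩ _ ⟨b, hb, rfl⟩ _ ⟨x, hx, rfl⟩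
    rw [← map_pow, ← map_commutatorElement]
    exact hcom _ _ (h.hAq _ ha _ hb _ hx)

theorem not_dvd_of {r s : ℕ} (hr : r.Prime) (hs : s.Prime) (hrs : r ≠ s) {P : Subgroup Γ}
    (hP : IsPGroup s P) : ¬ r ∣ Nat.card P := cop_of_ne hr hs hrs hP

/-- the fixed points of `R` in the image -/
theorem im_cent (hm : Mod L ZL p f θ) (hr : r.Prime) (hR : IsPGroup r R)
    (hRS : R ≤ nn L ZL) {N : Subgroup Γ} (hNS : N ≤ nn L ZL) (hrN : ¬ r ∣ Nat.card N)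
    (hRN : R ≤ normalizer (N : Set Γ)) :
    im θ N ⊓ centralizer (im θ R : Set (MulAut M)) =
      im θ (N ⊓ centralizer (R : Set Γ)) := by
  apply le_antisymm
  · rintro x ⟨⟨g, hg, rfl⟩, hx⟩
    have hx' : θ g ∈ centralizer (im θ R : Set (MulAut M)) := hx
    obtain ⟨c, hc, hcR, hcg⟩ := hm.lift_cent hr hR hRS hNS hrN hRN hg
      (fun a ha => Subgroup.mem_centralizer_iff.mp hx' a ha)
    rw [← hcg]
    exact mem_im_of (g := c) ⟨hc, hcR⟩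
  · rintro _ ⟨g, hg, rfl⟩
    have h1 : θ g ∈ centralizer (im θ R : Set (MulAut M)) := by
      rw [Subgroup.mem_centralizer_iff]
      rintro _ ⟨a, ha, rfl⟩
      rw [← map_mul, ← map_mul]
      congr 1
      exact Subtype.ext (Subgroup.mem_centralizer_iff.mp hg.2 a ha)
    exact ⟨mem_im_of hg.1, h1⟩

theorem klG (h : GD L ZL P Z K A R r s q p) {Y : Subgroup Γ} (hY : IsPGroup q Y)
    (hYS : Y ≤ nn L ZL) (hYR : ∀ y ∈ Y, ∀ a ∈ R, y * a = a * y)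
    (hYP : Y ≤ normalizer (P : Set Γ)) (hZY : ∀ z ∈ Z, ∀ y ∈ Y, ⁅z, y⁆ ∈ K)
    (hAY : ∀ a ∈ A, ∀ y ∈ Y, ∀ x ∈ P, ⁅⁅a, y⁆, x⁆ ∈ K)
    (hne : ∃ d ∈ ⁅⁅P, A⁆ ⊓ centralizer (R : Set Γ), Y⁆, d ∉ K) :
    ∃ d ∈ ⁅⁅P, A⁆ ⊓ centralizer (R : Set Γ), Y⁆, Vis L ZL ⁅P, R⁆ R d := by
  have hpf : Fact p.Prime := ⟨h.hp⟩
  obtain ⟨M, i1, i2, f, θ, hm⟩ := exists_mod h.hZL h.hLL h.hLp
  have hLD := h.toLD hm
  have hRp : IsPGroup r R := isPGroup_of_card h.hr h.hR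
  have hrL := not_dvd_of h.hr h.hp h.hrp h.hL
  have hle : ⁅P, A⁆ ≤ P := Lib.CoprimeCommutator.commutator_le_left h.hAP
  have hD : im θ ⁅⁅P, A⁆ ⊓ centralizer (R : Set Γ), Y⁆ =
      ⁅⁅im θ P, im θ A⁆ ⊓ centralizer (im θ R : Set (MulAut M)), im θ Y⁆ := by
    rw [← im_comm h.hPS h.hAS, im_cent hm h.hr hRp h.hRS (hle.trans h.hPS)
      (not_dvd_of h.hr h.hs h.hrs (h.hP.to_le hle)) (le_normalizer_commutator h.hRP h.hRA),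
      ← im_comm ((inf_le_left.trans hle).trans h.hPS) hYS]
  have hDP : ⁅⁅P, A⁆ ⊓ centralizer (R : Set Γ), Y⁆ ≤ P := by
    refine (commutator_mono (inf_le_left.trans hle) le_rfl).trans ?_
    exact Lib.CoprimeCommutator.commutator_le_left hYP
  have hcom : ∀ g k : nn L ZL, ⁅(g : Γ), (k : Γ)⁆ ∈ K → θ g * θ k = θ k * θ g := by
    intro g k hgk
    rw [← commutatorElement_eq_one_iff_mul_comm, ← map_commutatorElement, hm.eq_one_iff]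
    exact (h.hK _ (h.hKP hgk)).mpr hgk
  obtain ⟨_, ⟨d, hd, rfl⟩, hdm⟩ := MLev.kl_M hm.exp hLD h.hsp h.hrp (im θ Y) (im_pgroup hY) (by
      rintro _ ⟨y, hy, rfl⟩ _ ⟨a, ha, rfl⟩
      rw [← map_mul, ← map_mul]
      congr 1
      exact Subtype.ext (hYR _ hy _ ha)) (im_norm hYP) (by
      rintro _ ⟨z, hz, rfl⟩ _ ⟨y, hy, rfl⟩
      exact hcom _ _ (hZY _ hz _ hy)) (by
      rintro _ ⟨a, ha, rfl⟩ _ ⟨y, hy, rfl⟩ _ ⟨x, hx, rfl⟩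
      rw [← map_commutatorElement]
      exact hcom _ _ (hAY _ ha _ hy _ hx)) hD (by
      obtain ⟨d, hd, hdK⟩ := hne
      refine ⟨θ ⟨d, h.hPS (hDP hd)⟩, mem_im_of (g := ⟨d, h.hPS (hDP hd)⟩) hd, fun h1 => hdK ?_⟩
      exact (h.hK d (hDP hd)).mp (hm.eq_one_iff.mp h1))
  refine ⟨d, hd, ?_⟩
  refine vis_of hm h.hr hRp hrL h.hRS
    ((Lib.CoprimeCommutator.commutator_le_left h.hRP).trans h.hPS)
    (Lib.CoprimeCommutator.right_le_normalizer_commutator P R) ?_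
  rwa [im_comm h.hPS h.hRS]

theorem kl0G (h : GD L ZL P Z K A R r s q p) (hPA : ⁅P, A⁆ = P)
    (hne : ∃ d ∈ P ⊓ centralizer (R : Set Γ), d ∉ K) :
    ∃ d ∈ P ⊓ centralizer (R : Set Γ), Vis L ZL ⁅P, R⁆ R d := by
  have hpf : Fact p.Prime := ⟨h.hp⟩
  obtain ⟨M, i1, i2, f, θ, hm⟩ := exists_mod h.hZL h.hLL h.hLp
  have hLD := h.toLD hm
  have hRp : IsPGroup r R := isPGroup_of_card h.hr h.hR
  have hrL := not_dvd_of h.hr h.hp h.hrp h.hL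
  have hce := im_cent hm h.hr hRp h.hRS h.hPS (not_dvd_of h.hr h.hs h.hrs h.hP) h.hRP
  obtain ⟨x, hx, hxm⟩ := MLev.kl0_M hm.exp hLD h.hsp h.hrp
    (by rw [← im_comm h.hPS h.hAS, hPA]) (by
      obtain ⟨d, hd, hdK⟩ := hne
      rw [hce]
      refine ⟨θ ⟨d, h.hPS hd.1⟩, mem_im_of (g := ⟨d, h.hPS hd.1⟩) hd, fun h1 => hdK ?_⟩
      exact (h.hK d hd.1).mp (hm.eq_one_iff.mp h1))
  rw [hce] at hx
  obtain ⟨d, hd, rfl⟩ := hx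
  refine ⟨d, hd, ?_⟩
  refine vis_of hm h.hr hRp hrL h.hRS
    ((Lib.CoprimeCommutator.commutator_le_left h.hRP).trans h.hPS)
    (Lib.CoprimeCommutator.right_le_normalizer_commutator P R) ?_
  rwa [im_comm h.hPS h.hRS]

theorem nvG (h : GD L ZL P Z K A R r s q p) (hPA : ⁅P, A⁆ = P) {x : Γ} (hx : x ∈ P)
    (hxR : x ∈ centralizer (R : Set Γ)) (hinv : ¬ Vis L ZL ⁅P, R⁆ R x) : ∀ y ∈ P, ⁅x, y⁆ ∈ K := by
  have hpf : Fact p.Prime := ⟨h.hp⟩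
  obtain ⟨M, i1, i2, f, θ, hm⟩ := exists_mod h.hZL h.hLL h.hLp
  have hLD := h.toLD hm
  have hRp : IsPGroup r R := isPGroup_of_card h.hr h.hR
  have hrL := not_dvd_of h.hr h.hp h.hrp h.hL
  have hce := im_cent hm h.hr hRp h.hRS h.hPS (not_dvd_of h.hr h.hs h.hrs h.hP) h.hRP
  have hx' : θ ⟨x, h.hPS hx⟩ ∈ im θ P ⊓ centralizer (im θ R : Set (MulAut M)) := by
    rw [hce]
    exact mem_im_of (g := ⟨x, h.hPS hx⟩) ⟨hx, hxR⟩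
  intro y hy
  have h1 := MLev.nv_M hm.exp hLD h.hsp h.hrp (by rw [← im_comm h.hPS h.hAS, hPA]) hx'.1
    hx'.2 (by
      intro m hmb hmR
      by_contra hne
      apply hinv
      refine vis_of hm h.hr hRp hrL h.hRS
        ((Lib.CoprimeCommutator.commutator_le_left h.hRP).trans h.hPS)
        (Lib.CoprimeCommutator.right_le_normalizer_commutator P R)
        (d := ⟨x, h.hPS hx⟩) ⟨m, ?_, hmR, hne⟩
      rwa [im_comm h.hPS h.hRS]) (θ ⟨y, h.hPS hy⟩) (mem_im_of (g := ⟨y, h.hPS hy⟩) hy)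
  rw [← map_commutatorElement, hm.eq_one_iff] at h1
  have hxy : ⁅x, y⁆ ∈ P := by
    rw [commutatorElement_def]
    exact P.mul_mem (P.mul_mem (P.mul_mem hx hy) (P.inv_mem hx)) (P.inv_mem hy)
  exact (h.hK _ hxy).mp h1

end Cfsg.Agent.H575.GLev
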