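import Cfsg.Agent.H575.Lev
import Cfsg.Agent.H575.ExtraFix
import Cfsg.Agent.H813.TurullHa

/-!
# The exceptional case
-/

set_option autoImplicit false
set_option linter.unusedSectionVars false

namespace Cfsg.Agent.H575.HA

open Module Subgroup Cfsg.Agent.H575.Dim Cfsg.Agent.H575.Weights Cfsg.Agent.H575.Sect
  Cfsg.Agent.H575.Tower Cfsg.Agent.H575.Fix Cfsg.Agent.H575.Lev Cfsg.Agent.H575.ExtraIrr
  Cfsg.Agent.H575.Mult
open scoped commutatorElement

section Arith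

theorem arith2 {d r s k o : ℕ} (hr : r.Prime) (hs : s.Prime) (hd : 2 ≤ d) (hk : d ^ 2 = s ^ k)
    (h1 : o * r = d ^ 2 + (r - 1)) (hle : d ≤ r - 1) :
    s = 2 ∧ ∃ m : ℕ, r = 2 ^ m + 1 ∧ d = 2 ^ m := by
  obtain ⟨t, rfl⟩ : ∃ t, r = t + 1 := ⟨r - 1, by have := hr.pos; omega⟩
  rw [Nat.add_sub_cancel] at h1 hle
  have h6 : (t + 1) ∣ (d - 1) * (d + 1) := by
    have h7 : (d - 1) * (d + 1) + (t + 1) = o * (t + 1) := by
      rw [h1]
      obtain ⟨e, rfl⟩ : ∃ e, d = e + 1 := ⟨d - 1, by omega⟩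
      rw [Nat.add_sub_cancel]
      ring
    have h8 : (t + 1) ∣ (d - 1) * (d + 1) + (t + 1) := by rw [h7]; exact dvd_mul_left _ _
    exact (Nat.dvd_add_left (dvd_refl _)).mp h8
  have h7 : d = t := by
    rcases (Nat.Prime.dvd_mul hr).mp h6 with h | h
    · have := Nat.le_of_dvd (by omega) h
      omega
    · have := Nat.le_of_dvd (by omega) h
      omega
  subst h7
  obtain ⟨m, -, hm⟩ : ∃ m ≤ k, d = s ^ m := (Nat.dvd_prime_pow hs).mp
    ((dvd_pow_self d (by norm_num)).trans hk.dvd)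
  rcases hs.eq_two_or_odd' with rfl | hodd
  · exact ⟨rfl, m, by rw [hm], hm⟩
  · exfalso
    have h8 : Odd d := by rw [hm]; exact hodd.pow
    have h9 : Even (d + 1) := h8.add_one
    have h10 := (Nat.Prime.even_iff hr).mp h9
    omega

end Arith

theorem map_commutatorElement' {G M : Type*} [Group G] [Monoid M] (f : G →* M) {x y : G}
    (hx : f x = 1) (hy : f y = 1) : f ⁅x, y⁆ = 1 := by
  have hx' : f x⁻¹ = 1 := by
    have := map_mul f x x⁻¹
    rw [mul_inv_cancel, map_one, hx, one_mul] at this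
    exact this.symm
  have hy' : f y⁻¹ = 1 := by
    have := map_mul f y y⁻¹
    rw [mul_inv_cancel, map_one, hy, one_mul] at this
    exact this.symm
  rw [commutatorElement_def, map_mul, map_mul, map_mul, hx, hy, hx', hy']
  simp

section RDfacts

variable {E : Type*} [Field E] [IsAlgClosed E] {G V : Type*} [Group G] [Finite G]
  [AddCommGroup V] [Module E V] [FiniteDimensional E V] {ρ : Representation E G V}
  {F R : Subgroup G} {r s : ℕ}

theorem two_le (h : RD ρ F R r s) : 2 ≤ finrank E V := by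
  have hntV := h.hirr.1
  have hpos : 0 < finrank E V := finrank_pos
  by_contra hlt
  have hd1 : finrank E V = 1 := by omega
  have hcard := h.card_eq
  rw [hd1, one_pow] at hcard
  have hall : ∀ f : F, f ∈ center F := by
    intro f
    have h4 : Subsingleton (F ⧸ center F) := (Nat.card_eq_one_iff_unique.mp hcard).1
    exact (QuotientGroup.eq_one_iff f).mp (Subsingleton.elim _ _)
  have hle : ⁅F, R⁆ ≤ ⊥ := by
    rw [Subgroup.commutator_le]
    intro f hf a ha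
    have h5 := congrArg Subtype.val (h.alpha_center ⟨a, ha⟩ (hall ⟨f, hf⟩))
    rw [alpha_coe] at h5
    have h6 : a * f * a⁻¹ = f := h5
    rw [Subgroup.mem_bot, commutatorElement_def]
    have h7 : f * a * f⁻¹ * a⁻¹ = f * (a * f * a⁻¹)⁻¹ := by group
    rw [h7, h6, mul_inv_cancel]
  rw [h.hcomm, le_bot_iff] at hle
  have h8 := h.hZ
  have h9 : Nat.card (center F) = 1 := by
    have h10 := Subgroup.card_le_card_group (center F)
    have h11 : Nat.card F = 1 := by rw [hle]; exact Subgroup.card_bot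
    rw [h11] at h10
    exact le_antisymm h10 Nat.card_pos
  rw [h9] at h8
  exact h.hs.one_lt.ne h8

theorem exists_pow (h : RD ρ F R r s) : ∃ k, finrank E V ^ 2 = s ^ k := by
  have hsp : Fact s.Prime := ⟨h.hs⟩
  rw [← h.card_eq]
  obtain ⟨n, hn⟩ := h.hF.exists_card_eq
  have h4 : Nat.card (F ⧸ center F) ∣ s ^ n := by
    rw [← hn]
    exact Subgroup.card_quotient_dvd_card _
  obtain ⟨k, -, hk⟩ := (Nat.dvd_prime_pow h.hs).mp h4
  exact ⟨k, hk⟩

/-- no fixed points: the exceptional parameters -/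
theorem rd_exceptional (h : RD ρ F R r s) (hfix : fix ρ R = ⊥) :
    s = 2 ∧ ∃ m : ℕ, r = 2 ^ m + 1 ∧ finrank E V = 2 ^ m := by
  have h1 := (mult h).1
  rw [hfix, finrank_bot, mul_zero, zero_add] at h1
  obtain ⟨k, hk⟩ := exists_pow h
  have h2 := h.card_orbits
  rw [h.card_eq] at h2
  exact arith2 h.hr h.hs (two_le h) hk h2 h1

end RDfacts

section Beta

variable {E : Type*} [Field E] {G : Type*} [Group G] [Finite G]

theorem mu_pow {Z : Subgroup G} {μ : G → E} (h1 : μ 1 = 1)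
    (h2 : ∀ a ∈ Z, ∀ b ∈ Z, μ (a * b) = μ a * μ b) {z : G} (hz : z ∈ Z) (n : ℕ) :
    μ (z ^ n) = μ z ^ n := by
  induction n with
  | zero => rw [pow_zero, pow_zero, h1]
  | succ n ih => rw [pow_succ, h2 _ (Z.pow_mem hz n) _ hz, ih, pow_succ]

theorem mu_comm_one {P Z : Subgroup G} (hPP : ∀ x ∈ P, ∀ y ∈ P, ⁅x, y⁆ ∈ Z)
    {μ : G → E} (h1 : μ 1 = 1)
    (h2 : ∀ a ∈ Z, ∀ b ∈ Z, μ (a * b) = μ a * μ b) {x y : G} (hx : x ∈ P) (hy : y ∈ P)
    (h : μ ⁅x, y⁆ = 1) : μ ⁅y, x⁆ = 1 := by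
  have h3 := h2 _ (hPP x hx y hy) _ (hPP y hy x hx)
  rw [← commutatorElement_inv x y, mul_inv_cancel, h1, h, one_mul] at h3
  rw [← commutatorElement_inv x y]
  exact h3.symm

theorem ndg_beta {P Z : Subgroup G} (hPP : ∀ x ∈ P, ∀ y ∈ P, ⁅x, y⁆ ∈ Z)
    (hZ : ∀ z ∈ Z, ∀ x ∈ P, z * x = x * z) {s : ℕ} (hPs : ∀ x ∈ P, x ^ s ∈ Z)
    {μ : G → E} (h1 : μ 1 = 1)
    (h2 : ∀ a ∈ Z, ∀ b ∈ Z, μ (a * b) = μ a * μ b) {C S : Subgroup G} (hCP : C ≤ P)
    (hS : S ≤ normalizer (C : Set G)) (hSμ : ∀ g ∈ S, ∀ z ∈ Z, μ (g * z * g⁻¹) = μ z)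
    (hcop : (Nat.card S).Coprime s) {d : G} (hd : d ∈ ⁅C, S⁆)
    (hdd : ∀ d' ∈ ⁅C, S⁆, μ ⁅d, d'⁆ = 1) : ∀ c ∈ C, μ ⁅d, c⁆ = 1 := by
  refine ndg (β := fun x y => μ ⁅x, y⁆) (n := s) hS ?_ ?_ ?_ ?_ ?_ hcop hd hdd
  · intro x hx x' hx' y hy
    show μ ⁅x * x', y⁆ = μ ⁅x, y⁆ * μ ⁅x', y⁆
    rw [comm_mul_left hPP hZ (hCP hx) (hCP hx') (hCP hy), h2 _ (hPP _ (hCP hx) _ (hCP hy)) _
      (hPP _ (hCP hx') _ (hCP hy))]
  · intro x hx y hy y' hy'
    show μ ⁅x, y * y'⁆ = μ ⁅x, y⁆ * μ ⁅x, y'⁆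
    rw [comm_mul_right hPP hZ (hCP hx) (hCP hy) (hCP hy'), h2 _ (hPP _ (hCP hx) _ (hCP hy)) _
      (hPP _ (hCP hx) _ (hCP hy'))]
  · intro y _
    show μ ⁅1, y⁆ = 1
    rw [commutatorElement_one_left, h1]
  · intro g hg x hx y hy
    show μ ⁅g * x * g⁻¹, g * y * g⁻¹⁆ = μ ⁅x, y⁆
    have h3 : ⁅g * x * g⁻¹, g * y * g⁻¹⁆ = g * ⁅x, y⁆ * g⁻¹ := by
      simp only [commutatorElement_def]
      group
    rw [h3, hSμ g hg _ (hPP _ (hCP hx) _ (hCP hy))]
  · intro x hx y hy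
    show μ ⁅x, y⁆ ^ s = 1
    rw [← mu_pow h1 h2 (hPP _ (hCP hx) _ (hCP hy)), comm_pow hPP hZ (hCP hx) (hCP hy),
      commutatorElement_eq_one_iff_mul_comm.mpr (hZ _ (hPs x (hCP hx)) y (hCP hy)), h1]

end Beta

section HA

variable {E : Type*} [Field E] [IsAlgClosed E] {G V : Type*} [Group G] [Finite G]
  [AddCommGroup V] [Module E V] [FiniteDimensional E V] {P Z A R : Subgroup G} {r s q : ℕ}

theorem cop_of_ne {p q : ℕ} (hp : p.Prime) (hq : q.Prime) (hpq : p ≠ q) {A : Subgroup G}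
    (hA : IsPGroup q A) : ¬ p ∣ Nat.card A := by
  have : Fact q.Prime := ⟨hq⟩
  obtain ⟨k, hk⟩ := hA.exists_card_eq
  rw [hk]
  intro h
  exact hpq ((Nat.prime_dvd_prime_iff_eq hp hq).mp (hp.dvd_of_dvd_pow h))

theorem cop_card {p q : ℕ} (hp : p.Prime) (hq : q.Prime) (hpq : p ≠ q) {A P : Subgroup G}
    (hA : IsPGroup q A) (hP : IsPGroup p P) : (Nat.card A).Coprime (Nat.card P) := by
  have : Fact q.Prime := ⟨hq⟩
  have : Fact p.Prime := ⟨hp⟩
  obtain ⟨k, hk⟩ := hA.exists_card_eq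
  obtain ⟨l, hl⟩ := hP.exists_card_eq
  rw [hk, hl]
  exact Nat.Coprime.pow _ _ ((Nat.coprime_primes hq hp).mpr hpq.symm)

theorem isPGroup_R (h : LD P Z A R r s q) : IsPGroup r R := by
  have : Fact r.Prime := ⟨h.hr⟩
  exact IsPGroup.of_card (n := 1) (by rw [h.hR, pow_one])

theorem index_subgroupOf_sup {B R : Subgroup G} (hRB : R ≤ normalizer (B : Set G))
    (hcop : (Nat.card R).Coprime (Nat.card B)) :
    (B.subgroupOf (B ⊔ R)).index = Nat.card R ∧ Nat.card (R.subgroupOf (B ⊔ R)) = Nat.card R ∧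
      (B.subgroupOf (B ⊔ R)).Normal ∧ B.subgroupOf (B ⊔ R) ⊔ R.subgroupOf (B ⊔ R) = ⊤ := by
  have hn : (B.subgroupOf (B ⊔ R)).Normal := by
    rw [Subgroup.normal_subgroupOf_iff_le_normalizer le_sup_left]
    exact sup_le Subgroup.le_normalizer hRB
  have hFR : B.subgroupOf (B ⊔ R) ⊔ R.subgroupOf (B ⊔ R) = ⊤ := by
    rw [← Subgroup.subgroupOf_sup le_sup_left le_sup_right, Subgroup.subgroupOf_self]
  have hcB : Nat.card (B.subgroupOf (B ⊔ R)) = Nat.card B :=
    Nat.card_congr (Subgroup.subgroupOfEquivOfLe le_sup_left).toEquiv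
  have hcR : Nat.card (R.subgroupOf (B ⊔ R)) = Nat.card R :=
    Nat.card_congr (Subgroup.subgroupOfEquivOfLe le_sup_right).toEquiv
  have hcomp : Subgroup.IsComplement' (B.subgroupOf (B ⊔ R)) (R.subgroupOf (B ⊔ R)) := by
    refine Subgroup.isComplement'_of_disjoint_and_mul_eq_univ
      (Subgroup.disjoint_of_coprime_natCard (by rw [hcB, hcR]; exact hcop.symm)) ?_
    rw [← Subgroup.normal_mul, hFR, Subgroup.coe_top]
  exact ⟨by rw [hcomp.symm.index_eq_card, hcR], hcR, hn, hFR⟩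

theorem card_ne_zero_of_pgroup {s : ℕ} (hs : s.Prime) {B : Subgroup G} (hB : IsPGroup s B)
    (hsE : (s : E) ≠ 0) : (Nat.card B : E) ≠ 0 := by
  have : Fact s.Prime := ⟨hs⟩
  obtain ⟨k, hk⟩ := hB.exists_card_eq
  rw [hk, Nat.cast_pow]
  exact pow_ne_zero _ hsE

theorem card_sup_ne_zero {r s : ℕ} (hs : s.Prime) {B R : Subgroup G} (hB : IsPGroup s B)
    (hR : Nat.card R = r) (hsE : (s : E) ≠ 0) (hrE : (r : E) ≠ 0)
    (hRB : R ≤ normalizer (B : Set G)) (hcop : (Nat.card R).Coprime (Nat.card B)) :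
    (Nat.card ↥(B ⊔ R) : E) ≠ 0 := by
  obtain ⟨h1, h2, h3, h4⟩ := index_subgroupOf_sup hRB hcop
  rw [← (B.subgroupOf (B ⊔ R)).card_mul_index, h1, hR, Nat.cast_mul]
  refine mul_ne_zero ?_ hrE
  rw [Nat.card_congr (Subgroup.subgroupOfEquivOfLe (le_sup_left : B ≤ B ⊔ R)).toEquiv]
  exact card_ne_zero_of_pgroup hs hB hsE

theorem commutator_subgroupOf {A B K : Subgroup G} (hA : A ≤ K) (hB : B ≤ K) :
    ⁅A.subgroupOf K, B.subgroupOf K⁆ = (⁅A, B⁆).subgroupOf K := by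
  apply Subgroup.map_injective K.subtype_injective
  have hle : ⁅A, B⁆ ≤ K := (commutator_mono hA hB).trans (by
    rw [commutator_le]
    intro x hx y hy
    rw [commutatorElement_def]
    exact K.mul_mem (K.mul_mem (K.mul_mem hx hy) (K.inv_mem hx)) (K.inv_mem hy))
  rw [Subgroup.map_commutator, Subgroup.subgroupOf_map_subtype, Subgroup.subgroupOf_map_subtype,
    Subgroup.subgroupOf_map_subtype, inf_of_le_left hA, inf_of_le_left hB, inf_of_le_left hle]

theorem subgroupOf_le_normalizer' {A B H : Subgroup G}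
    (hAB : A ≤ normalizer (B : Set G)) :
    A.subgroupOf H ≤ normalizer (B.subgroupOf H : Set H) := by
  refine le_norm fun a ha b hb => ?_
  exact Sect.conj_mem hAB ha hb

/-- the parameters of the exceptional case -/
theorem exc_bound {P Z R : Subgroup G} {r s : ℕ} (hr : r.Prime) (hs : s.Prime) (hrs : r ≠ s)
    (hR : Nat.card R = r) (hP : IsPGroup s P) (hPP : ∀ x ∈ P, ∀ y ∈ P, ⁅x, y⁆ ∈ Z)
    (hPs : ∀ x ∈ P, x ^ s ∈ Z) (hZ : ∀ z ∈ Z, ∀ x ∈ P, z * x = x * z)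
    (π : Representation E G V) [Nontrivial V]
    (hsE : (s : E) ≠ 0) (hrE : (r : E) ≠ 0) (μ : G → E) (hμ : ∀ z ∈ Z, ∀ v, π z v = μ z • v)
    {B : Subgroup G} (hBP : B ≤ P) (hRB : R ≤ normalizer (B : Set G)) (hBR : ⁅B, R⁆ = B)
    (hBB : ∃ b ∈ B, ∃ b' ∈ B, μ ⁅b, b'⁆ ≠ 1) (hcon : ∀ v : V, (∀ a ∈ R, π a v = v) → v = 0)
    (N : Subgroup G) (hN : ∀ x ∈ B, (∀ y ∈ B, μ ⁅y, x⁆ = 1) → x ∈ N) :
    s = 2 ∧ ∃ m : ℕ, r = 2 ^ m + 1 ∧ N.relIndex B ≤ (2 ^ m) ^ 2 := by
  have hsp : Fact s.Prime := ⟨hs⟩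
  have hrp : Fact r.Prime := ⟨hr⟩
  have hBs : IsPGroup s B := hP.to_le hBP
  have hRs : IsPGroup r R := IsPGroup.of_card (n := 1) (by rw [hR, pow_one])
  have hcop : (Nat.card R).Coprime (Nat.card B) := cop_card hs hr hrs.symm hRs hBs
  obtain ⟨hidx, hcR, hFn, hFR⟩ := index_subgroupOf_sup hRB hcop
  have hKE := card_sup_ne_zero (E := E) hs hBs hR hsE hrE hRB hcop
  set K : Subgroup G := B ⊔ R with hK
  obtain ⟨U, hU, hirr⟩ := ExtraFix.exists_irr (π.comp K.subtype)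
  set ρ := sub (π.comp K.subtype) (MonoidHom.id K) U hU with hρ
  have hρc : ∀ (g : K) (u : U), ((ρ g u : U) : V) = π g u := fun g u => rfl
  set F : Subgroup K := B.subgroupOf K with hF
  set R' : Subgroup K := R.subgroupOf K with hR'
  have hBK : B ≤ K := le_sup_left
  have hRK : R ≤ K := le_sup_right
  have hnofix : ∀ u : U, (∀ a ∈ R', ρ a u = u) → u = 0 := by
    intro u hu
    apply Subtype.ext
    refine hcon u fun a ha => ?_
    exact congrArg Subtype.val (hu ⟨a, hRK ha⟩ ha)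
  have hFirr : Irr (ρ.comp F.subtype) := by
    by_contra hred
    obtain ⟨v, hv, hfix⟩ := ExtraMod.exists_fixed_of_not_irr hKE ρ hirr F R'
      (by rw [hidx, hR]; exact hr) (by rw [hidx, hcR]) hFR hred
    exact hv (hnofix v hfix)
  have hnt := hirr.1
  have hRD : RD (imgRep ρ) (F.map (toImg ρ)) (R'.map (toImg ρ)) r s := by
    refine rd_img hr hs hrs (by rw [hcR, hR]) (hBs.comap_of_injective _ K.subtype_injective)
      (subgroupOf_le_normalizer' hRB) ?_ ?_ ?_ hrE hsE hFirr ?_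
    · rw [hF, hR', commutator_subgroupOf hBK hRK, hBR]
    · intro x hx y hy z hz
      have h1 : ⁅⁅x, y⁆, z⁆ = 1 := by
        apply Subtype.ext
        exact commutatorElement_eq_one_iff_mul_comm.mpr
          (hZ _ (hPP _ (hBP hx) _ (hBP hy)) _ (hBP hz))
      rw [h1, map_one]
    · intro x hx y hy
      have h1 : ⁅x ^ s, y⁆ = 1 := by
        apply Subtype.ext
        exact commutatorElement_eq_one_iff_mul_comm.mpr (hZ _ (hPs _ (hBP hx)) _ (hBP hy))
      rw [h1, map_one]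
    · by_contra hc
      push Not at hc
      obtain ⟨b, hb, b', hb', hbb⟩ := hBB
      apply hbb
      obtain ⟨u, hu⟩ := exists_ne (0 : U)
      have hu' : (u : V) ≠ 0 := fun h => hu (Subtype.ext h)
      have h1 : ρ ⁅(⟨b, hBK hb⟩ : K), (⟨b', hBK hb'⟩ : K)⁆ = 1 := by
        rw [map_commutatorElement' ρ (hc ⟨b, hBK hb⟩ hb) (hc ⟨b', hBK hb'⟩ hb')]
      have h2 : π ⁅b, b'⁆ (u : V) = u := by
        have := congrArg Subtype.val (LinearMap.congr_fun h1 u)
        exact this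
      rw [hμ _ (hPP _ (hBP hb) _ (hBP hb'))] at h2
      have h3 : (μ ⁅b, b'⁆ - 1) • (u : V) = 0 := by rw [sub_smul, one_smul, h2, sub_self]
      exact sub_eq_zero.mp ((smul_eq_zero.mp h3).resolve_right hu')
  have hfixbot : fix (imgRep ρ) (R'.map (toImg ρ)) = ⊥ := by
    rw [eq_bot_iff]
    intro u hu
    rw [Submodule.mem_bot]
    exact hnofix u fun a ha => hu (toImg ρ a) ⟨a, ha, rfl⟩
  obtain ⟨hs2, m, hm, hdim⟩ := rd_exceptional hRD hfixbot
  refine ⟨hs2, m, hm, ?_⟩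
  rw [← hdim]
  have h1 := ExtraSq.relIndex_le_sq ρ F (N.subgroupOf K) (fun x y => μ ⁅(x : G), (y : G)⁆) (by
    intro x hx y hy u
    apply Subtype.ext
    show π ((⁅x, y⁆ : K) : G) (u : V) = μ ⁅(x : G), (y : G)⁆ • (u : V)
    exact hμ _ (hPP _ (hBP hx) _ (hBP hy)) u) (by
    intro x hx hxy
    exact hN x hx fun y hy => hxy ⟨y, hBK hy⟩ hy)
  rwa [hF, Subgroup.relIndex_subgroupOf hBK] at h1

/-- the group `A` acting on `[P, A]` modulo the radical -/
theorem y_part (h : LD P Z A R r s q) (hs2 : s = 2) {m : ℕ} (hm : r = 2 ^ m + 1)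
    {N : Subgroup G} (hZN : Z ≤ N) (hNP : N ≤ P) (hAN : A ≤ normalizer (N : Set G))
    (hRN : R ≤ normalizer (N : Set G)) (hPN : P ≤ normalizer (N : Set G))
    (hidx : N.relIndex ⁅P, R⁆ ≤ (2 ^ m) ^ 2) {d : ℕ} (hsq : N.relIndex ⁅P, A⁆ = d ^ 2)
    (hne : ¬ ⁅P, A⁆ ≤ N) : False := by
  classical
  have hsp : Fact s.Prime := ⟨h.hs⟩
  have hrp : Fact r.Prime := ⟨h.hr⟩
  have hqp : Fact q.Prime := ⟨h.hq⟩
  have h2p : Fact (Nat.Prime 2) := ⟨Nat.prime_two⟩
  have hRs : IsPGroup r R := isPGroup_R h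
  have hcopA : (Nat.card A).Coprime (Nat.card P) := cop_card h.hs h.hq h.hqs.symm h.hA h.hP
  set L := ⁅P, A⁆ with hL
  have hLP : L ≤ P := Lib.CoprimeCommutator.commutator_le_left h.hAP
  have hAL : A ≤ normalizer (L : Set G) :=
    Lib.CoprimeCommutator.right_le_normalizer_commutator P A
  have hLA : ⁅L, A⁆ = L := Lib.CoprimeCommutator.commutator_commutator_eq A P h.hAP hcopA
  have hRL : R ≤ normalizer (L : Set G) := le_normalizer_commutator h.hRP h.hRA
  have hNn : (N.subgroupOf L).Normal := Subgroup.normal_subgroupOf_of_le_normalizer (hLP.trans hPN)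
  let Y := L ⧸ N.subgroupOf L
  let instY : CommGroup Y := { (inferInstance : Group Y) with
    mul_comm := by
      intro x y
      induction x using QuotientGroup.induction_on with | H x => ?_
      induction y using QuotientGroup.induction_on with | H y => ?_
      change ((x * y : L) : L ⧸ N.subgroupOf L) = ((y * x : L) : L ⧸ N.subgroupOf L)
      rw [QuotientGroup.eq]
      show ((x * y)⁻¹ * (y * x) : L) ∈ N.subgroupOf L
      rw [Subgroup.mem_subgroupOf]
      have h1 : (((x * y)⁻¹ * (y * x) : L) : G) = ⁅(y : G)⁻¹, (x : G)⁻¹⁆ := by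
        simp only [commutatorElement_def, Subgroup.coe_mul, Subgroup.coe_inv]
        group
      rw [h1]
      exact hZN (h.hPP _ (P.inv_mem (hLP y.2)) _ (P.inv_mem (hLP x.2))) }
  have hexp : ∀ y : Y, y ^ 2 = 1 := by
    intro y
    induction y using QuotientGroup.induction_on with | H x => ?_
    rw [← QuotientGroup.mk_pow, QuotientGroup.eq_one_iff, Subgroup.mem_subgroupOf,
      Subgroup.coe_pow, ← hs2]
    exact hZN (h.hPs _ (hLP x.2))
  have instM : Module (ZMod 2) (Additive Y) := AddCommGroup.zmodModule (n := 2) (by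
    intro x
    exact congrArg Additive.ofMul (hexp x.toMul))
  have hfin : Finite Y := inferInstance
  have hfd : FiniteDimensional (ZMod 2) (Additive Y) := inferInstance
  set K : Subgroup G := A ⊔ R with hK
  have hKL : K ≤ normalizer (L : Set G) := sup_le hAL hRL
  have hKN : K ≤ normalizer (N : Set G) := sup_le hAN hRN
  let ρ : Representation (ZMod 2) K (Additive Y) :=
    OddOrderLocal.FrobAct.toRep 2 (secAct K L N hKL hKN)
  have hρ : ∀ (g : K) (x : L), ρ g (Additive.ofMul (QuotientGroup.mk x : Y)) =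
      Additive.ofMul (QuotientGroup.mk (⟨g * x * (g : G)⁻¹, Sect.conj_mem hKL g.2 x.2⟩ : L) : Y) :=
    fun g x => rfl
  have hmk : ∀ y : Additive Y, ∃ x : L, y = Additive.ofMul (QuotientGroup.mk x : Y) := by
    intro y
    obtain ⟨x, hx⟩ := QuotientGroup.mk_surjective y.toMul
    exact ⟨x, (congrArg Additive.ofMul hx).symm⟩
  have hmk0 : ∀ x : L, Additive.ofMul (QuotientGroup.mk x : Y) = 0 ↔ (x : G) ∈ N := by
    intro x
    have h1 : Additive.ofMul (QuotientGroup.mk x : Y) = 0 ↔ (QuotientGroup.mk x : Y) = 1 := Iff.rfl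
    rw [h1, QuotientGroup.eq_one_iff, Subgroup.mem_subgroupOf]
  have hnt : Nontrivial (Additive Y) := by
    obtain ⟨x, hx, hxN⟩ := SetLike.not_le_iff_exists.mp hne
    exact ⟨⟨Additive.ofMul (QuotientGroup.mk (⟨x, hx⟩ : L) : Y), 0, fun h0 => hxN ((hmk0 _).mp h0)⟩⟩
  have hAK : A ≤ K := le_sup_left
  have hRK : R ≤ K := le_sup_right
  have hq2 : q ≠ 2 := by rw [← hs2]; exact h.hqs
  have hr2 : r ≠ 2 := by rw [← hs2]; exact h.hrs
  have hcast : ∀ n : ℕ, n.Prime → n ≠ 2 → (n : ZMod 2) ≠ 0 := by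
    intro n hn hn2 h0
    rw [ZMod.natCast_eq_zero_iff] at h0
    exact hn2 ((Nat.prime_dvd_prime_iff_eq Nat.prime_two hn).mp h0).symm
  have hcardY : Nat.card Y = 2 ^ finrank (ZMod 2) (Additive Y) := by
    have := Module.natCard_eq_pow_finrank (K := ZMod 2) (V := Additive Y)
    rw [Nat.card_zmod] at this
    exact this
  have hcardY' : Nat.card Y = N.relIndex L := rfl
  have heven : Even (finrank (ZMod 2) (Additive Y)) := by
    have h1 : 2 ^ finrank (ZMod 2) (Additive Y) = d ^ 2 := by rw [← hcardY, hcardY', hsq]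
    obtain ⟨k, -, hk⟩ := (Nat.dvd_prime_pow Nat.prime_two).mp
      ((dvd_pow_self d (by norm_num)).trans h1.symm.dvd)
    rw [hk, ← pow_mul] at h1
    have h2 := Nat.pow_right_injective le_rfl h1
    exact ⟨k, by omega⟩
  have hconj : ∀ (g : K) (x : L), ρ g (Additive.ofMul (QuotientGroup.mk x : Y)) =
      Additive.ofMul (QuotientGroup.mk x : Y) ↔ (x : G)⁻¹ * (g * x * (g : G)⁻¹) ∈ N := by
    intro g x
    rw [hρ]
    constructor
    · intro h0
      have h1 := QuotientGroup.eq.mp (Additive.ofMul.injective h0).symm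
      exact h1
    · intro h0
      refine congrArg Additive.ofMul (QuotientGroup.eq.mpr ?_).symm
      exact h0
  have hcent : L ⊓ centralizer (A : Set G) ≤ Z := by
    have hcopAL : (Nat.card A).Coprime (Nat.card L) :=
      Nat.Coprime.coprime_dvd_right (Subgroup.card_dvd_of_le hLP) hcopA
    have h1 : ⁅L, L⁆ ≤ Z := by
      rw [commutator_le]
      exact fun x hx y hy => h.hPP x (hLP hx) y (hLP hy)
    exact cent_le_gen hcopAL h1 hAL hLA
  have hqN : ¬ q ∣ Nat.card ↥(N ⊓ L) := fun h0 =>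
    cop_of_ne h.hq h.hs h.hqs h.hP (h0.trans (Subgroup.card_dvd_of_le (inf_le_left.trans hNP)))
  have hC : fix ρ (A.subgroupOf K) = ⊥ := by
    rw [eq_bot_iff]
    intro y hy
    obtain ⟨x, rfl⟩ := hmk y
    rw [Submodule.mem_bot, hmk0]
    have h1 : ∀ a ∈ A, (x : G)⁻¹ * (a * x * a⁻¹) ∈ N ⊓ L := by
      intro a ha
      refine ⟨(hconj ⟨a, hAK ha⟩ x).mp (hy ⟨a, hAK ha⟩ ha), ?_⟩
      exact L.mul_mem (L.inv_mem x.2) (Sect.conj_mem hAL ha x.2)
    obtain ⟨c, hc, hxc⟩ := exists_cent_coset h.hq h.hA (le_normalizer_inf hAN hAL) hqN h1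
    have h2 : c ∈ L := by
      have : c = x * ((x : G)⁻¹ * c) := by group
      rw [this]
      exact L.mul_mem x.2 hxc.2
    have h3 : c ∈ N := hZN (hcent ⟨h2, hc⟩)
    have h4 : (x : G) = c * ((x : G)⁻¹ * c)⁻¹ := by group
    rw [h4]
    exact N.mul_mem h3 (N.inv_mem hxc.1)
  -- the fixed points of `R`
  have hntR : Nontrivial R := Finite.one_lt_card_iff_nontrivial.mp (by rw [h.hR]; exact h.hr.one_lt)
  obtain ⟨a0, ha0⟩ := exists_ne (1 : R)
  have hgen : ∀ a ∈ R, ∃ n : ℕ, (a0 : G) ^ n = a := by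
    intro a ha
    have hp : Fact (Nat.card R).Prime := ⟨h.hR ▸ h.hr⟩
    have h8 : (⟨a, ha⟩ : R) ∈ Subgroup.zpowers a0 := mem_zpowers_of_prime_card rfl ha0
    rw [← mem_powers_iff_mem_zpowers] at h8
    obtain ⟨n, hn⟩ := h8
    exact ⟨n, by have := congrArg Subtype.val hn; rwa [Subgroup.coe_pow] at this⟩
  let T : Additive Y →ₗ[ZMod 2] Additive Y := LinearMap.id - ρ ⟨a0, hRK a0.2⟩
  have hT : ∀ v, T v = v - ρ ⟨a0, hRK a0.2⟩ v := fun v => rfl
  have hker : LinearMap.ker T = fix ρ (R.subgroupOf K) := by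
    ext v
    rw [LinearMap.mem_ker, hT, sub_eq_zero, mem_fix]
    constructor
    · intro hv a ha
      obtain ⟨n, hn⟩ := hgen a ha
      have h1 : a = (⟨a0, hRK a0.2⟩ : K) ^ n := Subtype.ext hn.symm
      rw [h1]
      clear h1 hn
      induction n with
      | zero => rw [pow_zero, map_one]; rfl
      | succ n ih => rw [pow_succ, mul_apply', ← hv, ih]
    · intro hv
      exact (hv ⟨a0, hRK a0.2⟩ a0.2).symm
  have hrn := LinearMap.finrank_range_add_finrank_ker T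
  rw [hker] at hrn
  have hrange : finrank (ZMod 2) (LinearMap.range T) ≤ 2 * m := by
    have h1 : Nat.card (LinearMap.range T) = 2 ^ finrank (ZMod 2) (LinearMap.range T) := by
      have := Module.natCard_eq_pow_finrank (K := ZMod 2) (V := LinearMap.range T)
      rw [Nat.card_zmod] at this
      exact this
    have h2 : Nat.card (LinearMap.range T) ≤ N.relIndex ⁅P, R⁆ := by
      -- the image consists of the classes of elements of `[P, R]`
      have h3 : ∀ v : LinearMap.range T, ∃ b : (⁅P, R⁆ : Subgroup G), ∃ hb : (b : G) ∈ L,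
          (v : Additive Y) = Additive.ofMul (QuotientGroup.mk (⟨b, hb⟩ : L) : Y) := by
        rintro ⟨_, w, rfl⟩
        obtain ⟨x, rfl⟩ := hmk w
        refine ⟨⟨⁅(x : G), (a0 : G)⁆, commutator_mem_commutator (hLP x.2) a0.2⟩, ?_, ?_⟩
        · have h4 : ⁅(x : G), (a0 : G)⁆ = x * ((a0 : G) * (x : G)⁻¹ * (a0 : G)⁻¹) := by
            rw [commutatorElement_def]
            group
          show ⁅(x : G), (a0 : G)⁆ ∈ L
          rw [h4]
          exact L.mul_mem x.2 (Sect.conj_mem hRL a0.2 (L.inv_mem x.2))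
        · show T (Additive.ofMul (QuotientGroup.mk x : Y)) = _
          rw [hT, hρ]
          have h5 : ∀ u w : L, Additive.ofMul (QuotientGroup.mk u : Y) -
              Additive.ofMul (QuotientGroup.mk w : Y) =
              Additive.ofMul (QuotientGroup.mk (u * w⁻¹) : Y) := by
            intro u w
            rw [QuotientGroup.mk_mul, QuotientGroup.mk_inv, ofMul_mul, ofMul_inv, sub_eq_add_neg]
          refine (h5 _ _).trans ?_
          congr 2
          apply Subtype.ext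
          show (x : G) * ((a0 : G) * (x : G) * (a0 : G)⁻¹)⁻¹ = ⁅(x : G), (a0 : G)⁆
          rw [commutatorElement_def]
          group
      choose b hbL hb using h3
      let f : LinearMap.range T → (⁅P, R⁆ : Subgroup G) ⧸ N.subgroupOf ⁅P, R⁆ :=
        fun v => QuotientGroup.mk (b v)
      have hf : Function.Injective f := by
        intro v w hvw
        have h4 := QuotientGroup.eq.mp hvw
        apply Subtype.ext
        rw [hb v, hb w]
        refine congrArg Additive.ofMul (QuotientGroup.eq.mpr ?_)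
        exact h4
      have h5 := Nat.card_le_card_of_injective f hf
      exact h5
    have h4 : 2 ^ finrank (ZMod 2) (LinearMap.range T) ≤ 2 ^ (2 * m) := by
      rw [← h1]
      refine h2.trans (hidx.trans ?_)
      rw [← pow_mul, mul_comm]
    exact (Nat.pow_le_pow_iff_right (by norm_num)).mp h4
  refine H813.TurullHa.ha_core ρ (A.subgroupOf K) (R.subgroupOf K) (r := r) (q := q) (m := m) h.hr hm ?_ h.hq
    hq2 h.hrq (h.hA.comap_of_injective _ K.subtype_injective) (subgroupOf_le_normalizer' h.hRA)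
    ?_ ?_ ?_ (hcast r h.hr hr2) (hcast q h.hq hq2) hC heven (by omega)
  · rw [Nat.card_congr (Subgroup.subgroupOfEquivOfLe hRK).toEquiv, h.hR]
  · rw [commutator_subgroupOf hAK hRK, h.hcomm]
  · intro x hx y hy z hz
    apply LinearMap.ext
    intro v
    obtain ⟨w, rfl⟩ := hmk v
    rw [Module.End.one_apply, hconj]
    have h1 := h.hA3 x hx y hy z hz w (hLP w.2)
    have h2 : (w : G)⁻¹ * (((⁅⁅x, y⁆, z⁆ : K) : G) * w * ((⁅⁅x, y⁆, z⁆ : K) : G)⁻¹) = 1 := by
      have h3 : ((⁅⁅x, y⁆, z⁆ : K) : G) = ⁅⁅(x : G), (y : G)⁆, (z : G)⁆ := rfl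
      rw [h3, h1]
      group
    rw [h2]
    exact N.one_mem
  · intro x hx y hy
    apply LinearMap.ext
    intro v
    obtain ⟨w, rfl⟩ := hmk v
    rw [Module.End.one_apply, hconj]
    have h1 := h.hAq x hx y hy w (hLP w.2)
    have h2 : (w : G)⁻¹ * (((⁅x ^ q, y⁆ : K) : G) * w * ((⁅x ^ q, y⁆ : K) : G)⁻¹) = 1 := by
      have h3 : ((⁅x ^ q, y⁆ : K) : G) = ⁅(x : G) ^ q, (y : G)⁆ := rfl
      rw [h3, h1]
      group
    rw [h2]
    exact N.one_mem

/-- **The exceptional case does not occur**, when the central subgroup acts by scalars. -/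
theorem ha_scalar (h : LD P Z A R r s q) (π : Representation E G V) [Nontrivial V]
    (hsE : (s : E) ≠ 0) (hrE : (r : E) ≠ 0) (μ : G → E) (hμ : ∀ z ∈ Z, ∀ v, π z v = μ z • v)
    (hne : ∃ x ∈ ⁅P, A⁆, ∃ y ∈ P, μ ⁅x, y⁆ ≠ 1) : ∃ v : V, v ≠ 0 ∧ ∀ a ∈ R, π a v = v := by
  have hsp : Fact s.Prime := ⟨h.hs⟩
  have hrp : Fact r.Prime := ⟨h.hr⟩
  have hqp : Fact q.Prime := ⟨h.hq⟩
  by_contra hcon
  push Not at hcon
  have hRs : IsPGroup r R := isPGroup_R h
  obtain ⟨v0, hv0⟩ := exists_ne (0 : V)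
  have key : ∀ c d : E, c • v0 = d • v0 → c = d := by
    intro c d hcd
    have h1 : (c - d) • v0 = 0 := by rw [sub_smul, hcd, sub_self]
    exact sub_eq_zero.mp ((smul_eq_zero.mp h1).resolve_right hv0)
  have h1 : μ 1 = 1 := by
    apply key
    rw [← hμ 1 Z.one_mem, map_one, one_smul]
    rfl
  have h2 : ∀ a ∈ Z, ∀ b ∈ Z, μ (a * b) = μ a * μ b := by
    intro a ha b hb
    apply key
    rw [← hμ _ (Z.mul_mem ha hb), mul_apply', hμ b hb, map_smul, hμ a ha, smul_smul, mul_comm]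
  have hinv : ∀ g : G, ∀ z ∈ Z, g * z * g⁻¹ ∈ Z → μ (g * z * g⁻¹) = μ z := by
    intro g z hz hgz
    apply key
    rw [← hμ _ hgz, mul_apply', mul_apply', hμ z hz, map_smul, apply_inv]
  have hAμ : ∀ g ∈ A, ∀ z ∈ Z, μ (g * z * g⁻¹) = μ z := by
    intro g hg z hz
    rw [← h.hZA z hz g hg, mul_inv_cancel_right]
  have hPμ : ∀ g ∈ P, ∀ z ∈ Z, μ (g * z * g⁻¹) = μ z := by
    intro g hg z hz
    rw [← h.hZ z hz g hg, mul_inv_cancel_right]
  have hRμ : ∀ g ∈ R, ∀ z ∈ Z, μ (g * z * g⁻¹) = μ z := fun g hg z hz =>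
    hinv g z hz (Sect.conj_mem h.hRZ hg hz)
  have hcopR : (Nat.card R).Coprime (Nat.card P) := cop_card h.hs h.hr h.hrs.symm hRs h.hP
  have hcopRs : (Nat.card R).Coprime s := by
    rw [h.hR]; exact (Nat.coprime_primes h.hr h.hs).mpr h.hrs
  have hcopA : (Nat.card A).Coprime (Nat.card P) := cop_card h.hs h.hq h.hqs.symm h.hA h.hP
  have hcopAs : (Nat.card A).Coprime s := by
    obtain ⟨k, hk⟩ := h.hA.exists_card_eq
    rw [hk]
    exact Nat.Coprime.pow_left _ ((Nat.coprime_primes h.hq h.hs).mpr h.hqs)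
  set N := rad h.hPP h.hZ μ h1 h2 with hN
  have hNP : N ≤ P := fun x hx => hx.1
  have hZN : Z ≤ N := by
    intro z hz
    refine ⟨h.hZP hz, fun y hy => ?_⟩
    rw [commutatorElement_eq_one_iff_mul_comm.mpr (h.hZ z hz y hy), h1]
  have hAN : A ≤ normalizer (N : Set G) := le_normalizer_rad h.hAP hAμ
  have hRN : R ≤ normalizer (N : Set G) := le_normalizer_rad h.hRP hRμ
  have hPN : P ≤ normalizer (N : Set G) := le_normalizer_rad le_normalizer hPμ
  set B := ⁅P, R⁆ with hB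
  have hBP : B ≤ P := Lib.CoprimeCommutator.commutator_le_left h.hRP
  have hRB : R ≤ normalizer (B : Set G) :=
    Lib.CoprimeCommutator.right_le_normalizer_commutator P R
  have hBR : ⁅B, R⁆ = B := Lib.CoprimeCommutator.commutator_commutator_eq R P h.hRP hcopR
  set L := ⁅P, A⁆ with hL
  have hLP : L ≤ P := Lib.CoprimeCommutator.commutator_le_left h.hAP
  have hAL : A ≤ normalizer (L : Set G) :=
    Lib.CoprimeCommutator.right_le_normalizer_commutator P A
  have hLA : ⁅L, A⁆ = L := Lib.CoprimeCommutator.commutator_commutator_eq A P h.hAP hcopA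
  have hRL : R ≤ normalizer (L : Set G) := le_normalizer_commutator h.hRP h.hRA
  -- the form is not zero on `B`
  have hBne : ¬ B ≤ N := by
    intro hBN
    obtain ⟨x, hx, y, hy, hxy⟩ := hne
    apply hxy
    have h3 : R ≤ cmod P N := fun a ha => ⟨hRN ha, fun y hy => by
      have h4 : ⁅a, y⁆ = ⁅y, a⁆⁻¹ := (commutatorElement_inv y a).symm
      rw [h4]
      exact N.inv_mem (hBN (commutator_mem_commutator hy ha))⟩
    have h4 : A ≤ cmod P N := by
      rw [← h.hcomm]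
      exact commutator_le_cmod h3 h.hAP hAN
    have h5 : L ≤ N := by
      rw [hL, commutator_le]
      intro u hu a ha
      have h6 : ⁅u, a⁆ = ⁅a, u⁆⁻¹ := (commutatorElement_inv a u).symm
      rw [h6]
      exact N.inv_mem ((h4 ha).2 u hu)
    exact (h5 hx).2 y hy
  have hBB : ∃ b ∈ B, ∃ b' ∈ B, μ ⁅b, b'⁆ ≠ 1 := by
    by_contra hc
    push Not at hc
    apply hBne
    intro b hb
    refine ⟨hBP hb, ?_⟩
    exact ndg_beta h.hPP h.hZ h.hPs h1 h2 le_rfl h.hRP hRμ hcopRs hb (hc b hb)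
  have hN' : ∀ x ∈ B, (∀ y ∈ B, μ ⁅y, x⁆ = 1) → x ∈ N := by
    intro x hx hxy
    refine ⟨hBP hx, ?_⟩
    refine ndg_beta h.hPP h.hZ h.hPs h1 h2 le_rfl h.hRP hRμ hcopRs hx fun y hy => ?_
    exact mu_comm_one h.hPP h1 h2 (hBP hy) (hBP hx) (hxy y hy)
  obtain ⟨hs2, m, hm, hidx⟩ := exc_bound h.hr h.hs h.hrs h.hR h.hP h.hPP h.hPs h.hZ π hsE hrE μ hμ
    hBP hRB hBR hBB (fun v hv => by
      by_contra hv0
      obtain ⟨a, ha, hne⟩ := hcon v hv0
      exact hne (hv a ha)) N hN'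
  -- the square
  have hsq : ∃ d, N.relIndex L = d ^ 2 := by
    obtain ⟨U, hU, hirr⟩ := ExtraFix.exists_irr (π.comp L.subtype)
    refine ⟨finrank E U, ?_⟩
    refine ExtraSq.relIndex_eq_sq (sub (π.comp L.subtype) (MonoidHom.id L) U hU) hirr
      (N.subgroupOf L) (fun x y => μ ⁅(x : G), (y : G)⁆) ?_ ?_ ?_
    · intro x y u
      apply Subtype.ext
      exact hμ _ (h.hPP _ (hLP x.2) _ (hLP y.2)) u
    · intro x hx
      rw [Subgroup.mem_subgroupOf]
      refine ⟨hLP x.2, ?_⟩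
      refine ndg_beta h.hPP h.hZ h.hPs h1 h2 le_rfl h.hAP hAμ hcopAs x.2 fun y hy => ?_
      exact mu_comm_one h.hPP h1 h2 (hLP hy) (hLP x.2) (hx ⟨y, hy⟩)
    · intro x hx y
      exact mu_comm_one h.hPP h1 h2 (hLP x.2) (hLP y.2) (hx.2 y (hLP y.2))
  obtain ⟨d, hsq⟩ := hsq
  refine y_part h hs2 hm hZN hNP hAN hRN hPN hidx hsq fun hLN => ?_
  obtain ⟨x, hx, y, hy, hxy⟩ := hne
  exact hxy ((hLN hx).2 y hy)

theorem LD_subgroupOf (h : LD P Z A R r s q) {H : Subgroup G} (hPH : P ≤ H) (hAH : A ≤ H)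
    (hRH : R ≤ H) :
    LD (P.subgroupOf H) (Z.subgroupOf H) (A.subgroupOf H) (R.subgroupOf H) r s q where
  hr := h.hr
  hs := h.hs
  hq := h.hq
  hrs := h.hrs
  hrq := h.hrq
  hqs := h.hqs
  hR := by rw [Nat.card_congr (Subgroup.subgroupOfEquivOfLe hRH).toEquiv, h.hR]
  hP := h.hP.comap_of_injective _ H.subtype_injective
  hZP := Subgroup.comap_mono h.hZP
  hPP := fun x hx y hy => h.hPP x hx y hy
  hPs := fun x hx => h.hPs x hx
  hZ := fun z hz x hx => Subtype.ext (h.hZ z hz x hx)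
  hA := h.hA.comap_of_injective _ H.subtype_injective
  hAP := subgroupOf_le_normalizer' h.hAP
  hZA := fun z hz x hx => Subtype.ext (h.hZA z hz x hx)
  hRP := subgroupOf_le_normalizer' h.hRP
  hRZ := subgroupOf_le_normalizer' h.hRZ
  hRA := subgroupOf_le_normalizer' h.hRA
  hcomm := by rw [commutator_subgroupOf hAH hRH, h.hcomm]
  hA3 := fun a ha b hb c hc x hx => Subtype.ext (h.hA3 a ha b hb c hc x hx)
  hAq := fun a ha b hb x hx => Subtype.ext (h.hAq a ha b hb x hx)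

theorem pres_wt_of_comm (π : Representation E G V) {Z H : Subgroup G} {μ : G → E}
    (hZ : ∀ z ∈ Z, ∀ x ∈ H, z * x = x * z) : Pres π H (wt π Z ⊤ μ) := by
  intro x hx w hw
  exact apply_mem_wt_of_comm (fun _ _ => Submodule.mem_top) (fun a ha v _ => by
    rw [← mul_apply', ← mul_apply', hZ a ha x hx]) hw

theorem pres_wt_of_inv (π : Representation E G V) {Z H : Subgroup G} {μ : G → E}
    (hH : H ≤ normalizer (Z : Set G)) (hμ : ∀ g ∈ H, ∀ z ∈ Z, μ (g * z * g⁻¹) = μ z) :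
    Pres π H (wt π Z ⊤ μ) := by
  intro x hx w hw
  have h1 := apply_mem_wt (hH hx) (fun _ _ => Submodule.mem_top) hw
  have h2 : Same Z (cj x μ) μ := by
    intro a ha
    have h3 := hμ x⁻¹ (H.inv_mem hx) a ha
    rwa [inv_inv] at h3
  rwa [wt_congr π ⊤ h2] at h1

/-- **The exceptional case does not occur.** -/
theorem ha (h : LD P Z A R r s q) (π : Representation E G V)
    (hsE : (s : E) ≠ 0) (hrE : (r : E) ≠ 0) (μ : G → E)
    (hμR : ∀ g ∈ R, ∀ z ∈ Z, μ (g * z * g⁻¹) = μ z) (hV : wt π Z ⊤ μ ≠ ⊥)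
    (hne : ∃ x ∈ ⁅P, A⁆, ∃ y ∈ P, μ ⁅x, y⁆ ≠ 1) :
    ∃ v ∈ wt π Z ⊤ μ, v ≠ 0 ∧ ∀ a ∈ R, π a v = v := by
  set W := wt π Z ⊤ μ with hW
  let H : Subgroup G := (P ⊔ A) ⊔ R
  have hHW : Pres π H W := by
    refine Pres.sup (Pres.sup (pres_wt_of_comm π h.hZ) (pres_wt_of_comm π h.hZA) h.hAP)
      (pres_wt_of_inv π h.hRZ hμR) (le_normalizer_sup' h.hRP h.hRA)
  have hPH : P ≤ H := le_sup_left.trans le_sup_left
  have hAH : A ≤ H := le_sup_right.trans le_sup_left
  have hRH : R ≤ H := le_sup_right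
  have hnt : Nontrivial W := Submodule.nontrivial_iff_ne_bot.mpr hV
  obtain ⟨v, hv, hfix⟩ := ha_scalar (LD_subgroupOf h hPH hAH hRH)
    (sub π H.subtype W (fun g w hw => hHW g g.2 w hw)) hsE hrE (fun x => μ (x : G))
    (by
      intro z hz w
      apply Subtype.ext
      exact w.2.2 z hz)
    (by
      obtain ⟨x, hx, y, hy, hxy⟩ := hne
      have hxH : x ∈ H := hPH (Lib.CoprimeCommutator.commutator_le_left h.hAP hx)
      refine ⟨⟨x, hxH⟩, ?_, ⟨y, hPH hy⟩, hy, hxy⟩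
      rw [commutator_subgroupOf hPH hAH]
      exact hx)
  refine ⟨v, v.2, fun h0 => hv (Subtype.ext h0), fun a ha => ?_⟩
  exact congrArg Subtype.val (hfix ⟨a, hRH ha⟩ ha)

end HA

end Cfsg.Agent.H575.HA
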