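import Cfsg.Agent.H575.Extra
import Cfsg.Agent.H575.ExtraFix
import Cfsg.Agent.H575.Chain

/-!
# Fitting height of the fixed points of an element of prime order
-/

set_option autoImplicit false
set_option linter.unusedSectionVars false

universe u

open Subgroup
open scoped commutatorElement

namespace Cfsg.Agent.H575.Height

open Cfsg.Agent.H575.ModM Cfsg.Agent.H575.Core Cfsg.Agent.H575.ExtraIrr Cfsg.Agent.H575.Chain

/-- a minimal normal subgroup inside a solvable normal subgroup -/
theorem exists_elem {Γ : Type u} [Group Γ] [Finite Γ] {X : Subgroup Γ} (hXn : X.Normal)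
    (hXbot : X ≠ ⊥) (hsol : Group.IsSolvable X) :
    ∃ (N : Subgroup Γ) (q : ℕ), N.Normal ∧ N ≤ X ∧ N ≠ ⊥ ∧ q.Prime ∧ q ∣ Nat.card N ∧
      (∀ x ∈ N, ∀ y ∈ N, x * y = y * x) ∧ ∀ x ∈ N, x ^ q = 1 := by
  obtain ⟨N, hNn, hNX, hNbot, hNmin⟩ :=
    Lib.SubnormalJoin.exists_minimal_normal_le X hXn hXbot
  have hNsol : Group.IsSolvable N :=
    Group.isSolvable_of_isSolvable_injective (Subgroup.inclusion_injective hNX)
  have hNab : ∀ x ∈ N, ∀ y ∈ N, Commute x y := by
    have h1 : ⁅N, N⁆ = ⊥ := by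
      rcases hNmin ⁅N, N⁆ inferInstance (Subgroup.commutator_le_left N N) with h | h
      · exact h
      · exfalso
        apply hNbot
        have h2 : ∀ m : ℕ, (derivedSeries N m).map N.subtype = N := by
          intro m
          induction m with
          | zero => rw [derivedSeries_zero, ← MonoidHom.range_eq_map, Subgroup.range_subtype]
          | succ m ihm => rw [derivedSeries_succ, Subgroup.map_commutator, ihm, h]
        obtain ⟨m, hm⟩ := hNsol
        rw [← h2 m, hm, Subgroup.map_bot]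
    intro x hx y hy
    have h2 := Subgroup.commutator_mem_commutator hx hy
    rw [h1, Subgroup.mem_bot, commutatorElement_eq_one_iff_commute] at h2
    exact h2
  obtain ⟨q, hq, hNq, hNexp⟩ := Lib.MinNormalNonabelian.abelian_structure N hNbot hNmin hNab
  have : Fact q.Prime := ⟨hq⟩
  refine ⟨N, q, hNn, hNX, hNbot, hq, ?_, fun x hx y hy => hNab x hx y hy, hNexp⟩
  obtain ⟨k, hk⟩ := hNq.exists_card_eq
  have hk0 : k ≠ 0 := by
    rintro rfl
    rw [pow_zero] at hk
    exact hNbot (Subgroup.card_eq_one.mp hk)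
  exact (dvd_pow_self q hk0).trans hk.symm.dvd

theorem eq_bot_of_fixed {Γ : Type u} [Group Γ] [Finite Γ] {X F R : Subgroup Γ} {r s : ℕ}
    (hd : Data X F R s) (hED : ED F R r s) (hsol : Group.IsSolvable X)
    (hr : ¬ ∃ k : ℕ, r = 2 ^ k + 1) (h : X ⊓ centralizer (R : Set Γ) = ⊥) : X = ⊥ := by
  by_contra hX
  obtain ⟨N, q, hNn, hNX, hNbot, hq, hqN, hNc, hNq⟩ := exists_elem hd.normal hX hsol
  have : Fact q.Prime := ⟨hq⟩
  have hqX : q ∣ Nat.card X := hqN.trans (Subgroup.card_dvd_of_le hNX)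
  refine ExtraFix.exists_fixed_group (q := q) hNbot hNc hNq hED ?_ ?_ ?_ hr ?_
  · rintro rfl
    exact hd.hrX (by rw [hED.hR]; exact hqX)
  · rintro rfl
    exact hd.hsX hqX
  · rw [eq_bot_iff, ← hd.hCX]
    exact inf_le_inf_right _ hNX
  · rw [eq_bot_iff, ← h]
    exact inf_le_inf_right _ hNX

/-- the data in an image on which `F` is faithful -/
theorem ed_map {G H : Type*} [Group G] [Group H] {F R : Subgroup G} {r s : ℕ} (h : ED F R r s)
    (φ : G →* H) (hF : Set.InjOn φ (F : Set G)) (hR : Set.InjOn φ (R : Set G))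
    (hFR : ∀ f ∈ F, ∀ a ∈ R, φ (a * f) = φ (f * a) → a * f = f * a) :
    ED (F.map φ) (R.map φ) r s := by
  let e : F ≃* F.map φ := MulEquiv.ofBijective (φ.subgroupMap F) ⟨by
    intro x y hxy
    exact Subtype.ext (hF x.2 y.2 (congrArg Subtype.val hxy)), φ.subgroupMap_surjective F⟩
  have he : ∀ x : F, ((e x : F.map φ) : H) = φ x := fun x => rfl
  have hcen : ∀ x : F, x ∈ center F ↔ e x ∈ center (F.map φ) := by
    intro x
    rw [Subgroup.mem_center_iff, Subgroup.mem_center_iff]
    constructor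
    · intro hx g
      obtain ⟨y, rfl⟩ := e.surjective g
      rw [← map_mul, ← map_mul, hx]
    · intro hx g
      apply e.injective
      rw [map_mul, map_mul, hx]
  refine
    { hr := h.hr
      hs := h.hs
      hrs := h.hrs
      hR := ?_
      hF := h.hF.map _
      hZ := ?_
      hab := ?_
      hRF := ?_
      hcomm := ?_
      hCF := ?_ }
  · rw [← h.hR]
    refine (Nat.card_congr (Equiv.ofBijective (φ.subgroupMap R) ⟨?_, φ.subgroupMap_surjective R⟩)).symm
    intro x y hxy
    exact Subtype.ext (hR x.2 y.2 (congrArg Subtype.val hxy))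
  · rw [← h.hZ]
    exact (Nat.card_congr (Equiv.subtypeEquiv e.toEquiv hcen)).symm
  · intro x y
    obtain ⟨x, rfl⟩ := e.surjective x
    obtain ⟨y, rfl⟩ := e.surjective y
    have h1 := h.hab x y
    rw [hcen, map_mul, map_mul, map_mul, map_inv, map_inv] at h1
    exact h1
  · exact (Subgroup.map_mono h.hRF).trans (Subgroup.le_normalizer_map _)
  · rw [← Subgroup.map_commutator, h.hcomm]
  · rintro _ ⟨⟨f, hf, rfl⟩, hxR⟩
    have h1 : f ∈ F ⊓ centralizer (R : Set G) := by
      refine ⟨hf, Subgroup.mem_centralizer_iff.mpr fun a ha => ?_⟩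
      apply hFR f hf a ha
      rw [map_mul, map_mul]
      exact Subgroup.mem_centralizer_iff.mp hxR (φ a) (Subgroup.mem_map_of_mem _ ha)
    obtain ⟨y, hy, hyx⟩ := h.hCF h1
    refine ⟨e y, (hcen y).mp hy, ?_⟩
    show φ y = φ f
    exact congrArg φ hyx

theorem injOn_mk {Γ : Type u} [Group Γ] {A K : Subgroup Γ} [K.Normal] (h : A ⊓ K = ⊥) :
    Set.InjOn (QuotientGroup.mk' K) (A : Set Γ) := by
  intro a ha b hb hab
  have h2 : a⁻¹ * b ∈ K := QuotientGroup.eq.mp hab
  have h3 : a⁻¹ * b ∈ A ⊓ K := ⟨A.mul_mem (A.inv_mem ha) hb, h2⟩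
  rw [h, Subgroup.mem_bot] at h3
  exact inv_mul_eq_one.mp h3

/-- **The Fitting height theorem.** -/
theorem fchain_of_fixed {r s : ℕ} (hr : ¬ ∃ k : ℕ, r = 2 ^ k + 1) (n : ℕ) :
    ∀ {Γ : Type u} [Group Γ] [Finite Γ] {X F R : Subgroup Γ}, Data X F R s → ED F R r s →
      Group.IsSolvable X → FChain n ↥(X ⊓ centralizer (R : Set Γ)) → FChain n X := by
  induction n with
  | zero =>
    intro Γ _ _ X F R hd hED hsol h
    have h1 := h.subsingleton
    have h2 : X ⊓ centralizer (R : Set Γ) = ⊥ := Subgroup.eq_bot_of_subsingleton _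
    have h3 := eq_bot_of_fixed hd hED hsol hr h2
    have h4 : Subsingleton X := by rw [h3]; infer_instance
    exact fchain_zero
  | succ n ih =>
    intro Γ _ _ X F R hd hED hsol h
    have hXn := hd.normal
    have hs := hED.hs
    obtain ⟨N, hNn, hNnil, hN⟩ := h.image
    let K : Subgroup Γ := (Cfsg.fittingSubgroup X).map X.subtype
    have hKX : K ≤ X := Subgroup.map_subtype_le _
    have hKn : K.Normal := by
      have : (Cfsg.fittingSubgroup X).Characteristic := Lib.Cores.fittingSubgroup_characteristic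
      infer_instance
    have hXtop : ∀ A : Subgroup Γ, A ≤ normalizer (X : Set Γ) := fun A => by
      rw [Subgroup.normalizer_eq_top_iff.mpr hXn]; exact le_top
    have hfit := Extra.fitting_le hs hd.hF hd.hR hd.hRs hd.hRF (hXtop R) (hXtop F) hd.hCR hd.hsX
      hd.hrX hd.hCX hsol
    have hcK : Nat.card K ∣ Nat.card X := Subgroup.card_dvd_of_le hKX
    have hrK : ¬ Nat.card R ∣ Nat.card K := fun h => hd.hrX (h.trans hcK)
    have hsK : ¬ s ∣ Nat.card K := fun h => hd.hsX (h.trans hcK)
    have hRK : R ⊓ K = ⊥ :=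
      Core.inf_eq_bot_of_coprime ((Nat.Prime.coprime_iff_not_dvd hd.hR).mpr hrK)
    have hFK : F ⊓ K = ⊥ := Core.inf_eq_bot_of_coprime (coprime_of_not_dvd hs hd.hF hsK)
    have hd' := hd.quot hs hKX
    have hED' : ED (F.map (QuotientGroup.mk' K)) (R.map (QuotientGroup.mk' K)) r s := by
      refine ed_map hED _ (injOn_mk hFK) (injOn_mk hRK) ?_
      intro f hf a ha hfa
      have h2 : (f * a)⁻¹ * (a * f) ∈ K := QuotientGroup.eq.mp hfa.symm
      have h3 : f * ((f * a)⁻¹ * (a * f)) * f⁻¹ = f * (a⁻¹ * f⁻¹ * a) := by group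
      have h4 : f * (a⁻¹ * f⁻¹ * a) ∈ F ⊓ K := by
        refine ⟨F.mul_mem hf ?_, ?_⟩
        · have := conj_mem_of_le_normalizer hd.hRF (R.inv_mem ha) (F.inv_mem hf)
          rwa [inv_inv] at this
        · rw [← h3]
          exact hKn.conj_mem _ h2 f
      rw [hFK, Subgroup.mem_bot] at h4
      have h5 : a * f = f * a := by
        have h6 : f = (a⁻¹ * f⁻¹ * a)⁻¹ := mul_eq_one_iff_eq_inv.mp h4
        have h7 : (a⁻¹ * f⁻¹ * a)⁻¹ = a⁻¹ * f * a := by group
        rw [h7] at h6
        conv_lhs => rw [h6]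
        group
      exact h5
    have hsol' : Group.IsSolvable (X.map (QuotientGroup.mk' K)) :=
      Group.isSolvable_of_surjective (f := (QuotientGroup.mk' K).subgroupMap X)
        ((QuotientGroup.mk' K).subgroupMap_surjective X)
    have : Fact (Nat.card R).Prime := ⟨hd.hR⟩
    have hRpg : IsPGroup (Nat.card R) R := IsPGroup.of_card (n := 1) (by rw [pow_one])
    have hlift := inf_centralizer_map_le hKX hRpg hrK
    have hCbar : X.map (QuotientGroup.mk' K) ⊓
        centralizer ((R.map (QuotientGroup.mk' K) : Subgroup (Γ ⧸ K)) : Set (Γ ⧸ K)) =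
        (X ⊓ centralizer (R : Set Γ)).map (QuotientGroup.mk' K) := by
      refine le_antisymm hlift ?_
      rintro _ ⟨d, hd', rfl⟩
      refine ⟨⟨d, hd'.1, rfl⟩, Subgroup.mem_centralizer_iff.mpr ?_⟩
      rintro _ ⟨a, ha, rfl⟩
      rw [← map_mul, ← map_mul, Subgroup.mem_centralizer_iff.mp hd'.2 a ha]
    have h5 : FChain n ↥((X ⊓ centralizer (R : Set Γ)).map (QuotientGroup.mk' K)) := by
      refine hN _ ((QuotientGroup.mk' K).subgroupMap (X ⊓ centralizer (R : Set Γ)))
        ((QuotientGroup.mk' K).subgroupMap_surjective _) ?_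
      intro x hx
      have h6 : x ∈ Cfsg.fittingSubgroup ↥(X ⊓ centralizer (R : Set Γ)) :=
        Lib.Cores.le_fittingSubgroup hNn hNnil hx
      have h7 : (x : Γ) ∈ K := hfit ⟨x, h6, rfl⟩
      rw [MonoidHom.mem_ker]
      exact Subtype.ext ((QuotientGroup.eq_one_iff _).mpr h7)
    rw [← hCbar] at h5
    have h6 := ih hd' hED' hsol' h5
    refine FChain.extend ((QuotientGroup.mk' K).subgroupMap X) ?_ h6
    have h7 : ((QuotientGroup.mk' K).subgroupMap X).ker = Cfsg.fittingSubgroup X := by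
      ext x
      rw [MonoidHom.mem_ker]
      constructor
      · intro hx
        have h8 : (x : Γ) ∈ K := (QuotientGroup.eq_one_iff _).mp (congrArg Subtype.val hx)
        obtain ⟨y, hy, hyx⟩ := h8
        have : y = x := Subtype.ext hyx
        rw [← this]
        exact hy
      · intro hx
        exact Subtype.ext ((QuotientGroup.eq_one_iff _).mpr ⟨x, hx, rfl⟩)
    rw [h7]
    exact Lib.Cores.fittingSubgroup_isNilpotent

/-- **The Fitting height theorem**, without normality of `X`. -/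
theorem fchain_iff {Γ : Type u} [Group Γ] [Finite Γ] {R F X : Subgroup Γ} {r s : ℕ}
    (hr : ¬ ∃ k : ℕ, r = 2 ^ k + 1) (hED : ED F R r s)
    (hRX : R ≤ normalizer (X : Set Γ)) (hFX : F ≤ normalizer (X : Set Γ))
    (hsX : ¬ s ∣ Nat.card X) (hrX : ¬ r ∣ Nat.card X)
    (hCF : X ⊓ centralizer (F : Set Γ) = ⊥) (hsol : Group.IsSolvable X) (n : ℕ) :
    FChain n X ↔ FChain n ↥(X ⊓ centralizer (R : Set Γ)) := by
  constructor
  · intro h
    exact h.of_injective (Subgroup.inclusion inf_le_left) (Subgroup.inclusion_injective _)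
  · intro h
    have hXH : X ≤ normalizer (X : Set Γ) := Subgroup.le_normalizer
    have hCR : Nat.card ↥(F ⊓ centralizer (R : Set Γ)) ∣ s := by
      refine (Subgroup.card_dvd_of_le hED.hCF).trans ?_
      rw [Subgroup.card_map_of_injective F.subtype_injective, hED.hZ]
    have hd := Extra.data_normalizer hED.hF (by rw [hED.hR]; exact hED.hr)
      (by rw [hED.hR]; exact hED.hrs) hED.hRF hRX hFX hCR hsX (by rw [hED.hR]; exact hrX) hCF
    have hED' := ExtraFix.ed_subgroupOf hED hFX hRX
    have hsol' : Group.IsSolvable (X.subgroupOf (normalizer (X : Set Γ))) :=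
      Group.isSolvable_of_isSolvable_injective (f := (Subgroup.subgroupOfEquivOfLe hXH).toMonoidHom)
        (Subgroup.subgroupOfEquivOfLe hXH).injective
    have h1 : FChain n ↥(X.subgroupOf (normalizer (X : Set Γ)) ⊓
        centralizer ((R.subgroupOf (normalizer (X : Set Γ)) : Subgroup _) : Set _)) := by
      rw [Extra.inf_centralizer_subgroupOf hRX]
      exact h.of_equiv (Subgroup.subgroupOfEquivOfLe (inf_le_left.trans hXH))
    exact (fchain_of_fixed hr n hd hED' hsol' h1).of_equiv (Subgroup.subgroupOfEquivOfLe hXH).symm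

end Cfsg.Agent.H575.Height
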