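import Cfsg.Agent.H575.KLCore

/-!
# Elements acting nontrivially act nontrivially on the fixed points of `R` in `[V, P, R]`
-/

set_option autoImplicit false
set_option linter.unusedSectionVars false
set_option linter.unusedVariables false

namespace Cfsg.Agent.H575.KL

open Module Subgroup Cfsg.Agent.H575.Dim Cfsg.Agent.H575.Weights Cfsg.Agent.H575.Sect
  Cfsg.Agent.H575.Fix Cfsg.Agent.H575.Lev Cfsg.Agent.H575.ModM Cfsg.Agent.H575.Tower
  Cfsg.Agent.H575.Mult Cfsg.Agent.H575.HA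
open scoped commutatorElement

variable {E : Type*} [Field E] [IsAlgClosed E] {G V : Type*} [Group G] [Finite G]
  [AddCommGroup V] [Module E V] [FiniteDimensional E V] {P Z A R : Subgroup G} {r s q : ℕ}

theorem cop_s (h : LD P Z A R r s q) {H : Subgroup G} {p : ℕ} (hp : p.Prime) (hps : p ≠ s)
    (hH : IsPGroup p H) : (Nat.card H).Coprime s := by
  have : Fact p.Prime := ⟨hp⟩
  obtain ⟨k, hk⟩ := hH.exists_card_eq
  rw [hk]
  exact Nat.Coprime.pow_left _ ((Nat.coprime_primes hp h.hs).mpr hps)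

theorem cent_inv (h : LD P Z A R r s q) {μ : G → E} : ∀ g ∈ A, ∀ z ∈ Z, μ (g * z * g⁻¹) = μ z := by
  intro g hg z hz
  rw [← h.hZA z hz g hg, mul_inv_cancel_right]

/-- the form is not zero on `[P, R]` -/
theorem exists_BB (h : LD P Z A R r s q) {μ : G → E} (h1 : μ 1 = 1)
    (h2 : ∀ a ∈ Z, ∀ b ∈ Z, μ (a * b) = μ a * μ b)
    (hRμ : ∀ g ∈ R, ∀ z ∈ Z, μ (g * z * g⁻¹) = μ z)
    (hne : ∃ x ∈ ⁅P, A⁆, ∃ y ∈ P, μ ⁅x, y⁆ ≠ 1) :
    ∃ b ∈ ⁅P, R⁆, ∃ b' ∈ ⁅P, R⁆, μ ⁅b, b'⁆ ≠ 1 := by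
  have hAμ : ∀ g ∈ A, ∀ z ∈ Z, μ (g * z * g⁻¹) = μ z := cent_inv h
  set N := rad h.hPP h.hZ μ h1 h2 with hN
  have hAN : A ≤ normalizer (N : Set G) := le_normalizer_rad h.hAP hAμ
  have hRN : R ≤ normalizer (N : Set G) := le_normalizer_rad h.hRP hRμ
  have hBP : ⁅P, R⁆ ≤ P := Lib.CoprimeCommutator.commutator_le_left h.hRP
  have hBne : ¬ ⁅P, R⁆ ≤ N := by
    intro hBN
    obtain ⟨x, hx, y, hy, hxy⟩ := hne
    apply hxy
    have h3 : R ≤ cmod P N := fun a ha => ⟨hRN ha, fun y hy => by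
      have h4 : ⁅a, y⁆ = ⁅y, a⁆⁻¹ := (commutatorElement_inv y a).symm
      rw [h4]
      exact N.inv_mem (hBN (commutator_mem_commutator hy ha))⟩
    have h4 : A ≤ cmod P N := by
      rw [← h.hcomm]
      exact commutator_le_cmod h3 h.hAP hAN
    have h5 : ⁅P, A⁆ ≤ N := by
      rw [commutator_le]
      intro u hu a ha
      have h6 : ⁅u, a⁆ = ⁅a, u⁆⁻¹ := (commutatorElement_inv a u).symm
      rw [h6]
      exact N.inv_mem ((h4 ha).2 u hu)
    exact (h5 hx).2 y hy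
  by_contra hc
  push Not at hc
  apply hBne
  intro b hb
  refine ⟨hBP hb, ?_⟩
  exact ndg_beta h.hPP h.hZ h.hPs h1 h2 le_rfl h.hRP hRμ
    (cop_s h h.hr h.hrs (isPGroup_R h)) hb (hc b hb)

/-- fixed vectors of `R` in the weight space are in the commutator space -/
theorem wt_le_br_of_BB (h : LD P Z A R r s q) {π : Representation E G V} {μ : G → E}
    (hBB : ∃ b ∈ ⁅P, R⁆, ∃ b' ∈ ⁅P, R⁆, μ ⁅b, b'⁆ ≠ 1) : wt π Z ⊤ μ ≤ br π ⁅P, R⁆ := by
  obtain ⟨b, hb, b', hb', hne⟩ := hBB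
  have hBP : ⁅P, R⁆ ≤ P := Lib.CoprimeCommutator.commutator_le_left h.hRP
  intro v hv
  have hB : ⁅b, b'⁆ ∈ ⁅P, R⁆ := by
    rw [commutatorElement_def]
    exact mul_mem (mul_mem (mul_mem hb hb') (inv_mem hb)) (inv_mem hb')
  exact mem_br_of_scal hB (hv.2 _ (h.hPP _ (hBP hb) _ (hBP hb'))) hne

theorem R_inv_iff (h : LD P Z A R r s q) {μ : G → E} {N : Subgroup G}
    (hinv : ∀ a ∈ R, Same N (cj a μ) μ) : ∀ g ∈ R, ∀ z ∈ N, μ (g * z * g⁻¹) = μ z := by
  intro g hg z hz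
  have h1 := hinv g⁻¹ (R.inv_mem hg) z hz
  have h2 : μ (g⁻¹⁻¹ * z * g⁻¹) = μ z := h1
  rwa [inv_inv] at h2

theorem comm_inv (h : LD P Z A R r s q) {μ : G → E}
    (hRμ : ∀ g ∈ R, ∀ z ∈ Z, μ (g * z * g⁻¹) = μ z) {d : G} (hd : d ∈ P)
    (hdR : d ∈ centralizer (R : Set G)) : ∀ g ∈ R, ∀ x ∈ P, μ ⁅d, g * x * g⁻¹⁆ = μ ⁅d, x⁆ := by
  intro g hg x hx
  have h1 : ⁅d, g * x * g⁻¹⁆ = g * ⁅d, x⁆ * g⁻¹ := by
    have h2 : g * d * g⁻¹ = d := by
      rw [mem_centralizer_iff.mp hdR g hg, mul_inv_cancel_right]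
    calc ⁅d, g * x * g⁻¹⁆ = ⁅g * d * g⁻¹, g * x * g⁻¹⁆ := by rw [h2]
      _ = g * ⁅d, x⁆ * g⁻¹ := by
        simp only [commutatorElement_def]
        group
  rw [h1, hRμ g hg _ (h.hPP d hd x hx)]

/-- for `d` commuting with `R` the form `[d, -]` vanishes on `[P, R]` -/
theorem comm_kills (h : LD P Z A R r s q) {μ : G → E} (h1 : μ 1 = 1)
    (h2 : ∀ a ∈ Z, ∀ b ∈ Z, μ (a * b) = μ a * μ b)
    (hRμ : ∀ g ∈ R, ∀ z ∈ Z, μ (g * z * g⁻¹) = μ z) {d : G} (hd : d ∈ P)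
    (hdR : d ∈ centralizer (R : Set G)) : ∀ x ∈ ⁅P, R⁆, μ ⁅d, x⁆ = 1 := by
  refine kills h.hRP (fun x => μ ⁅d, x⁆) (by rw [commutatorElement_one_right, h1]) ?_ ?_
  · intro x hx y hy
    show μ ⁅d, x * y⁆ = μ ⁅d, x⁆ * μ ⁅d, y⁆
    rw [comm_mul_right h.hPP h.hZ hd hx hy, h2 _ (h.hPP d hd x hx) _ (h.hPP d hd y hy)]
  · exact comm_inv h hRμ hd hdR

/-- the two elements commuting with `R` and a vector fixed by the first -/
theorem mu_eq_one_of_fixed (h : LD P Z A R r s q) {π : Representation E G V} {μ : G → E}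
    (hBB : ∃ b ∈ ⁅P, R⁆, ∃ b' ∈ ⁅P, R⁆, μ ⁅b, b'⁆ ≠ 1) {v : V} (hv : v ∈ wt π Z ⊤ μ)
    (hv0 : v ≠ 0) (hvR : ∀ a ∈ R, π a v = v) {x t : G} (hx : x ∈ P) (ht : t ∈ P)
    (htR : t ∈ centralizer (R : Set G)) (hinv : Inv π ⁅P, R⁆ R x) : μ ⁅x, t⁆ = 1 := by
  have h1 : π x v = v := hinv v (wt_le_br_of_BB h hBB hv) hvR
  have h2 : π t v ∈ wt π Z ⊤ μ := pres_wt_of_comm π h.hZ t ht v hv
  have h3 : π x (π t v) = π t v := by
    refine hinv _ (wt_le_br_of_BB h hBB h2) fun a ha => ?_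
    rw [← mul_apply', mem_centralizer_iff.mp htR a ha, mul_apply', hvR a ha]
  have h4 : x * t = ⁅x, t⁆ * (t * x) := by
    simp only [commutatorElement_def]
    group
  have h5 : π t v = μ ⁅x, t⁆ • π t v := by
    conv_lhs => rw [← h3]
    rw [← mul_apply', h4, mul_apply', mul_apply' π t x, h1]
    exact h2.2 _ (h.hPP x hx t ht)
  have h6 : (μ ⁅x, t⁆ - 1) • π t v = 0 := by rw [sub_smul, one_smul, ← h5, sub_self]
  have h7 : π t v ≠ 0 := by
    intro h0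
    apply hv0
    rw [← inv_apply π t v, h0, map_zero]
  exact sub_eq_zero.mp ((smul_eq_zero.mp h6).resolve_right h7)

/-- weights not invariant under `R`: elements of `P` commuting with `R` and invisible act trivially -/
theorem trivial_of_noninv (h : LD P Z A R r s q) {π : Representation E G V} {μ : G → E}
    (hμ : ¬ ∀ a ∈ R, Same Z (cj a μ) μ) {d : G} (hd : d ∈ P)
    (hdR : d ∈ centralizer (R : Set G)) (hinv : Inv π ⁅P, R⁆ R d) :
    ∀ w ∈ wt π Z ⊤ μ, π d w = w := by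
  intro w hw
  have hRB : R ≤ normalizer ((⁅P, R⁆ : Subgroup G) : Set G) :=
    Lib.CoprimeCommutator.right_le_normalizer_commutator P R
  have hPB : P ≤ normalizer ((⁅P, R⁆ : Subgroup G) : Set G) :=
    Lib.CoprimeCommutator.left_le_normalizer_commutator P R
  have hwbr : w ∈ br π ⁅P, R⁆ := wt_le_br h.hRZ (commutator_mono h.hZP le_rfl) hμ hw
  refine trivial_of_not_fixed π (br π ⁅P, R⁆) (A := Z) (R := R) (pres_br hRB) h.hRZ
    (by rw [h.hR]; exact h.hr) (pres_br hPB d hd) ?_ hdR (fun v hv hvR => hinv v hv hvR) μ hμ w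
    ⟨hwbr, hw.2⟩
  intro a ha v _
  rw [← mul_apply', ← mul_apply', h.hZ a ha d hd]

/-- commutativity on the weight space -/
theorem comm_on_wt {π : Representation E G V} {μ : G → E} {a b : G} (hab : ⁅a, b⁆ ∈ Z)
    (h1 : μ ⁅a, b⁆ = 1) {w : V} (hw : π b (π a w) ∈ wt π Z ⊤ μ) : π a (π b w) = π b (π a w) := by
  have h2 : a * b = ⁅a, b⁆ * (b * a) := by
    simp only [commutatorElement_def]
    group
  rw [← mul_apply' π a b, h2, mul_apply', mul_apply' π b a, hw.2 _ hab, h1, one_smul]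

section Sum

open Classical in
/-- the product over `R` of the conjugates of a weight -/
theorem prod_kills (h : LD P Z A R r s q) {N : Subgroup G} (hNP : N ≤ P)
    (hRN : R ≤ normalizer (N : Set G)) [Fintype R] {l : G → E} (l1 : l 1 = 1)
    (lm : ∀ a ∈ N, ∀ b ∈ N, l (a * b) = l a * l b) {u : G} (hu : u ∈ N) :
    ∃ c ∈ N, c ∈ centralizer (R : Set G) ∧ c⁻¹ * u ∈ ⁅N, R⁆ ∧
      ∏ j : R, l ((j : G) * u * (j : G)⁻¹) = l c ^ r := by
  have hrN : ¬ r ∣ Nat.card N := cop_of_ne h.hr h.hs h.hrs (h.hP.to_le hNP)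
  obtain ⟨c, hcN, hcR, hcu⟩ := exists_cent_mul h.hr (isPGroup_R h) hRN hrN hu
  refine ⟨c, hcN, hcR, hcu, ?_⟩
  have hle : ⁅N, R⁆ ≤ N := Lib.CoprimeCommutator.commutator_le_left hRN
  have hk := kills hRN (fun x => ∏ j : R, l ((j : G) * x * (j : G)⁻¹)) (by
      refine Finset.prod_eq_one fun j _ => ?_
      rw [mul_one, mul_inv_cancel, l1]) (by
      intro x hx y hy
      show ∏ j : R, l ((j : G) * (x * y) * (j : G)⁻¹) = _
      rw [← Finset.prod_mul_distrib]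
      refine Finset.prod_congr rfl fun j _ => ?_
      rw [← lm _ (Sect.conj_mem hRN j.2 hx) _ (Sect.conj_mem hRN j.2 hy)]
      congr 1
      group) (by
      intro g hg x hx
      refine Fintype.prod_equiv (Equiv.mulRight ⟨g, hg⟩) _ _ fun j => ?_
      congr 1
      show (j : G) * (g * x * g⁻¹) * (j : G)⁻¹ = ((j * ⟨g, hg⟩ : R) : G) * x * ((j * ⟨g, hg⟩ : R) : G)⁻¹
      rw [Subgroup.coe_mul]
      group) _ hcu
  have h1 : ∏ j : R, l ((j : G) * u * (j : G)⁻¹) =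
      ∏ j : R, (l c * l ((j : G) * (c⁻¹ * u) * (j : G)⁻¹)) := by
    refine Finset.prod_congr rfl fun j _ => ?_
    rw [← lm _ hcN _ (Sect.conj_mem hRN j.2 (hle hcu))]
    congr 1
    have h2 : (j : G) * c * (j : G)⁻¹ = c := by
      rw [mem_centralizer_iff.mp hcR j j.2, mul_inv_cancel_right]
    calc (j : G) * u * (j : G)⁻¹ = ((j : G) * c * (j : G)⁻¹) * ((j : G) * (c⁻¹ * u) * (j : G)⁻¹) := by
          group
      _ = _ := by rw [h2]
  have hk' : ∏ j : R, l ((j : G) * (c⁻¹ * u) * (j : G)⁻¹) = 1 := hk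
  rw [h1, Finset.prod_mul_distrib, hk', mul_one, Finset.prod_const, Finset.card_univ,
    ← Nat.card_eq_fintype_card, h.hR]

end Sum

/-- conjugation by `Y`, which commutes with `A` modulo the centralizer of `P` -/
theorem conj_comm {Y : Subgroup G} (hY : Y ≤ normalizer (P : Set G))
    (hA : A ≤ normalizer (P : Set G))
    (hAY : ∀ a ∈ A, ∀ y ∈ Y, ∀ x ∈ P, ⁅a, y⁆ * x = x * ⁅a, y⁆) {a y x : G} (ha : a ∈ A)
    (hy : y ∈ Y) (hx : x ∈ P) : a * (y * x * y⁻¹) * a⁻¹ = y * (a * x * a⁻¹) * y⁻¹ := by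
  have h1 : y * (a * x * a⁻¹) * y⁻¹ ∈ P := Sect.conj_mem hY hy (Sect.conj_mem hA ha hx)
  have h2 := hAY a ha y hy _ h1
  calc a * (y * x * y⁻¹) * a⁻¹ = ⁅a, y⁆ * (y * (a * x * a⁻¹) * y⁻¹) * ⁅a, y⁆⁻¹ := by
        simp only [commutatorElement_def]
        group
    _ = _ := by rw [h2, mul_inv_cancel_right]

theorem le_normalizer_L {Y : Subgroup G} (hY : Y ≤ normalizer (P : Set G))
    (hA : A ≤ normalizer (P : Set G))
    (hAY : ∀ a ∈ A, ∀ y ∈ Y, ∀ x ∈ P, ⁅a, y⁆ * x = x * ⁅a, y⁆) :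
    Y ≤ normalizer ((⁅P, A⁆ : Subgroup G) : Set G) := by
  refine le_norm fun y hy g hg => ?_
  have h1 : (⁅P, A⁆).map (MulAut.conj y).toMonoidHom ≤ ⁅P, A⁆ := by
    rw [map_le_iff_le_comap, commutator_le]
    intro x hx a ha
    show y * ⁅x, a⁆ * y⁻¹ ∈ ⁅P, A⁆
    have h2 : y * ⁅x, a⁆ * y⁻¹ = ⁅y * x * y⁻¹, a⁆ := by
      have h3 := conj_comm hY hA hAY ha hy (P.inv_mem hx)
      calc y * ⁅x, a⁆ * y⁻¹ = (y * x * y⁻¹) * (y * (a * x⁻¹ * a⁻¹) * y⁻¹) := by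
            simp only [commutatorElement_def]
            group
        _ = (y * x * y⁻¹) * (a * (y * x⁻¹ * y⁻¹) * a⁻¹) := by rw [h3]
        _ = ⁅y * x * y⁻¹, a⁆ := by
            simp only [commutatorElement_def]
            group
    rw [h2]
    exact commutator_mem_commutator (Sect.conj_mem hY hy hx) ha
  exact h1 ⟨g, hg, rfl⟩

/-- a weight space of the radical -/
theorem lam_facts (h : LD P Z A R r s q) {π : Representation E G V} {μ l : G → E} {N : Subgroup G}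
    (hZN : Z ≤ N) (hl : wt π N (wt π Z ⊤ μ) l ≠ ⊥) : ∀ z ∈ Z, l z = μ z := by
  intro z hz
  obtain ⟨v, hv, hv0⟩ := Submodule.exists_mem_ne_zero_of_ne_bot hl
  have h1 : l z • v = μ z • v := by rw [← hv.2 z (hZN hz), hv.1.2 z hz]
  have h2 : (l z - μ z) • v = 0 := by rw [sub_smul, h1, sub_self]
  exact sub_eq_zero.mp ((smul_eq_zero.mp h2).resolve_right hv0)

/-- weights of the radical which are not invariant are trivial on invisible elements -/
theorem G3_aux (h : LD P Z A R r s q) {π : Representation E G V} {μ : G → E}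
    (hRμ : ∀ g ∈ R, ∀ z ∈ Z, μ (g * z * g⁻¹) = μ z) {N : Subgroup G} (hNP : N ≤ P)
    (hN : ∀ x ∈ N, ∀ y ∈ P, μ ⁅x, y⁆ = 1) (hRN : R ≤ normalizer (N : Set G)) {l : G → E}
    (hl : wt π N (wt π Z ⊤ μ) l ≠ ⊥) (hlR : ¬ ∀ a ∈ R, Same N (cj a l) l) {d : G} (hd : d ∈ N)
    (hdR : d ∈ centralizer (R : Set G)) (hinv : Inv π ⁅P, R⁆ R d) : l d = 1 := by
  obtain ⟨v, hv, hv0⟩ := Submodule.exists_mem_ne_zero_of_ne_bot hl
  have hRB : R ≤ normalizer ((⁅P, R⁆ : Subgroup G) : Set G) :=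
    Lib.CoprimeCommutator.right_le_normalizer_commutator P R
  have hPB : P ≤ normalizer ((⁅P, R⁆ : Subgroup G) : Set G) :=
    Lib.CoprimeCommutator.left_le_normalizer_commutator P R
  have hPW : Pres π P (wt π Z ⊤ μ) := pres_wt_of_comm π h.hZ
  have hRW : Pres π R (wt π Z ⊤ μ) := pres_wt_of_inv π h.hRZ hRμ
  have hvbr : v ∈ br π ⁅P, R⁆ := wt_le_br hRN (commutator_mono hNP le_rfl) hlR hv
  have h1 : π d v = v := by
    refine trivial_of_not_fixed π (br π ⁅P, R⁆ ⊓ wt π Z ⊤ μ) (A := N) (R := R)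
      (fun a ha w hw => ⟨pres_br hRB a ha w hw.1, hRW a ha w hw.2⟩) hRN (by rw [h.hR]; exact h.hr)
      (fun w hw => ⟨pres_br hPB d (hNP hd) w hw.1, hPW d (hNP hd) w hw.2⟩) ?_ hdR
      (fun w hw hwR => hinv w hw.1 hwR) l hlR v ⟨⟨hvbr, hv.1⟩, hv.2⟩
    intro a ha w hw
    exact comm_on_wt (h.hPP _ (hNP ha) _ (hNP hd)) (hN a ha d (hNP hd))
      (hPW d (hNP hd) _ (hPW a (hNP ha) w hw.2))
  rw [hv.2 d hd] at h1
  have h2 : (l d - 1) • v = 0 := by rw [sub_smul, one_smul, h1, sub_self]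
  exact sub_eq_zero.mp ((smul_eq_zero.mp h2).resolve_right hv0)

/-- **The key lemma.** -/
theorem kl (h : LD P Z A R r s q) (π : Representation E G V) (hsE : (s : E) ≠ 0)
    (hrE : (r : E) ≠ 0) (Y : Subgroup G) (hY : IsPGroup q Y)
    (hYR : ∀ y ∈ Y, ∀ a ∈ R, y * a = a * y) (hYP : Y ≤ normalizer (P : Set G))
    (hZY : ∀ z ∈ Z, ∀ y ∈ Y, z * y = y * z)
    (hAY : ∀ a ∈ A, ∀ y ∈ Y, ∀ x ∈ P, ⁅a, y⁆ * x = x * ⁅a, y⁆) {D : Subgroup G}
    (hD : D = ⁅⁅P, A⁆ ⊓ centralizer (R : Set G), Y⁆)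
    (hinv : ∀ x ∈ D, Inv π ⁅P, R⁆ R x) : ∀ x ∈ D, π x = 1 := by
  classical
  have : Fintype R := Fintype.ofFinite R
  set L := ⁅P, A⁆ with hL
  set C := L ⊓ centralizer (R : Set G) with hC
  have hLP : L ≤ P := Lib.CoprimeCommutator.commutator_le_left h.hAP
  have hYL : Y ≤ normalizer (L : Set G) := le_normalizer_L hYP h.hAP hAY
  have hRL : R ≤ normalizer (L : Set G) := le_normalizer_commutator h.hRP h.hRA
  have hYcR : Y ≤ normalizer (R : Set G) := by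
    refine le_norm fun y hy a ha => ?_
    rw [hYR y hy a ha, mul_inv_cancel_right]
    exact ha
  have hYC : Y ≤ normalizer (C : Set G) :=
    le_normalizer_inf hYL (le_normalizer_centralizer hYcR)
  have hDC : D ≤ C := by
    rw [hD]
    exact Lib.CoprimeCommutator.commutator_le_left hYC
  have hDP : D ≤ P := hDC.trans (inf_le_left.trans hLP)
  have hDR : ∀ d ∈ D, d ∈ centralizer (R : Set G) := fun d hd => (hDC hd).2
  have hCs : IsPGroup s C := h.hP.to_le (inf_le_left.trans hLP)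
  have hDY : ⁅D, Y⁆ = D := by
    rw [hD]
    exact Lib.CoprimeCommutator.commutator_commutator_eq Y C hYC (cop_card h.hs h.hq h.hqs.symm hY hCs)
  have hZμY : ∀ μ : G → E, ∀ g ∈ Y, ∀ z ∈ Z, μ (g * z * g⁻¹) = μ z := by
    intro μ g hg z hz
    rw [← hZY z hz g hg, mul_inv_cancel_right]
  -- it suffices to consider weight spaces of `Z`
  suffices hkey : ∀ μ : G → E, wt π Z ⊤ μ ≤ fix π D by
    have hZE : (Nat.card Z : E) ≠ 0 := card_ne_zero_of_pgroup h.hs (h.hP.to_le h.hZP) hsE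
    have h1 : (⊤ : Submodule E V) ≤ fix π D := by
      refine le_of_wt_le hZE (fun _ _ _ _ => Submodule.mem_top) (fun a ha b hb w _ => ?_) _ hkey
      rw [← mul_apply', ← mul_apply', h.hZ a ha b (h.hZP hb)]
    intro x hx
    apply LinearMap.ext
    intro v
    exact h1 (Submodule.mem_top : v ∈ ⊤) x hx
  intro μ
  by_cases hbot : wt π Z ⊤ μ = ⊥
  · rw [hbot]; exact bot_le
  obtain ⟨h1, h2, -, -⟩ := wt_facts hbot
  by_cases hμ : ∀ a ∈ R, Same Z (cj a μ) μ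
  swap
  · intro w hw d hd
    exact trivial_of_noninv h hμ (hDP hd) (hDR d hd) (hinv d hd) w hw
  have hRμ := R_inv_iff h hμ
  set N := rad h.hPP h.hZ μ h1 h2 with hN
  have hNP : N ≤ P := fun x hx => hx.1
  have hNr : ∀ x ∈ N, ∀ y ∈ P, μ ⁅x, y⁆ = 1 := fun x hx => hx.2
  have hZN : Z ≤ N := by
    intro z hz
    refine ⟨h.hZP hz, fun y hy => ?_⟩
    rw [commutatorElement_eq_one_iff_mul_comm.mpr (h.hZ z hz y hy), h1]
  have hAN : A ≤ normalizer (N : Set G) := le_normalizer_rad h.hAP (cent_inv h)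
  have hRN : R ≤ normalizer (N : Set G) := le_normalizer_rad h.hRP hRμ
  have hYN : Y ≤ normalizer (N : Set G) := le_normalizer_rad hYP (hZμY μ)
  have hPW : Pres π P (wt π Z ⊤ μ) := pres_wt_of_comm π h.hZ
  have hAW : Pres π A (wt π Z ⊤ μ) := pres_wt_of_comm π h.hZA
  have hRW : Pres π R (wt π Z ⊤ μ) := pres_wt_of_inv π h.hRZ hRμ
  -- `D` lies in the radical
  have hDN : D ≤ N := by
    by_contra hcon
    obtain ⟨d, hd, hdN⟩ := SetLike.not_le_iff_exists.mp hcon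
    have hd' : ∃ d' ∈ D, μ ⁅d, d'⁆ ≠ 1 := by
      by_contra hc
      push Not at hc
      apply hdN
      refine ⟨hDP hd, ?_⟩
      have h3 : ∀ c ∈ C, μ ⁅d, c⁆ = 1 := by
        refine ndg_beta h.hPP h.hZ h.hPs h1 h2 (inf_le_left.trans hLP) hYC (hZμY μ)
          (cop_s h h.hq h.hqs hY) (by rw [← hD]; exact hd) ?_
        rw [← hD]
        exact hc
      have h4 : ∀ p ∈ L, μ ⁅d, p⁆ = 1 := by
        intro p hp
        obtain ⟨c, hcL, hcR, hcp⟩ := exists_cent_mul h.hr (isPGroup_R h) hRL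
          (cop_of_ne h.hr h.hs h.hrs (h.hP.to_le hLP)) hp
        have h5 : c⁻¹ * p ∈ ⁅P, R⁆ := commutator_mono hLP le_rfl hcp
        have h6 : c⁻¹ * p ∈ P := Lib.CoprimeCommutator.commutator_le_left h.hRP h5
        have h7 : p = c * (c⁻¹ * p) := by group
        rw [h7, comm_mul_right h.hPP h.hZ (hDP hd) (hLP hcL) h6,
          h2 _ (h.hPP _ (hDP hd) _ (hLP hcL)) _ (h.hPP _ (hDP hd) _ h6), h3 c ⟨hcL, hcR⟩,
          comm_kills h h1 h2 hRμ (hDP hd) (hDR d hd) _ h5, one_mul]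
      exact ndg_beta h.hPP h.hZ h.hPs h1 h2 le_rfl h.hAP (cent_inv h)
        (cop_s h h.hq h.hqs h.hA) (hDC hd).1 h4
    obtain ⟨d', hd', hne⟩ := hd'
    have hne' : ∃ x ∈ ⁅P, A⁆, ∃ y ∈ P, μ ⁅x, y⁆ ≠ 1 := ⟨d, (hDC hd).1, d', hDP hd', hne⟩
    obtain ⟨v, hv, hv0, hvR⟩ := ha h π hsE hrE μ hRμ hbot hne'
    exact hne (mu_eq_one_of_fixed h (exists_BB h h1 h2 hRμ hne') hv hv0 hvR (hDP hd) (hDP hd')
      (hDR d' hd') (hinv d hd))
  -- weights of the radical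
  have hNE : (Nat.card N : E) ≠ 0 := card_ne_zero_of_pgroup h.hs (h.hP.to_le hNP) hsE
  refine le_of_wt_le hNE (hPW.mono hNP) (fun a ha b hb w hw => ?_) _ fun l => ?_
  · exact comm_on_wt (h.hPP _ (hNP ha) _ (hNP hb)) (hNr a ha b (hNP hb))
      (hPW b (hNP hb) _ (hPW a (hNP ha) w hw))
  by_cases hlbot : wt π N (wt π Z ⊤ μ) l = ⊥
  · rw [hlbot]; exact bot_le
  intro w hw d hd
  have G3 : ∀ l : G → E, wt π N (wt π Z ⊤ μ) l ≠ ⊥ → (¬ ∀ a ∈ R, Same N (cj a l) l) →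
      ∀ d ∈ D, l d = 1 := fun l hl hlR d hd =>
    G3_aux h hRμ hNP hNr hRN hl hlR (hDN hd) (hDR d hd) (hinv d hd)
  suffices hld : l d = 1 by rw [hw.2 d (hDN hd), hld, one_smul]
  refine kl_core h π hNP hDN hAN hRN hAW hRW
    (fun d hd a ha => mem_centralizer_iff.mp (hDR d hd) a ha) G3 ?_ ?_ l hlbot d hd
  · -- invariant under `A`
    intro l hl hlA d hd
    obtain ⟨l1, lm, l0, li⟩ := wt_facts hl
    have lZ := lam_facts h hZN hl
    have hf : ∀ y ∈ Y, ∀ x ∈ D, l ⁅x, y⁆ = 1 := by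
      intro y hy x hx
      -- `f x = l x * l (y x⁻¹ y⁻¹)`
      have hyN : ∀ u ∈ N, y * u * y⁻¹ ∈ N := fun u hu => Sect.conj_mem hYN hy hu
      let f : G → E := fun u => l u * l (y * u⁻¹ * y⁻¹)
      have hf0 : ∀ u : G, f u = l u * l (y * u⁻¹ * y⁻¹) := fun u => rfl
      have hfm : ∀ u ∈ N, ∀ w ∈ N, f (u * w) = f u * f w := by
        intro u hu w hw
        have e1 : y * (u * w)⁻¹ * y⁻¹ = (y * w⁻¹ * y⁻¹) * (y * u⁻¹ * y⁻¹) := by group
        rw [hf0, hf0, hf0, lm u hu w hw, e1, lm _ (hyN _ (N.inv_mem hw)) _ (hyN _ (N.inv_mem hu))]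
        ring
      have hfcomm : ∀ u ∈ N, l ⁅u, y⁆ = f u := by
        intro u hu
        rw [hf0, ← lm u hu _ (hyN _ (N.inv_mem hu))]
        congr 1
        simp only [commutatorElement_def]
        group
      have hf1 : f 1 = 1 := by
        rw [hf0]
        have e1 : y * (1 : G)⁻¹ * y⁻¹ = 1 := by group
        rw [e1, l1, one_mul]
      have hfZ : ∀ z ∈ Z, f z = 1 := by
        intro z hz
        rw [hf0]
        have e1 : y * z⁻¹ * y⁻¹ = z⁻¹ := by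
          rw [← hZY _ (Z.inv_mem hz) y hy, mul_inv_cancel_right]
        rw [e1, ← lm z (hZN hz) _ (N.inv_mem (hZN hz)), mul_inv_cancel, l1]
      have hfA : ∀ a ∈ A, ∀ u ∈ N, f (a * u * a⁻¹) = f u := by
        intro a ha u hu
        rw [hf0, hf0, hlA a ha u hu]
        have e1 : y * (a * u * a⁻¹)⁻¹ * y⁻¹ = a * (y * u⁻¹ * y⁻¹) * a⁻¹ := by
          rw [conj_comm hYP h.hAP hAY ha hy (P.inv_mem (hNP hu))]
          group
        rw [e1, hlA a ha _ (hyN _ (N.inv_mem hu))]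
      rw [hfcomm x (hDN hx)]
      -- `x = c w` with `c` in `Z`, `w` in `[N, A]`
      obtain ⟨c, hcN, hcA, hcx⟩ := exists_cent_mul h.hq h.hA hAN
        (cop_of_ne h.hq h.hs h.hqs (h.hP.to_le hNP)) (hDN hx)
      have hcxL : c⁻¹ * x ∈ L := commutator_mono hNP le_rfl hcx
      have hcL : c ∈ L := by
        have e1 : c = x * (c⁻¹ * x)⁻¹ := by group
        rw [e1]
        exact L.mul_mem (hDC hx).1 (L.inv_mem hcxL)
      have hAL : A ≤ normalizer (L : Set G) :=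
        Lib.CoprimeCommutator.right_le_normalizer_commutator P A
      have hcopA : (Nat.card A).Coprime (Nat.card P) := cop_card h.hs h.hq h.hqs.symm h.hA h.hP
      have hLA : ⁅L, A⁆ = L := Lib.CoprimeCommutator.commutator_commutator_eq A P h.hAP hcopA
      have hcZ : c ∈ Z := by
        refine cent_le_gen (R := A) (F := L)
          (hcopA.coprime_dvd_right (Subgroup.card_dvd_of_le hLP)) ?_ hAL hLA ⟨hcL, hcA⟩
        rw [commutator_le]
        exact fun x hx y hy => h.hPP x (hLP hx) y (hLP hy)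
      have e1 : x = c * (c⁻¹ * x) := by group
      rw [e1, hfm c hcN _ (Lib.CoprimeCommutator.commutator_le_left hAN hcx), hfZ c hcZ,
        kills hAN f hf1 hfm hfA _ hcx, one_mul]
    have hker : ⁅D, Y⁆ ≤ D := Lib.CoprimeCommutator.commutator_le_left (by
      rw [hD]
      exact Lib.CoprimeCommutator.right_le_normalizer_commutator C Y)
    let S : Subgroup G :=
      { carrier := {x | x ∈ N ∧ l x = 1}
        one_mem' := ⟨N.one_mem, l1⟩
        mul_mem' := fun {a b} ha hb => ⟨N.mul_mem ha.1 hb.1, by rw [lm _ ha.1 _ hb.1, ha.2, hb.2, one_mul]⟩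
        inv_mem' := fun {a} ha => ⟨N.inv_mem ha.1, by rw [li _ ha.1, ha.2, inv_one]⟩ }
    have hDS : ⁅D, Y⁆ ≤ S := by
      rw [commutator_le]
      intro x hx y hy
      exact ⟨hDN (hker (commutator_mem_commutator hx hy)), hf y hy x hx⟩
    rw [hDY] at hDS
    exact (hDS hd).2
  · -- the product
    intro l hl hlR a ha
    obtain ⟨l1, lm, l0, li⟩ := wt_facts hl
    let Θ : G → E := fun x => ∏ j : R, l ((j : G) * (a * x * a⁻¹) * (j : G)⁻¹)
    have hΘ : ∀ x, Θ x = ∏ j : R, l ((j : G) * (a * x * a⁻¹) * (j : G)⁻¹) := fun x => rfl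
    have haN : ∀ x ∈ N, a * x * a⁻¹ ∈ N := fun x hx => Sect.conj_mem hAN ha hx
    have hΘm : ∀ x ∈ N, ∀ y ∈ N, Θ (x * y) = Θ x * Θ y := by
      intro x hx y hy
      rw [hΘ, hΘ, hΘ, ← Finset.prod_mul_distrib]
      refine Finset.prod_congr rfl fun j _ => ?_
      rw [← lm _ (Sect.conj_mem hRN j.2 (haN x hx)) _ (Sect.conj_mem hRN j.2 (haN y hy))]
      congr 1
      group
    have hΘ1 : Θ 1 = 1 := by
      rw [hΘ]
      refine Finset.prod_eq_one fun j _ => ?_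
      have e1 : (j : G) * (a * 1 * a⁻¹) * (j : G)⁻¹ = 1 := by group
      rw [e1, l1]
    have hΘY : ∀ x ∈ D, ∀ y ∈ Y, Θ ⁅x, y⁆ = 1 := by
      intro x hx y hy
      have hu : a * x * a⁻¹ ∈ N := haN x (hDN hx)
      have hyN : ∀ u ∈ N, y * u * y⁻¹ ∈ N := fun u hu => Sect.conj_mem hYN hy hu
      have hNRle : ⁅N, R⁆ ≤ N := Lib.CoprimeCommutator.commutator_le_left hRN
      -- redo the decomposition inside `N ⊓ L`
      have haL : A ≤ normalizer (L : Set G) :=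
        Lib.CoprimeCommutator.right_le_normalizer_commutator P A
      have huNL : a * x * a⁻¹ ∈ N ⊓ L := ⟨hu, Sect.conj_mem haL ha (hDC hx).1⟩
      have hRNL : R ≤ normalizer ((N ⊓ L : Subgroup G) : Set G) := le_normalizer_inf hRN hRL
      obtain ⟨c, hcNL, hcR, hcu⟩ := exists_cent_mul h.hr (isPGroup_R h) hRNL
        (cop_of_ne h.hr h.hs h.hrs (h.hP.to_le (inf_le_left.trans hNP))) huNL
      have hcu' : c⁻¹ * (a * x * a⁻¹) ∈ ⁅N, R⁆ := commutator_mono inf_le_left le_rfl hcu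
      -- the invariant product
      let H : G → E := fun u => ∏ j : R, l ((j : G) * u * (j : G)⁻¹)
      have hH : ∀ u, H u = ∏ j : R, l ((j : G) * u * (j : G)⁻¹) := fun u => rfl
      have hHm : ∀ u ∈ N, ∀ w ∈ N, H (u * w) = H u * H w := by
        intro u hu w hw
        rw [hH, hH, hH, ← Finset.prod_mul_distrib]
        refine Finset.prod_congr rfl fun j _ => ?_
        rw [← lm _ (Sect.conj_mem hRN j.2 hu) _ (Sect.conj_mem hRN j.2 hw)]
        congr 1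
        group
      have hHk : ∀ u ∈ ⁅N, R⁆, H u = 1 := by
        refine kills hRN H ?_ hHm ?_
        · rw [hH]
          refine Finset.prod_eq_one fun j _ => ?_
          rw [mul_one, mul_inv_cancel, l1]
        · intro g hg u hu
          rw [hH, hH]
          refine Fintype.prod_equiv (Equiv.mulRight ⟨g, hg⟩) _ _ fun j => ?_
          congr 1
          show (j : G) * (g * u * g⁻¹) * (j : G)⁻¹ =
            ((j * ⟨g, hg⟩ : R) : G) * u * ((j * ⟨g, hg⟩ : R) : G)⁻¹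
          rw [Subgroup.coe_mul]
          group
      have hHc : ∀ u, u ∈ centralizer (R : Set G) → H u = l u ^ r := by
        intro u hu
        rw [hH]
        have e1 : ∀ j ∈ (Finset.univ : Finset R), l ((j : G) * u * (j : G)⁻¹) = l u := by
          intro j _
          congr 1
          rw [mem_centralizer_iff.mp hu j j.2, mul_inv_cancel_right]
        rw [Finset.prod_congr rfl e1, Finset.prod_const, Finset.card_univ,
          ← Nat.card_eq_fintype_card, h.hR]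
      -- the two decompositions
      have e1 : H (a * x * a⁻¹) = l c ^ r := by
        have e2 : a * x * a⁻¹ = c * (c⁻¹ * (a * x * a⁻¹)) := by group
        rw [e2, hHm c hcNL.1 _ (hNRle hcu'), hHc c hcR, hHk _ hcu', mul_one]
      have hycR : y * c⁻¹ * y⁻¹ ∈ centralizer (R : Set G) :=
        Sect.conj_mem (le_normalizer_centralizer hYcR) hy (inv_mem hcR)
      have hcu2 : y * (c⁻¹ * (a * x * a⁻¹))⁻¹ * y⁻¹ ∈ ⁅N, R⁆ :=
        Sect.conj_mem (le_normalizer_commutator hYN hYcR) hy (inv_mem hcu')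
      have e3 : H (y * (a * x * a⁻¹)⁻¹ * y⁻¹) = l (y * c⁻¹ * y⁻¹) ^ r := by
        have e4 : y * (a * x * a⁻¹)⁻¹ * y⁻¹ =
            (y * (c⁻¹ * (a * x * a⁻¹))⁻¹ * y⁻¹) * (y * c⁻¹ * y⁻¹) := by group
        rw [e4, hHm _ (hNRle hcu2) _ (hyN _ (N.inv_mem hcNL.1)), hHk _ hcu2, one_mul,
          hHc _ hycR]
      have e5 : a * ⁅x, y⁆ * a⁻¹ = (a * x * a⁻¹) * (y * (a * x * a⁻¹)⁻¹ * y⁻¹) := by
        have e6 := conj_comm hYP h.hAP hAY ha hy (P.inv_mem (hDP hx))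
        calc a * ⁅x, y⁆ * a⁻¹ = (a * x * a⁻¹) * (a * (y * x⁻¹ * y⁻¹) * a⁻¹) := by
              simp only [commutatorElement_def]
              group
          _ = _ := by rw [e6]; group
      show H (a * ⁅x, y⁆ * a⁻¹) = 1
      rw [e5, hHm _ hu _ (hyN _ (N.inv_mem hu)), e1, e3, ← mul_pow,
        ← lm c hcNL.1 _ (hyN _ (N.inv_mem hcNL.1))]
      have e7 : c * (y * c⁻¹ * y⁻¹) = ⁅c, y⁆ := by
        simp only [commutatorElement_def]
        group
      rw [e7, G3 l hl hlR ⁅c, y⁆ (by rw [hD]; exact commutator_mem_commutator ⟨hcNL.2, hcR⟩ hy),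
        one_pow]
    intro d hd
    have hker : ⁅D, Y⁆ ≤ D := Lib.CoprimeCommutator.commutator_le_left (by
      rw [hD]
      exact Lib.CoprimeCommutator.right_le_normalizer_commutator C Y)
    let φ : N →* E :=
      { toFun := fun x => Θ x
        map_one' := hΘ1
        map_mul' := fun x y => hΘm x x.2 y y.2 }
    have hDS : ⁅D, Y⁆ ≤ (MonoidHom.ker φ).map N.subtype := by
      rw [commutator_le]
      intro x hx y hy
      exact ⟨⟨⁅x, y⁆, hDN (hker (commutator_mem_commutator hx hy))⟩, hΘY x hx y hy, rfl⟩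
    rw [hDY] at hDS
    obtain ⟨u, hu, rfl⟩ := hDS hd
    exact hu

/-- **The key lemma without `Y`.** -/
theorem kl0 (h : LD P Z A R r s q) (π : Representation E G V) (hsE : (s : E) ≠ 0)
    (hrE : (r : E) ≠ 0) (hPA : ⁅P, A⁆ = P)
    (hinv : ∀ x ∈ P ⊓ centralizer (R : Set G), Inv π ⁅P, R⁆ R x) :
    ∀ x ∈ P ⊓ centralizer (R : Set G), π x = 1 := by
  classical
  have : Fintype R := Fintype.ofFinite R
  set D := P ⊓ centralizer (R : Set G) with hD
  have hDP : D ≤ P := inf_le_left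
  have hDR : ∀ d ∈ D, d ∈ centralizer (R : Set G) := fun d hd => hd.2
  suffices hkey : ∀ μ : G → E, wt π Z ⊤ μ ≤ fix π D by
    have hZE : (Nat.card Z : E) ≠ 0 := card_ne_zero_of_pgroup h.hs (h.hP.to_le h.hZP) hsE
    have h1 : (⊤ : Submodule E V) ≤ fix π D := by
      refine le_of_wt_le hZE (fun _ _ _ _ => Submodule.mem_top) (fun a ha b hb w _ => ?_) _ hkey
      rw [← mul_apply', ← mul_apply', h.hZ a ha b (h.hZP hb)]
    intro x hx
    apply LinearMap.ext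
    intro v
    exact h1 (Submodule.mem_top : v ∈ ⊤) x hx
  intro μ
  by_cases hbot : wt π Z ⊤ μ = ⊥
  · rw [hbot]; exact bot_le
  obtain ⟨h1, h2, -, -⟩ := wt_facts hbot
  by_cases hμ : ∀ a ∈ R, Same Z (cj a μ) μ
  swap
  · intro w hw d hd
    exact trivial_of_noninv h hμ (hDP hd) (hDR d hd) (hinv d hd) w hw
  have hRμ := R_inv_iff h hμ
  have hPW : Pres π P (wt π Z ⊤ μ) := pres_wt_of_comm π h.hZ
  have hAW : Pres π A (wt π Z ⊤ μ) := pres_wt_of_comm π h.hZA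
  have hRW : Pres π R (wt π Z ⊤ μ) := pres_wt_of_inv π h.hRZ hRμ
  -- the form is zero
  have hform : ∀ x ∈ P, ∀ y ∈ P, μ ⁅x, y⁆ = 1 := by
    by_contra hcon
    push Not at hcon
    obtain ⟨x, hx, y, hy, hxy⟩ := hcon
    have hne' : ∃ x ∈ ⁅P, A⁆, ∃ y ∈ P, μ ⁅x, y⁆ ≠ 1 := ⟨x, by rw [hPA]; exact hx, y, hy, hxy⟩
    obtain ⟨v, hv, hv0, hvR⟩ := ha h π hsE hrE μ hRμ hbot hne'
    have hBB := exists_BB h h1 h2 hRμ hne'
    have hzfix : ∀ z ∈ Z, z ∈ centralizer (R : Set G) → μ z = 1 := by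
      intro z hz hzR
      have h3 := hinv z ⟨h.hZP hz, hzR⟩ v (wt_le_br_of_BB h hBB hv) hvR
      rw [hv.2 z hz] at h3
      have h4 : (μ z - 1) • v = 0 := by rw [sub_smul, one_smul, h3, sub_self]
      exact sub_eq_zero.mp ((smul_eq_zero.mp h4).resolve_right hv0)
    apply hxy
    obtain ⟨c, hcZ, hcR, hcu⟩ := exists_cent_mul h.hr (isPGroup_R h) h.hRZ
      (cop_of_ne h.hr h.hs h.hrs (h.hP.to_le h.hZP)) (h.hPP x hx y hy)
    have hle : ⁅Z, R⁆ ≤ Z := Lib.CoprimeCommutator.commutator_le_left h.hRZ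
    have h5 : ⁅x, y⁆ = c * (c⁻¹ * ⁅x, y⁆) := by group
    rw [h5, h2 c hcZ _ (hle hcu), hzfix c hcZ hcR, kills h.hRZ μ h1 h2 hRμ _ hcu, one_mul]
  have hPE : (Nat.card P : E) ≠ 0 := card_ne_zero_of_pgroup h.hs h.hP hsE
  refine le_of_wt_le hPE hPW (fun a ha b hb w hw => ?_) _ fun l => ?_
  · exact comm_on_wt (h.hPP _ ha _ hb) (hform a ha b hb) (hPW b hb _ (hPW a ha w hw))
  by_cases hlbot : wt π P (wt π Z ⊤ μ) l = ⊥
  · rw [hlbot]; exact bot_le
  intro w hw d hd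
  have G3 : ∀ l : G → E, wt π P (wt π Z ⊤ μ) l ≠ ⊥ → (¬ ∀ a ∈ R, Same P (cj a l) l) →
      ∀ d ∈ D, l d = 1 := fun l hl hlR d hd =>
    G3_aux h hRμ le_rfl hform h.hRP hl hlR (hDP hd) (hDR d hd) (hinv d hd)
  suffices hld : l d = 1 by rw [hw.2 d (hDP hd), hld, one_smul]
  refine kl_core h π le_rfl hDP h.hAP h.hRP hAW hRW
    (fun d hd a ha => mem_centralizer_iff.mp (hDR d hd) a ha) G3 ?_ ?_ l hlbot d hd
  · intro l hl hlA d hd
    obtain ⟨l1, lm, l0, li⟩ := wt_facts hl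
    exact kills h.hAP l l1 lm hlA d (by rw [hPA]; exact hDP hd)
  · intro l hl hlR a ha d hd
    obtain ⟨l1, lm, l0, li⟩ := wt_facts hl
    obtain ⟨c, hcN, hcR, hcu, hprod⟩ := prod_kills h le_rfl h.hRP l1 lm
      (Sect.conj_mem h.hAP ha (hDP hd))
    rw [hprod, G3 l hl hlR c ⟨hcN, hcR⟩, one_pow]

/-- **Invisible elements are central.** -/
theorem nv (h : LD P Z A R r s q) (π : Representation E G V) (hsE : (s : E) ≠ 0)
    (hrE : (r : E) ≠ 0) (hPA : ⁅P, A⁆ = P) {x : G} (hx : x ∈ P)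
    (hxR : x ∈ centralizer (R : Set G)) (hinv : Inv π ⁅P, R⁆ R x) :
    ∀ p ∈ P, π ⁅x, p⁆ = 1 := by
  intro p hp
  have hxp : ⁅x, p⁆ ∈ P := h.hZP (h.hPP x hx p hp)
  suffices hkey : ∀ μ : G → E, wt π Z ⊤ μ ≤ fix π (zpowers ⁅x, p⁆) by
    have hZE : (Nat.card Z : E) ≠ 0 := card_ne_zero_of_pgroup h.hs (h.hP.to_le h.hZP) hsE
    have h1 : (⊤ : Submodule E V) ≤ fix π (zpowers ⁅x, p⁆) := by
      refine le_of_wt_le hZE (fun _ _ _ _ => Submodule.mem_top) (fun a ha b hb w _ => ?_) _ hkey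
      rw [← mul_apply', ← mul_apply', h.hZ a ha b (h.hZP hb)]
    apply LinearMap.ext
    intro v
    exact h1 (Submodule.mem_top : v ∈ ⊤) _ (mem_zpowers _)
  have hfix : ∀ v : V, π ⁅x, p⁆ v = v → v ∈ fix π (zpowers ⁅x, p⁆) := by
    intro v hv a ha
    obtain ⟨n, rfl⟩ := ((isOfFinOrder_of_finite _).mem_powers_iff_mem_zpowers.mpr ha)
    show π (⁅x, p⁆ ^ n) v = v
    induction n with
    | zero => rw [pow_zero, map_one]; rfl
    | succ n ih => rw [pow_succ, mul_apply', hv]; exact ih (npow_mem_zpowers _ _)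
  intro μ
  by_cases hbot : wt π Z ⊤ μ = ⊥
  · rw [hbot]; exact bot_le
  obtain ⟨h1, h2, -, -⟩ := wt_facts hbot
  have hPW : Pres π P (wt π Z ⊤ μ) := pres_wt_of_comm π h.hZ
  by_cases hμ : ∀ a ∈ R, Same Z (cj a μ) μ
  swap
  · intro w hw
    apply hfix
    have h3 := trivial_of_noninv h hμ hx hxR hinv
    have h4 : ∀ w ∈ wt π Z ⊤ μ, π x⁻¹ w = w := by
      intro w hw
      have := inv_apply π x w
      rwa [h3 w hw] at this
    rw [commutatorElement_def, mul_apply', mul_apply', mul_apply',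
      h4 _ (hPW p⁻¹ (P.inv_mem hp) w hw), apply_inv, h3 w hw]
  have hRμ := R_inv_iff h hμ
  have hone : μ ⁅x, p⁆ = 1 := by
    by_contra hne
    have hne' : ∃ x ∈ ⁅P, A⁆, ∃ y ∈ P, μ ⁅x, y⁆ ≠ 1 := ⟨x, by rw [hPA]; exact hx, p, hp, hne⟩
    obtain ⟨v, hv, hv0, hvR⟩ := ha h π hsE hrE μ hRμ hbot hne'
    have hBB := exists_BB h h1 h2 hRμ hne'
    obtain ⟨c, hcP, hcR, hcu⟩ := exists_cent_mul h.hr (isPGroup_R h) h.hRP
      (cop_of_ne h.hr h.hs h.hrs h.hP) hp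
    have hle : ⁅P, R⁆ ≤ P := Lib.CoprimeCommutator.commutator_le_left h.hRP
    apply hne
    have h5 : p = c * (c⁻¹ * p) := by group
    rw [h5, comm_mul_right h.hPP h.hZ hx hcP (hle hcu),
      h2 _ (h.hPP x hx c hcP) _ (h.hPP x hx _ (hle hcu)),
      mu_eq_one_of_fixed h hBB hv hv0 hvR hx hcP hcR hinv, comm_kills h h1 h2 hRμ hx hxR _ hcu,
      one_mul]
  intro w hw
  apply hfix
  rw [hw.2 _ (h.hPP x hx p hp), hone, one_smul]

end Cfsg.Agent.H575.KL
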