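import Cfsg.Agent.H575.HA

/-!
# Weights of an abelian group and its automorphisms
-/

set_option autoImplicit false
set_option linter.unusedSectionVars false

namespace Cfsg.Agent.H575.KL

open Module Subgroup Cfsg.Agent.H575.Dim Cfsg.Agent.H575.Weights Cfsg.Agent.H575.Sect
  Cfsg.Agent.H575.Fix Cfsg.Agent.H575.Lev Cfsg.Agent.H575.ModM
  Cfsg.Agent.H575.Mult Cfsg.Agent.H575.HA
open scoped commutatorElement

variable {E : Type*} [Field E] {G V : Type*} [Group G] [AddCommGroup V] [Module E V]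

/-- the commutator space -/
def br (π : Representation E G V) (B : Subgroup G) : Submodule E V :=
  Submodule.span E {w | ∃ b ∈ B, ∃ u, w = π b u - u}

/-- triviality on the fixed points of `R` in `[V, B]` -/
def Inv (π : Representation E G V) (B R : Subgroup G) (x : G) : Prop :=
  ∀ v ∈ br π B, (∀ a ∈ R, π a v = v) → π x v = v

theorem pres_br {π : Representation E G V} {B H : Subgroup G}
    (hH : H ≤ normalizer (B : Set G)) : Pres π H (br π B) := by
  intro g hg w hw
  have h1 : (br π B).map (π g) ≤ br π B := by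
    rw [br, Submodule.map_span, Submodule.span_le]
    rintro _ ⟨_, ⟨b, hb, u, rfl⟩, rfl⟩
    refine Submodule.subset_span ⟨g * b * g⁻¹, Sect.conj_mem hH hg hb, π g u, ?_⟩
    rw [map_sub, mul_apply', mul_apply', inv_apply]
  exact h1 ⟨w, hw, rfl⟩

theorem mem_br_of_scal {π : Representation E G V} {B : Subgroup G} {b : G} (hb : b ∈ B) {v : V}
    {c : E} (hv : π b v = c • v) (hc : c ≠ 1) : v ∈ br π B := by
  have h1 : v = (c - 1)⁻¹ • (π b v - v) := by
    rw [hv]
    have h2 : c • v - v = (c - 1) • v := by rw [sub_smul, one_smul]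
    rw [h2, smul_smul, inv_mul_cancel₀ (sub_ne_zero.mpr hc), one_smul]
  rw [h1]
  exact Submodule.smul_mem _ _ (Submodule.subset_span ⟨b, hb, v, rfl⟩)

/-- functions multiplicative on `K` and invariant under `S` are trivial on `[K, S]` -/
theorem kills {K S : Subgroup G} (hS : S ≤ normalizer (K : Set G)) (f : G → E)
    (f1 : f 1 = 1) (fm : ∀ x ∈ K, ∀ y ∈ K, f (x * y) = f x * f y)
    (finv : ∀ g ∈ S, ∀ x ∈ K, f (g * x * g⁻¹) = f x) : ∀ x ∈ ⁅K, S⁆, f x = 1 := by
  let φ : K →* E :=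
    { toFun := fun x => f x
      map_one' := f1
      map_mul' := fun x y => fm x x.2 y y.2 }
  have hker : ⁅K, S⁆ ≤ (MonoidHom.ker φ).map K.subtype := by
    rw [commutator_le]
    intro x hx g hg
    have h0 : g * x⁻¹ * g⁻¹ ∈ K := Sect.conj_mem hS hg (K.inv_mem hx)
    refine ⟨⟨x, hx⟩ * ⟨g * x⁻¹ * g⁻¹, h0⟩, ?_, ?_⟩
    · show f (x * (g * x⁻¹ * g⁻¹)) = 1
      rw [fm x hx _ h0, finv g hg _ (K.inv_mem hx), ← fm x hx _ (K.inv_mem hx), mul_inv_cancel, f1]
    · show x * (g * x⁻¹ * g⁻¹) = ⁅x, g⁆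
      rw [commutatorElement_def]
      group
  intro x hx
  obtain ⟨y, hy, rfl⟩ := hker hx
  exact hy

/-- a weight which is not invariant lives in the commutator space -/
theorem wt_le_br {π : Representation E G V} {A R B : Subgroup G} {W : Submodule E V} {l : G → E}
    (hRA : R ≤ normalizer (A : Set G)) (hB : ⁅A, R⁆ ≤ B)
    (hl : ¬ ∀ a ∈ R, Same A (cj a l) l) : wt π A W l ≤ br π B := by
  intro v hv
  by_cases hbot : wt π A W l = ⊥
  · rw [hbot, Submodule.mem_bot] at hv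
    rw [hv]
    exact Submodule.zero_mem _
  obtain ⟨h1, h2, h3, h4⟩ := wt_facts hbot
  push Not at hl
  obtain ⟨a, ha, hne⟩ := hl
  have hne' : ∃ x ∈ A, l (a⁻¹ * x * a) ≠ l x := by
    by_contra hc
    push Not at hc
    exact hne hc
  obtain ⟨x, hx, hxne⟩ := hne'
  have hx' : a⁻¹ * x * a ∈ A := by
    have := Sect.conj_mem hRA (R.inv_mem ha) hx
    rwa [inv_inv] at this
  have hb : x⁻¹ * (a⁻¹ * x * a) ∈ B := by
    have h5 : x⁻¹ * (a⁻¹ * x * a) = ⁅x⁻¹, a⁻¹⁆ := by
      rw [commutatorElement_def]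
      group
    rw [h5]
    exact hB (commutator_mem_commutator (A.inv_mem hx) (R.inv_mem ha))
  refine mem_br_of_scal hb (hv.2 _ (A.mul_mem (A.inv_mem hx) hx')) ?_
  rw [h2 _ (A.inv_mem hx) _ hx', h4 x hx]
  intro h5
  apply hxne
  rw [inv_mul_eq_one₀ (h3 x hx)] at h5
  exact h5.symm

variable [Finite G] {P Z A R : Subgroup G} {r s q : ℕ}

/-- `C_A(R)` is central in `A` modulo the centralizer of `P` -/
theorem cent_comm (h : LD P Z A R r s q) {c : G} (hc : c ∈ A ⊓ centralizer (R : Set G)) {a : G}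
    (ha : a ∈ A) {x : G} (hx : x ∈ P) : ⁅c, a⁆ * x = x * ⁅c, a⁆ := by
  have hAC : A ≤ normalizer ((centralizer (P : Set G) : Subgroup G) : Set G) :=
    le_normalizer_centralizer h.hAP
  let S : Subgroup G :=
    { carrier := {c | c ∈ A ∧ ∀ a ∈ A, ⁅c, a⁆ ∈ centralizer (P : Set G)}
      one_mem' := ⟨A.one_mem, fun a _ => by rw [commutatorElement_one_left]; exact one_mem _⟩
      mul_mem' := by
        rintro u w ⟨hu, hu'⟩ ⟨hw, hw'⟩
        refine ⟨A.mul_mem hu hw, fun a ha => ?_⟩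
        have h1 : ⁅u * w, a⁆ = u * ⁅w, a⁆ * u⁻¹ * ⁅u, a⁆ := by
          simp only [commutatorElement_def]
          group
        rw [h1]
        exact mul_mem (Sect.conj_mem hAC hu (hw' a ha)) (hu' a ha)
      inv_mem' := by
        rintro u ⟨hu, hu'⟩
        refine ⟨A.inv_mem hu, fun a ha => ?_⟩
        have h1 : ⁅u⁻¹, a⁆ = u⁻¹ * ⁅u, a⁆⁻¹ * u⁻¹⁻¹ := by
          simp only [commutatorElement_def]
          group
        rw [h1]
        exact Sect.conj_mem hAC (A.inv_mem hu) (inv_mem (hu' a ha)) }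
  have hAA : ⁅A, A⁆ ≤ S := by
    rw [commutator_le]
    intro u hu w hw
    refine ⟨?_, fun a ha => ?_⟩
    · rw [commutatorElement_def]
      exact A.mul_mem (A.mul_mem (A.mul_mem hu hw) (A.inv_mem hu)) (A.inv_mem hw)
    · rw [mem_centralizer_iff]
      intro y hy
      exact (h.hA3 u hu w hw a ha y hy).symm
  have hcop : (Nat.card R).Coprime (Nat.card A) := cop_card h.hq h.hr h.hrq.symm (isPGroup_R h) h.hA
  have h1 := cent_le_gen hcop hAA h.hRA h.hcomm hc
  exact (mem_centralizer_iff.mp (h1.2 a ha) x hx).symm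

open Classical in
/-- **The key lemma on abelian groups.** -/
theorem kl_core (h : LD P Z A R r s q) (π : Representation E G V) {W : Submodule E V}
    {N D : Subgroup G} (hNP : N ≤ P) (hDN : D ≤ N)
    (hAN : A ≤ normalizer (N : Set G)) (hRN : R ≤ normalizer (N : Set G))
    (hAW : Pres π A W) (hRW : Pres π R W)
    (hDR : ∀ d ∈ D, ∀ a ∈ R, a * d = d * a) [Fintype R]
    (G3 : ∀ l : G → E, wt π N W l ≠ ⊥ → (¬ ∀ a ∈ R, Same N (cj a l) l) → ∀ d ∈ D, l d = 1)
    (G2 : ∀ l : G → E, wt π N W l ≠ ⊥ → (∀ a ∈ A, ∀ x ∈ N, l (a * x * a⁻¹) = l x) →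
      ∀ d ∈ D, l d = 1)
    (G1 : ∀ l : G → E, wt π N W l ≠ ⊥ → (¬ ∀ a ∈ R, Same N (cj a l) l) → ∀ a ∈ A, ∀ d ∈ D,
      ∏ j : R, l ((j : G) * (a * d * a⁻¹) * (j : G)⁻¹) = 1)
    (l : G → E) (hl : wt π N W l ≠ ⊥) : ∀ d ∈ D, l d = 1 := by
  have hrp : Fact r.Prime := ⟨h.hr⟩
  by_cases hlR : ∀ a ∈ R, Same N (cj a l) l
  swap
  · exact G3 l hl hlR
  set T : Subgroup G := A ⊓ stab N l with hT
  set C : Subgroup G := A ⊓ centralizer (R : Set G) with hC
  have hRst : R ≤ stab N l := fun a ha => ⟨hRN ha, hlR a ha⟩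
  have hTA : T ≤ A := inf_le_left
  have hRT : R ≤ normalizer (T : Set G) :=
    le_norm fun g hg x hx => ⟨Sect.conj_mem h.hRA hg hx.1,
      (stab N l).mul_mem ((stab N l).mul_mem (hRst hg) hx.2) ((stab N l).inv_mem (hRst hg))⟩
  have hcent_st : ∀ g ∈ A, (∀ x ∈ P, g * x = x * g) → g ∈ stab N l := by
    intro g hg hgx
    refine ⟨hAN hg, fun x hx => ?_⟩
    show l (g⁻¹ * x * g) = l x
    congr 1
    rw [mul_assoc, ← hgx x (hNP hx), inv_mul_cancel_left]
  have hCT : C ≤ normalizer (T : Set G) := by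
    refine le_norm fun c hc t ht => ?_
    have h1 : c * t * c⁻¹ = ⁅c, t⁆ * t := by
      rw [commutatorElement_def]
      group
    rw [h1]
    have h2 : ⁅c, t⁆ ∈ A := by
      rw [commutatorElement_def]
      exact A.mul_mem (A.mul_mem (A.mul_mem hc.1 ht.1) (A.inv_mem hc.1)) (A.inv_mem ht.1)
    exact ⟨A.mul_mem h2 ht.1, mul_mem (hcent_st _ h2 fun x hx => cent_comm h hc ht.1 hx) ht.2⟩
  set T1 : Subgroup G := T ⊔ C with hT1
  have hT1A : T1 ≤ A := sup_le inf_le_left inf_le_left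
  have hRC : R ≤ normalizer (C : Set G) :=
    le_normalizer_inf h.hRA (le_normalizer_centralizer le_normalizer)
  have hRT1 : R ≤ normalizer (T1 : Set G) := le_normalizer_sup' hRT hRC
  have hrT : ¬ r ∣ Nat.card T := cop_of_ne h.hr h.hq h.hrq (h.hA.to_le hTA)
  have hrT1 : ¬ r ∣ Nat.card T1 := cop_of_ne h.hr h.hq h.hrq (h.hA.to_le hT1A)
  have hRr : IsPGroup r R := isPGroup_R h
  -- conjugates of the weight occur
  have hcjne : ∀ a ∈ A, wt π N W (cj a l) ≠ ⊥ := by
    intro a ha hbot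
    obtain ⟨v, hv, hv0⟩ := Submodule.exists_mem_ne_zero_of_ne_bot hl
    have h1 := apply_mem_wt (hAN ha) (hAW a ha) hv
    rw [hbot, Submodule.mem_bot] at h1
    apply hv0
    rw [← inv_apply π a v, h1, map_zero]
  -- invariant conjugates
  have hX : ∀ a ∈ A, (∀ j ∈ R, Same N (cj j (cj a l)) (cj a l)) → a ∈ T1 := by
    intro a ha hinv
    have h1 : ∀ j ∈ R, a⁻¹ * (j * a * j⁻¹) ∈ T := by
      intro j hj
      have hjA : j * a * j⁻¹ ∈ A := Sect.conj_mem h.hRA hj ha
      refine ⟨A.mul_mem (A.inv_mem ha) hjA, mul_mem (inv_mem (hAN ha)) (hAN hjA), ?_⟩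
      rw [cj_mul]
      -- `cj (j a j⁻¹) l ~ cj a l`
      have h2 : Same N (cj (j * a * j⁻¹) l) (cj a l) := by
        have h3 : Same N (cj (j * a * j⁻¹) (cj j l)) (cj (j * a * j⁻¹) l) :=
          (hlR j hj).cj (hAN hjA)
        have h4 : cj (j * a * j⁻¹) (cj j l) = cj j (cj a l) := by
          rw [← cj_mul, ← cj_mul]
          congr 1
          group
        rw [h4] at h3
        exact h3.symm.trans (hinv j hj)
      have h5 := h2.cj (inv_mem (hAN ha))
      rwa [← cj_mul a⁻¹ a, inv_mul_cancel, cj_one] at h5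
    obtain ⟨c, hc, hac⟩ := exists_cent_coset h.hr hRr hRT hrT h1
    have hcA : c ∈ A := by
      have h2 : c = a * (a⁻¹ * c) := by group
      rw [h2]
      exact A.mul_mem ha (hTA hac)
    have h2 : a = c * (a⁻¹ * c)⁻¹ := by group
    rw [h2]
    exact T1.mul_mem ((le_sup_right : C ≤ T1) ⟨hcA, hc⟩) (T1.inv_mem ((le_sup_left : T ≤ T1) hac))
  by_cases hAT1 : A ≤ T1
  · -- the weight is `A`-invariant
    have hAT : ⁅A, R⁆ ≤ T := by
      rw [commutator_le]
      intro a ha j hj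
      obtain ⟨t, ht, c, hc, rfl⟩ := (SignalizersComponents.CoprimeBasic.mem_sup_iff hCT a).mp
        (hAT1 ha)
      have h1 : ⁅t * c, j⁆ = t * (j * t⁻¹ * j⁻¹) := by
        have h2 : c * j * c⁻¹ = j := by
          rw [← mem_centralizer_iff.mp hc.2 j hj, mul_inv_cancel_right]
        calc ⁅t * c, j⁆ = t * (c * j * c⁻¹) * t⁻¹ * j⁻¹ := by
              rw [commutatorElement_def]
              group
          _ = t * (j * t⁻¹ * j⁻¹) := by rw [h2]; group
      rw [h1]
      exact T.mul_mem ht (Sect.conj_mem hRT hj (T.inv_mem ht))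
    rw [h.hcomm] at hAT
    refine G2 l hl fun a ha x hx => ?_
    have h1 := (hAT (A.inv_mem ha)).2.2 x hx
    have h2 : l (a⁻¹⁻¹ * x * a⁻¹) = l x := h1
    rwa [inv_inv] at h2
  · obtain ⟨a, ha, haT1⟩ := SetLike.not_le_iff_exists.mp hAT1
    intro d hd
    have h1 := G1 (cj a l) (hcjne a ha) (fun hinv => haT1 (hX a ha hinv)) a ha d hd
    have h2 : ∀ j ∈ (Finset.univ : Finset R), j ≠ 1 →
        cj a l ((j : G) * (a * d * a⁻¹) * (j : G)⁻¹) = 1 := by
      intro j _ hj1
      have hjA : (j : G) * a * (j : G)⁻¹ ∈ A := Sect.conj_mem h.hRA j.2 ha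
      set g : G := ((j : G) * a * (j : G)⁻¹)⁻¹ * a with hg
      have hgA : g ∈ A := A.mul_mem (A.inv_mem hjA) ha
      have h3 : cj a l ((j : G) * (a * d * a⁻¹) * (j : G)⁻¹) = cj g l d := by
        show l (a⁻¹ * ((j : G) * (a * d * a⁻¹) * (j : G)⁻¹) * a) = l (g⁻¹ * d * g)
        congr 1
        have h4 : (j : G)⁻¹ * d * (j : G) = d := by
          rw [mul_assoc, ← hDR d hd j j.2, inv_mul_cancel_left]
        rw [hg]
        calc a⁻¹ * ((j : G) * (a * d * a⁻¹) * (j : G)⁻¹) * a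
            = a⁻¹ * (j : G) * a * ((j : G)⁻¹ * d * (j : G)) * a⁻¹ * (j : G)⁻¹ * a
              := by rw [h4]; group
          _ = _ := by group
      rw [h3]
      refine G3 (cj g l) (hcjne g hgA) (fun hinv => ?_) d hd
      have h4 := hX g hgA hinv
      -- the coset `a T1` is fixed by `j`
      let S : Subgroup R :=
        { carrier := {i | a⁻¹ * ((i : G) * a * (i : G)⁻¹) ∈ T1}
          one_mem' := by
            show a⁻¹ * (((1 : R) : G) * a * ((1 : R) : G)⁻¹) ∈ T1
            rw [Subgroup.coe_one, inv_one, mul_one, one_mul, inv_mul_cancel]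
            exact T1.one_mem
          mul_mem' := by
            intro u w hu hw
            show a⁻¹ * (((u * w : R) : G) * a * ((u * w : R) : G)⁻¹) ∈ T1
            have h5 : a⁻¹ * (((u * w : R) : G) * a * ((u * w : R) : G)⁻¹) =
                (a⁻¹ * ((u : G) * a * (u : G)⁻¹)) *
                  ((u : G) * (a⁻¹ * ((w : G) * a * (w : G)⁻¹)) * (u : G)⁻¹) := by
              rw [Subgroup.coe_mul]
              group
            rw [h5]
            exact T1.mul_mem hu (Sect.conj_mem hRT1 u.2 hw)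
          inv_mem' := by
            intro u hu
            show a⁻¹ * (((u⁻¹ : R) : G) * a * ((u⁻¹ : R) : G)⁻¹) ∈ T1
            have h5 : a⁻¹ * (((u⁻¹ : R) : G) * a * ((u⁻¹ : R) : G)⁻¹) =
                ((u⁻¹ : R) : G) * (a⁻¹ * ((u : G) * a * (u : G)⁻¹))⁻¹ * ((u⁻¹ : R) : G)⁻¹ := by
              rw [Subgroup.coe_inv]
              group
            rw [h5]
            exact Sect.conj_mem hRT1 (u⁻¹).2 (T1.inv_mem hu) }
      have hjS : j ∈ S := by
        show a⁻¹ * ((j : G) * a * (j : G)⁻¹) ∈ T1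
        have h5 : a⁻¹ * ((j : G) * a * (j : G)⁻¹) = g⁻¹ := by rw [hg]; group
        rw [h5]
        exact T1.inv_mem h4
      have hS : S = ⊤ := by
        have hp : Fact (Nat.card R).Prime := ⟨h.hR ▸ h.hr⟩
        rcases S.eq_bot_or_eq_top_of_prime_card with h5 | h5
        · rw [h5, Subgroup.mem_bot] at hjS
          exact absurd hjS hj1
        · exact h5
      have h6 : ∀ i ∈ R, a⁻¹ * (i * a * i⁻¹) ∈ T1 := by
        intro i hi
        have h7 : (⟨i, hi⟩ : R) ∈ S := by rw [hS]; exact Subgroup.mem_top _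
        exact h7
      obtain ⟨c, hc, hac⟩ := exists_cent_coset h.hr hRr hRT1 hrT1 h6
      have hcA : c ∈ A := by
        have h2 : c = a * (a⁻¹ * c) := by group
        rw [h2]
        exact A.mul_mem ha (hT1A hac)
      apply haT1
      have h2 : a = c * (a⁻¹ * c)⁻¹ := by group
      rw [h2]
      exact T1.mul_mem ((le_sup_right : C ≤ T1) ⟨hcA, hc⟩) (T1.inv_mem hac)
    rw [Finset.prod_eq_single (1 : R) h2 (fun h0 => absurd (Finset.mem_univ _) h0)] at h1
    have h3 : cj a l (((1 : R) : G) * (a * d * a⁻¹) * ((1 : R) : G)⁻¹) = l d := by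
      show l (a⁻¹ * (((1 : R) : G) * (a * d * a⁻¹) * ((1 : R) : G)⁻¹) * a) = l d
      congr 1
      rw [Subgroup.coe_one]
      group
    rwa [h3] at h1

end Cfsg.Agent.H575.KL
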