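import Cfsg.Agent.H575.MLev
import Cfsg.Agent.H583.L3

/-!
# The abelian case: characters
-/

set_option autoImplicit false
set_option linter.unusedSectionVars false
set_option linter.unusedVariables false

namespace Cfsg.Agent.H575.LThree

open Module Subgroup Cfsg.Agent.H575.Dim Cfsg.Agent.H575.Weights
  Cfsg.Agent.H575.Sect Cfsg.Agent.H575.Fix Cfsg.Agent.H575.KL Cfsg.Agent.H575.Lev
  Cfsg.Agent.H575.FTop Cfsg.Agent.H575.HA Cfsg.Agent.H575.ModM
  Cfsg.Agent.H575.ExtraIrr
open scoped commutatorElement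

/-- automorphisms act on characters -/
@[reducible] def chAct (E N : Type*) [Field E] [Group N] :
    DistribMulAction (MulAut N) (Additive (N →* Eˣ)) where
  smul g l := Additive.ofMul ((Additive.toMul l).comp (g⁻¹ : MulAut N).toMonoidHom)
  one_smul l := rfl
  mul_smul g h l := by
    show Additive.ofMul ((Additive.toMul l).comp ((g * h)⁻¹ : MulAut N).toMonoidHom) =
      Additive.ofMul (((Additive.toMul l).comp (h⁻¹ : MulAut N).toMonoidHom).comp
        (g⁻¹ : MulAut N).toMonoidHom)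
    rw [mul_inv_rev]
    rfl
  smul_zero g := rfl
  smul_add g a b := rfl

attribute [local instance] chAct

theorem smul_apply' {E N : Type*} [Field E] [Group N] (g : MulAut N) (l : Additive (N →* Eˣ))
    (x : N) : (Additive.toMul (g • l)) x = (Additive.toMul l) (g⁻¹ x) := rfl

section Ai

variable {G : Type*} [Group G] [Finite G]

/-- the conjugation action on `N` -/
def al (N : Subgroup G) : normalizer (N : Set G) →* MulAut N := alpha (le_refl _)

theorem al_coe (N : Subgroup G) (g : normalizer (N : Set G)) (x : N) :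
    ((al N g x : N) : G) = g * x * (g : G)⁻¹ := rfl

/-- the image of a subgroup in the automorphism group -/
def ai (N Q : Subgroup G) : Subgroup (MulAut N) := (Q.subgroupOf (normalizer (N : Set G))).map (al N)

theorem mem_ai_of {N Q : Subgroup G} {g : normalizer (N : Set G)} (hg : (g : G) ∈ Q) :
    al N g ∈ ai N Q := ⟨g, hg, rfl⟩

theorem ai_norm {N H K : Subgroup G} (h : H ≤ normalizer (K : Set G)) :
    ai N H ≤ normalizer (ai N K : Set (MulAut N)) := by
  refine le_norm ?_
  rintro _ ⟨g, hg, rfl⟩ _ ⟨k, hk, rfl⟩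
  exact ⟨g * k * g⁻¹, Sect.conj_mem h hg hk, by simp⟩

theorem al_eq_one_iff {N : Subgroup G} {g : normalizer (N : Set G)} :
    al N g = 1 ↔ ∀ x ∈ N, (g : G) * x = x * g := by
  constructor
  · intro h x hx
    have h1 := al_coe N g ⟨x, hx⟩
    rw [h] at h1
    have h2 : x = (g : G) * x * (g : G)⁻¹ := h1
    exact (eq_mul_inv_iff_mul_eq.mp h2).symm
  · intro h
    ext x
    have h1 := al_coe N g x
    rw [h x x.2, mul_inv_cancel_right] at h1
    exact h1

theorem ai_comm {N H K : Subgroup G} (hH : H ≤ normalizer (N : Set G))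
    (hK : K ≤ normalizer (N : Set G)) : ai N ⁅H, K⁆ = ⁅ai N H, ai N K⁆ := by
  rw [ai, ai, ai, ← Subgroup.map_commutator, HA.commutator_subgroupOf hH hK]

theorem ai_pgroup {N H : Subgroup G} {s : ℕ} (h : IsPGroup s H) : IsPGroup s (ai N H) :=
  (h.comap_of_injective _ (normalizer (N : Set G)).subtype_injective).map _

theorem card_ai_dvd {N H : Subgroup G} (hH : H ≤ normalizer (N : Set G)) :
    Nat.card (ai N H) ∣ Nat.card H := by
  have h2 := Subgroup.card_map_dvd (f := al N) (H := H.subgroupOf (normalizer (N : Set G)))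
  rwa [Nat.card_congr (Subgroup.subgroupOfEquivOfLe hH).toEquiv] at h2

/-- invariant characters are trivial on commutators -/
theorem ch_kills {E : Type*} [Field E] {N S : Subgroup G} (hS : S ≤ normalizer (N : Set G))
    {m : Additive (N →* Eˣ)} (hm : ∀ g ∈ ai N S, g • m = m) {x : G} (hx : x ∈ ⁅N, S⁆)
    (hxN : x ∈ N) : (Additive.toMul m) ⟨x, hxN⟩ = 1 := by
  have hle : ⁅N, S⁆ ≤ ((Additive.toMul m).ker).map N.subtype := by
    rw [commutator_le]
    intro n hn s hs
    have h1 : s * n⁻¹ * s⁻¹ ∈ N := Sect.conj_mem hS hs (N.inv_mem hn)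
    refine ⟨⟨n, hn⟩ * ⟨s * n⁻¹ * s⁻¹, h1⟩, ?_, ?_⟩
    · rw [SetLike.mem_coe, MonoidHom.mem_ker, map_mul]
      have h2 := hm _ (mem_ai_of (g := ⟨s⁻¹, hS (S.inv_mem hs)⟩) (S.inv_mem hs))
      have h3 := smul_apply' (al N ⟨s⁻¹, hS (S.inv_mem hs)⟩) m ⟨n⁻¹, N.inv_mem hn⟩
      rw [h2] at h3
      have h4 : (al N ⟨s⁻¹, hS (S.inv_mem hs)⟩)⁻¹ ⟨n⁻¹, N.inv_mem hn⟩ =
          (⟨s * n⁻¹ * s⁻¹, h1⟩ : N) := by
        rw [← map_inv]
        apply Subtype.ext
        rw [al_coe]
        simp
      rw [h4] at h3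
      rw [← h3, ← map_mul]
      have h5 : (⟨n, hn⟩ : N) * ⟨n⁻¹, N.inv_mem hn⟩ = 1 := Subtype.ext (mul_inv_cancel n)
      rw [h5, map_one]
    · show n * (s * n⁻¹ * s⁻¹) = ⁅n, s⁆
      rw [commutatorElement_def]
      group
  obtain ⟨y, hy, hyx⟩ := hle hx
  have : y = ⟨x, hxN⟩ := Subtype.ext hyx
  rw [← this]
  exact hy

end Ai

section Rep

variable {E : Type*} [Field E] [IsAlgClosed E] {G V : Type*} [Group G] [Finite G]
  [AddCommGroup V] [Module E V] [FiniteDimensional E V]

/-- the characters occurring in `V` -/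
def occ (π : Representation E G V) (N : Subgroup G) : Set (Additive (N →* Eˣ)) :=
  {l | ∃ v : V, v ≠ 0 ∧ ∀ x : N, π x v = ((Additive.toMul l x : Eˣ) : E) • v}

theorem occ_smul {π : Representation E G V} {N : Subgroup G} {g : normalizer (N : Set G)}
    {l : Additive (N →* Eˣ)} (hl : l ∈ occ π N) : al N g • l ∈ occ π N := by
  obtain ⟨v, hv, hvx⟩ := hl
  refine ⟨π g v, ?_, fun x => ?_⟩
  · intro h
    apply hv
    rw [← inv_apply π g v, h, map_zero]
  · have h1 : (x : G) * g = g * ((al N g)⁻¹ x : N) := by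
      rw [← map_inv, al_coe]
      simp [mul_assoc]
    rw [← mul_apply', h1, mul_apply', hvx, map_smul, smul_apply']

/-- non-invariant characters are trivial on invisible elements -/
theorem occ_kills {π : Representation E G V} {N R : Subgroup G} (hR : (Nat.card R).Prime)
    (hRN : R ≤ normalizer (N : Set G)) (hab : ∀ x ∈ N, ∀ y ∈ N, x * y = y * x)
    {l : Additive (N →* Eˣ)} (hl : l ∈ occ π N) (hlR : ¬ ∀ g ∈ ai N R, g • l = l) {d : G}
    (hd : d ∈ N) (hdR : d ∈ centralizer (R : Set G)) (hinv : Inv π ⁅N, R⁆ R d) :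
    (Additive.toMul l) ⟨d, hd⟩ = 1 := by
  classical
  obtain ⟨v, hv, hvx⟩ := hl
  let μ : G → E := fun g => if h : g ∈ N then ((Additive.toMul l ⟨g, h⟩ : Eˣ) : E) else 1
  have hμ : ∀ x : N, μ x = ((Additive.toMul l x : Eˣ) : E) := fun x => dif_pos x.2
  have hvw : v ∈ wt π N ⊤ μ := ⟨Submodule.mem_top, fun a ha => by
    have h1 := hvx ⟨a, ha⟩
    rw [← hμ ⟨a, ha⟩] at h1
    exact h1⟩
  have hμR : ¬ ∀ a ∈ R, Same N (cj a μ) μ := by
    intro hall
    apply hlR
    rintro _ ⟨g, hg, rfl⟩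
    apply Additive.toMul.injective
    ext x
    rw [smul_apply', ← hμ, ← hμ, ← hall g hg x x.2]
    have h1 : (((al N g)⁻¹ x : N) : G) = (g : G)⁻¹ * x * g := by
      rw [← map_inv, al_coe]
      simp
    rw [h1]
    rfl
  have hbr : v ∈ br π ⁅N, R⁆ := wt_le_br hRN le_rfl hμR hvw
  have hle : ⁅N, R⁆ ≤ N := Lib.CoprimeCommutator.commutator_le_left hRN
  have h1 := trivial_of_not_fixed π (br π ⁅N, R⁆) (A := N) (R := R)
    (pres_br (Lib.CoprimeCommutator.right_le_normalizer_commutator N R)) hRN hR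
    (pres_br (Lib.CoprimeCommutator.left_le_normalizer_commutator N R) d hd) (by
      intro a ha w _
      rw [← mul_apply', ← mul_apply', hab a ha d hd]) hdR
    (fun w hw hwR => hinv w hw hwR) μ hμR v ⟨hbr, hvw.2⟩
  have h2 := hvx ⟨d, hd⟩
  have h3 : π ((⟨d, hd⟩ : N) : G) v = v := h1
  rw [h3] at h2
  have h4 : (1 - ((Additive.toMul l ⟨d, hd⟩ : Eˣ) : E)) • v = 0 := by
    rw [sub_smul, one_smul, ← h2, sub_self]
  have h5 := sub_eq_zero.mp ((smul_eq_zero.mp h4).resolve_right hv)
  exact Units.ext h5.symm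

theorem l3_rep (π : Representation E G V) {N Q T R : Subgroup G} {r s q : ℕ}
    (hr : r.Prime) (hs : s.Prime) (hq : q.Prime) (hrs : r ≠ s) (hrq : r ≠ q) (hR : Nat.card R = r)
    (hN : IsPGroup s N) (hQ : IsPGroup q Q) (hrT : ¬ r ∣ Nat.card T) (hsE : (s : E) ≠ 0)
    (hab : ∀ x ∈ N, ∀ y ∈ N, x * y = y * x)
    (hRN : R ≤ normalizer (N : Set G)) (hQN : Q ≤ normalizer (N : Set G))
    (hTN : T ≤ normalizer (N : Set G)) (hRQ : R ≤ normalizer (Q : Set G))
    (hTQ : T ≤ normalizer (Q : Set G)) (hTR : ∀ t ∈ T, ∀ a ∈ R, t * a = a * t)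
    (hcomm : ⁅Q, R⁆ = Q) (hQT : ⁅Q, T⁆ = Q) (hNQ : ⁅N, Q⁆ = N)
    (hcen : ∀ c ∈ Q, c ∈ centralizer (R : Set G) → ∀ x ∈ Q, ∀ y ∈ N, ⁅c, x⁆ * y = y * ⁅c, x⁆)
    (hinv : ∀ d ∈ ⁅N ⊓ centralizer (R : Set G), T⁆, Inv π ⁅N, R⁆ R d) :
    ∀ d ∈ ⁅N ⊓ centralizer (R : Set G), T⁆, π d = 1 := by
  classical
  have hrf : Fact r.Prime := ⟨hr⟩
  have hsf : Fact s.Prime := ⟨hs⟩
  have hqf : Fact q.Prime := ⟨hq⟩
  have hRp : IsPGroup r R := IsPGroup.of_card (n := 1) (by rw [hR, pow_one])
  have hRprime : (Nat.card R).Prime := by rw [hR]; exact hr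
  set D : Subgroup G := ⁅N ⊓ centralizer (R : Set G), T⁆ with hD
  have hTC : T ≤ normalizer ((centralizer (R : Set G) : Subgroup G) : Set G) := by
    refine le_normalizer_centralizer (le_norm fun t ht a ha => ?_)
    rw [hTR t ht a ha, mul_inv_cancel_right]
    exact ha
  have hDN' : D ≤ N ⊓ centralizer (R : Set G) :=
    Lib.CoprimeCommutator.commutator_le_left (le_normalizer_inf hTN hTC)
  -- a generator of `R`
  obtain ⟨a0, ha0, hgen⟩ : ∃ a0 : normalizer (N : Set G), (a0 : G) ∈ R ∧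
      R = zpowers (a0 : G) := by
    have hne : ∃ a : R, a ≠ 1 := by
      by_contra hcon
      push Not at hcon
      have : Subsingleton R := ⟨fun a b => by rw [hcon a, hcon b]⟩
      rw [Nat.card_of_subsingleton (1 : R)] at hR
      exact hr.one_lt.ne hR
    obtain ⟨a, ha⟩ := hne
    refine ⟨⟨a, hRN a.2⟩, a.2, ?_⟩
    have : Fact (Nat.card R).Prime := ⟨hRprime⟩
    have hmem : ∀ x : R, x ∈ zpowers a := fun x => mem_zpowers_of_prime_card rfl ha
    apply le_antisymm
    · intro x hx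
      obtain ⟨n, hn⟩ := hmem ⟨x, hx⟩
      exact ⟨n, congrArg Subtype.val hn⟩
    · exact zpowers_le.mpr a.2
  set σ : MulAut N := al N a0 with hσ
  have haiR : ai N R = zpowers σ := by
    apply le_antisymm
    · rintro _ ⟨g, hg, rfl⟩
      have hg' : (g : G) ∈ zpowers (a0 : G) := by
        rw [← hgen]
        exact hg
      obtain ⟨n, hn⟩ := hg'
      refine ⟨n, ?_⟩
      show σ ^ n = al N g
      rw [hσ, ← map_zpow]
      congr 1
      exact Subtype.ext hn
    · exact zpowers_le.mpr (mem_ai_of ha0)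
  have hσr : σ ^ r = 1 := by
    rw [hσ, ← map_pow]
    have h1 : a0 ^ r = 1 := by
      apply Subtype.ext
      have h2 : (⟨a0, ha0⟩ : R) ^ Nat.card R = 1 := pow_card_eq_one'
      rw [hR] at h2
      have h3 : (a0 : G) ^ r = 1 := congrArg Subtype.val h2
      exact h3
    rw [h1, map_one]
  have hgenσ : ∀ l : Additive (N →* Eˣ), σ • l = l → ∀ g ∈ ai N R, g • l = l := by
    intro l hl g hg
    rw [haiR] at hg
    obtain ⟨n, rfl⟩ := hg
    have h1 : σ ∈ MulAction.stabilizer (MulAut N) l := hl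
    exact Subgroup.zpow_mem _ h1 n
  have hrN : ¬ r ∣ Nat.card N := cop_of_ne hr hs hrs hN
  have hcopN : r.Coprime (Nat.card N) := (Nat.Prime.coprime_iff_not_dvd hr).mpr hrN
  have hrM : ∀ m : Additive (N →* Eˣ), r • m = 0 → m = 0 := by
    intro m hm
    apply Additive.toMul.injective
    ext x
    have h1 : (Additive.toMul m x) ^ r = 1 := by
      have h2 := congrArg (fun k : Additive (N →* Eˣ) => Additive.toMul k x) hm
      rw [toMul_nsmul] at h2
      exact h2
    have h3 : (Additive.toMul m x) ^ Nat.card N = 1 := by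
      rw [← map_pow, pow_card_eq_one', map_one]
    have h4 : orderOf (Additive.toMul m x) ∣ 1 := by
      rw [← hcopN]
      exact Nat.dvd_gcd (orderOf_dvd_of_pow_eq_one h1) (orderOf_dvd_of_pow_eq_one h3)
    rw [orderOf_eq_one_iff.mp (Nat.dvd_one.mp h4)]
    rfl
  -- the lemma
  have hmain := H583.L3.l3 (M := Additive (N →* Eˣ)) (ai N Q) (ai N T) σ r hr hσr hrM
    (fun h1 => cop_of_ne hr hq hrq hQ (h1.trans (card_ai_dvd hQN)))
    (fun h1 => hrT (h1.trans (card_ai_dvd hTN))) (ai_pgroup hQ).isNilpotent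
    (ai_norm hRQ (mem_ai_of ha0)) (ai_norm hTQ) (by
      rintro _ ⟨t, ht, rfl⟩
      rw [hσ, ← map_mul, ← map_mul]
      congr 1
      exact Subtype.ext (hTR t ht a0 ha0)) (by rw [← haiR, ← ai_comm hQN hRN, hcomm])
    (by rw [← ai_comm hQN hTN, hQT]) (by
      rintro _ ⟨c, hc, rfl⟩ hcσ _ ⟨x, hx, rfl⟩
      -- lift
      have hCN : Q ≤ normalizer ((centralizer (N : Set G) : Subgroup G) : Set G) :=
        le_normalizer_centralizer hQN
      have hCR : R ≤ normalizer ((centralizer (N : Set G) : Subgroup G) : Set G) :=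
        le_normalizer_centralizer hRN
      obtain ⟨c', hc', hcc⟩ := exists_cent_coset hr hRp
        (le_normalizer_inf hRQ hCR) (fun h1 => cop_of_ne hr hq hrq hQ (h1.trans
          (Subgroup.card_dvd_of_le inf_le_left))) (N := Q ⊓ centralizer (N : Set G))
        (k := (c : G)) (by
          intro a ha
          refine ⟨Q.mul_mem (Q.inv_mem hc) (Sect.conj_mem hRQ ha hc), ?_⟩
          have h1 : al N ⟨a, hRN ha⟩ * al N c = al N c * al N ⟨a, hRN ha⟩ := by
            have h2 : al N ⟨a, hRN ha⟩ ∈ zpowers σ := by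
              rw [← haiR]
              exact mem_ai_of ha
            obtain ⟨n, hn⟩ := h2
            rw [← hn]
            exact ((Commute.zpow_right (h := (show Commute (al N c) σ from hcσ)) n)).symm.eq
          have h3 : al N (c⁻¹ * (⟨a, hRN ha⟩ * c * ⟨a, hRN ha⟩⁻¹)) = 1 := by
            rw [map_mul, map_mul, map_mul, h1, map_inv, map_inv, mul_inv_cancel_right,
              inv_mul_cancel]
          rw [al_eq_one_iff] at h3
          have h5 : (c : G)⁻¹ * (a * c * a⁻¹) ∈ centralizer (N : Set G) := by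
            rw [Subgroup.mem_centralizer_iff]
            intro y hy
            exact (h3 y hy).symm
          exact h5)
      have hc'Q : c' ∈ Q := by
        have := Q.mul_mem (show (c : G) ∈ Q from hc) hcc.1
        rwa [mul_inv_cancel_left] at this
      have hcal : al N c = al N ⟨c', hQN hc'Q⟩ := by
        have h1 : al N (c⁻¹ * ⟨c', hQN hc'Q⟩) = 1 := by
          rw [al_eq_one_iff]
          intro y hy
          exact (Subgroup.mem_centralizer_iff.mp hcc.2 y hy).symm
        rw [map_mul, map_inv, inv_mul_eq_one] at h1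
        exact h1
      rw [hcal, ← commutatorElement_eq_one_iff_mul_comm, ← map_commutatorElement,
        al_eq_one_iff]
      exact hcen c' hc'Q hc' x hx)
    (by
      intro m hm t ht
      have h0 : m = 0 := by
        apply Additive.toMul.injective
        ext x
        have h1 := ch_kills hQN hm (x := (x : G)) (by rw [hNQ]; exact x.2) x.2
        have h2 : (⟨(x : G), x.2⟩ : N) = x := rfl
        rw [h2] at h1
        rw [h1]
        rfl
      rw [h0]
      rfl) (occ π N) (by
      rintro _ ⟨x, hx, rfl⟩ l hl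
      exact occ_smul hl) (by
      rintro l hl hlσ _ ⟨t, ht, rfl⟩
      have hlR : ¬ ∀ g ∈ ai N R, g • l = l := fun hall => hlσ (hall σ (mem_ai_of ha0))
      have hinvsum : ∀ k : Additive (N →* Eˣ), ∀ g ∈ ai N R,
          g • (∑ j ∈ Finset.range r, (σ ^ j) • k) = ∑ j ∈ Finset.range r, (σ ^ j) • k := by
        intro k
        apply hgenσ
        rw [Finset.smul_sum]
        have h1 : ∑ j ∈ Finset.range r, σ • (σ ^ j) • k =
            ∑ j ∈ Finset.range r, (σ ^ (j + 1)) • k :=
          Finset.sum_congr rfl fun j _ => by rw [← mul_smul, ← pow_succ']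
        have h2 := Finset.sum_range_succ' (fun j => (σ ^ j) • k) r
        have h3 := Finset.sum_range_succ (fun j => (σ ^ j) • k) r
        rw [h3] at h2
        rw [h1]
        simp only [pow_zero, hσr] at h2
        exact (add_right_cancel h2).symm
      apply Additive.toMul.injective
      ext x
      obtain ⟨c, hc, hcR, hcx⟩ := exists_cent_mul hr hRp hRN hrN x.2
      have hle : ⁅N, R⁆ ≤ N := Lib.CoprimeCommutator.commutator_le_left hRN
      have hx : x = ⟨c, hc⟩ * ⟨c⁻¹ * x, hle hcx⟩ := Subtype.ext (mul_inv_cancel_left c _).symm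
      have k1 := ch_kills hRN (hinvsum (al N t • l)) hcx (hle hcx)
      have k2 := ch_kills hRN (hinvsum l) hcx (hle hcx)
      rw [hx, map_mul, map_mul, k1, k2, mul_one, mul_one]
      -- on the centralizer of `R`
      have hval : ∀ k : Additive (N →* Eˣ),
          (Additive.toMul (∑ j ∈ Finset.range r, (σ ^ j) • k)) ⟨c, hc⟩ =
            (Additive.toMul k ⟨c, hc⟩) ^ r := by
        intro k
        have h1 : ∀ j, (Additive.toMul ((σ ^ j) • k)) ⟨c, hc⟩ = Additive.toMul k ⟨c, hc⟩ := by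
          intro j
          rw [smul_apply']
          congr 1
          have h2 : (σ ^ j)⁻¹ = al N ((a0 ^ j)⁻¹) := by rw [map_inv, map_pow]
          rw [h2]
          apply Subtype.ext
          rw [al_coe]
          have h3 : ((a0 ^ j)⁻¹ : G) ∈ R := R.inv_mem (R.pow_mem ha0 j)
          have h4 : (((a0 ^ j)⁻¹ : normalizer (N : Set G)) : G) = ((a0 : G) ^ j)⁻¹ := rfl
          rw [h4, ((Subgroup.mem_centralizer_iff.mp hcR) _ h3), mul_inv_cancel_right]
        rw [toMul_sum, MonoidHom.finsetProd_apply, Finset.prod_congr rfl fun j _ => h1 j,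
          Finset.prod_const, Finset.card_range]
      rw [hval, hval]
      congr 2
      -- the value of `t • l` on `c`
      rw [smul_apply']
      have hd : ⁅c, (t : G)⁻¹⁆ ∈ D :=
        commutator_mem_commutator ⟨hc, hcR⟩ (T.inv_mem ht)
      have hk := occ_kills hRprime hRN hab hl hlR (hDN' hd).1 (hDN' hd).2 (hinv _ hd)
      have h5 : ((al N t)⁻¹ (⟨c, hc⟩ : N)) = ⟨⁅c, (t : G)⁻¹⁆, (hDN' hd).1⟩⁻¹ * ⟨c, hc⟩ := by
        rw [← map_inv]
        apply Subtype.ext
        rw [al_coe]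
        show (t : G)⁻¹ * c * (t : G)⁻¹⁻¹ = ⁅c, (t : G)⁻¹⁆⁻¹ * c
        rw [commutatorElement_def]
        group
      rw [h5, map_mul, map_inv, hk, inv_one, one_mul])
  -- conclusion
  intro d hd
  have hdN : d ∈ N := (hDN' hd).1
  have hle : (⊤ : Submodule E V) ≤ LinearMap.ker (π d - 1) := by
    refine le_of_wt_le (π := π) (A := N) (W := ⊤) (card_ne_zero_of_pgroup hs hN hsE)
      (fun _ _ _ _ => Submodule.mem_top) (fun a ha b hb w _ => by
        rw [← mul_apply', ← mul_apply', hab a ha b hb]) _ ?_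
    intro μ u hu
    rw [LinearMap.mem_ker, LinearMap.sub_apply, Module.End.one_apply]
    by_cases hbot : wt π N ⊤ μ = ⊥
    · rw [hbot, Submodule.mem_bot] at hu
      rw [hu, map_zero, sub_zero]
    obtain ⟨μ1, μm, μ0, -⟩ := wt_facts hbot
    let l : Additive (N →* Eˣ) := Additive.ofMul
      { toFun := fun x => Units.mk0 (μ x) (μ0 x x.2)
        map_one' := Units.ext μ1
        map_mul' := fun x y => Units.ext (μm x x.2 y y.2) }
    have hlx : ∀ x : N, ((Additive.toMul l x : Eˣ) : E) = μ x := fun x => rfl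
    obtain ⟨v, hv, hv0⟩ := Submodule.exists_mem_ne_zero_of_ne_bot hbot
    have hl : l ∈ occ π N := ⟨v, hv0, fun x => by rw [hlx]; exact hv.2 x x.2⟩
    have h1 : μ d = 1 := by
      rw [← hlx ⟨d, hdN⟩]
      by_cases hlσ : σ • l = l
      · have h2 := hmain l hl hlσ
        rw [ch_kills hTN h2 (commutator_mono inf_le_left le_rfl hd) hdN]
        rfl
      · rw [occ_kills hRprime hRN hab hl (fun hall => hlσ (hall σ (mem_ai_of ha0))) hdN
          (hDN' hd).2 (hinv d hd)]
        rfl
    rw [hu.2 d hdN, h1, one_smul, sub_self]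
  ext v
  have h2 := hle (Submodule.mem_top (x := v))
  rw [LinearMap.mem_ker, LinearMap.sub_apply, sub_eq_zero] at h2
  exact h2

end Rep

end Cfsg.Agent.H575.LThree
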