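import Cfsg.Agent.H575.Tower
import Cfsg.Agent.Lib.CoprimeCommutator
import Mathlib.GroupTheory.QuotientGroup.Basic
import Mathlib.Tactic

/-!
# Actions on sections
-/

set_option autoImplicit false
set_option linter.unusedSectionVars false

namespace Cfsg.Agent.H575.Sect

open Subgroup Cfsg.Agent.H575.Tower
open scoped commutatorElement

variable {G : Type*} [Group G]

theorem conj_mem {H P : Subgroup G} (h : H ≤ normalizer (P : Set G))
    {g y : G} (hg : g ∈ H) (hy : y ∈ P) : g * y * g⁻¹ ∈ P :=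
  (mem_normalizer_iff.mp (h hg) y).mp hy

theorem le_norm {H P : Subgroup G} (h : ∀ g ∈ H, ∀ y ∈ P, g * y * g⁻¹ ∈ P) :
    H ≤ normalizer (P : Set G) := by
  intro g hg
  rw [mem_normalizer_iff]
  intro y
  constructor
  · exact h g hg y
  · intro hy
    have h1 := h g⁻¹ (H.inv_mem hg) _ hy
    rwa [show g⁻¹ * (g * y * g⁻¹) * g⁻¹⁻¹ = y by group] at h1

/-- the action of `H` on the section `L / (N ⊓ L)` -/
def secAct (H L N : Subgroup G) [(N.subgroupOf L).Normal] (hL : H ≤ normalizer (L : Set G))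
    (hN : H ≤ normalizer (N : Set G)) : H →* MulAut (L ⧸ N.subgroupOf L) where
  toFun h := QuotientGroup.congr (N.subgroupOf L) (N.subgroupOf L)
    (normalizerMonoidHom L ⟨h, hL h.2⟩) (by
      ext x
      constructor
      · rintro ⟨y, hy, rfl⟩
        exact conj_mem hN h.2 hy
      · intro hx
        refine ⟨(normalizerMonoidHom L ⟨h, hL h.2⟩)⁻¹ x, ?_, ?_⟩
        · have h1 : ((((normalizerMonoidHom L ⟨h, hL h.2⟩)⁻¹ x : L)) : G) = (h : G)⁻¹ * x * h := by
            have h2 : (normalizerMonoidHom L ⟨h, hL h.2⟩)⁻¹ =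
              normalizerMonoidHom L (⟨h, hL h.2⟩ : normalizer (L : Set G))⁻¹ := (map_inv _ _).symm
            rw [h2]
            show (h : G)⁻¹ * x * (h : G)⁻¹⁻¹ = _
            rw [inv_inv]
          show ((((normalizerMonoidHom L ⟨h, hL h.2⟩)⁻¹ x : L)) : G) ∈ N
          rw [h1]
          have h3 := conj_mem hN (H.inv_mem h.2) hx
          rwa [inv_inv] at h3
        · exact MulAut.apply_inv_self _ _ _)
  map_one' := by
    ext x
    induction x using QuotientGroup.induction_on with | H x => ?_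
    show ((_ : L) : L ⧸ N.subgroupOf L) = (x : L ⧸ N.subgroupOf L)
    congr 1
    apply Subtype.ext
    show (1 : G) * x * (1 : G)⁻¹ = x
    group
  map_mul' := by
    intro a b
    ext x
    induction x using QuotientGroup.induction_on with | H x => ?_
    show ((_ : L) : L ⧸ N.subgroupOf L) = ((_ : L) : L ⧸ N.subgroupOf L)
    congr 1
    apply Subtype.ext
    show ((a : G) * b) * x * ((a : G) * b)⁻¹ = a * (b * x * (b : G)⁻¹) * (a : G)⁻¹
    group

theorem secAct_mk {H L N : Subgroup G} [(N.subgroupOf L).Normal]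
    (hL : H ≤ normalizer (L : Set G)) (hN : H ≤ normalizer (N : Set G)) (h : H) (x : L) :
    secAct H L N hL hN h (QuotientGroup.mk x) =
      QuotientGroup.mk (⟨h * x * (h : G)⁻¹, conj_mem hL h.2 x.2⟩ : L) := rfl

theorem cmod_conj {P K : Subgroup G} {g x : G} (hgP : g ∈ normalizer (P : Set G))
    (hgK : g ∈ normalizer (K : Set G)) (hx : x ∈ cmod P K) : g * x * g⁻¹ ∈ cmod P K := by
  refine ⟨mul_mem (mul_mem hgK hx.1) (inv_mem hgK), fun y hy => ?_⟩
  have h1 : g⁻¹ * y * g ∈ P := by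
    have := (mem_normalizer_iff.mp (inv_mem hgP) y).mp hy
    rwa [inv_inv] at this
  have h2 : ⁅g * x * g⁻¹, y⁆ = g * ⁅x, g⁻¹ * y * g⁆ * g⁻¹ := by
    simp only [commutatorElement_def]
    group
  rw [h2]
  exact (mem_normalizer_iff.mp hgK _).mp (hx.2 _ h1)

/-- three subgroups -/
theorem commutator_le_cmod {P N A R : Subgroup G} (hR : R ≤ cmod P N)
    (hAP : A ≤ normalizer (P : Set G)) (hAN : A ≤ normalizer (N : Set G)) : ⁅A, R⁆ ≤ cmod P N := by
  rw [commutator_le]
  intro a ha b hb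
  rw [commutatorElement_def]
  exact mul_mem (cmod_conj (hAP ha) (hAN ha) (hR hb)) (inv_mem (hR hb))

/-- `K = C_K(A) [K, A]` for a `q`-group `A` of order prime to `K`. -/
theorem exists_cent_mul [Finite G] {q : ℕ} (hq : q.Prime) {A K : Subgroup G} (hA : IsPGroup q A)
    (hAK : A ≤ normalizer (K : Set G)) (hqK : ¬ q ∣ Nat.card K) {k : G} (hk : k ∈ K) :
    ∃ c ∈ K, c ∈ centralizer (A : Set G) ∧ c⁻¹ * k ∈ ⁅K, A⁆ := by
  have : Fact q.Prime := ⟨hq⟩
  have hle : ⁅K, A⁆ ≤ K := Lib.CoprimeCommutator.commutator_le_left hAK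
  obtain ⟨c, hc, hkc⟩ := Lib.CoprimeCommutator.exists_fixed_in_coset q A ⁅K, A⁆ hA
    (Lib.CoprimeCommutator.right_le_normalizer_commutator K A)
    (fun h => hqK (h.trans (card_dvd_of_le hle))) k (fun a ha => by
      have h1 : k⁻¹ * (a * k * a⁻¹) = ⁅k⁻¹, a⁆ := by
        simp only [commutatorElement_def]
        group
      rw [h1]
      exact commutator_mem_commutator (K.inv_mem hk) ha)
  refine ⟨c, ?_, hc, ?_⟩
  · have h1 : c = k * (k⁻¹ * c) := by group
    rw [h1]
    exact K.mul_mem hk (hle hkc)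
  · have h1 : c⁻¹ * k = (k⁻¹ * c)⁻¹ := by group
    rw [h1]
    exact inv_mem hkc

/-- fixed points of a `q`-group in a coset -/
theorem exists_cent_coset [Finite G] {q : ℕ} (hq : q.Prime) {A N : Subgroup G}
    (hA : IsPGroup q A) (hAN : A ≤ normalizer (N : Set G)) (hqN : ¬ q ∣ Nat.card N) {k : G}
    (hk : ∀ a ∈ A, k⁻¹ * (a * k * a⁻¹) ∈ N) :
    ∃ c ∈ centralizer (A : Set G), k⁻¹ * c ∈ N := by
  have : Fact q.Prime := ⟨hq⟩
  obtain ⟨c, hc, hkc⟩ := Lib.CoprimeCommutator.exists_fixed_in_coset q A N hA hAN hqN k hk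
  exact ⟨c, hc, hkc⟩

theorem le_normalizer_commutator {H A B : Subgroup G} (hA : H ≤ normalizer (A : Set G))
    (hB : H ≤ normalizer (B : Set G)) : H ≤ normalizer ((⁅A, B⁆ : Subgroup G) : Set G) := by
  refine le_norm fun g hg x hx => ?_
  have h1 : (⁅A, B⁆).map (MulAut.conj g).toMonoidHom ≤ ⁅A, B⁆ := by
    rw [map_commutator]
    refine commutator_mono ?_ ?_
    · rintro _ ⟨a, ha, rfl⟩
      exact conj_mem hA hg ha
    · rintro _ ⟨b, hb, rfl⟩
      exact conj_mem hB hg hb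
  exact h1 ⟨x, hx, rfl⟩

theorem le_normalizer_inf {H A B : Subgroup G} (hA : H ≤ normalizer (A : Set G))
    (hB : H ≤ normalizer (B : Set G)) : H ≤ normalizer ((A ⊓ B : Subgroup G) : Set G) :=
  le_norm fun _ hg _ hx => ⟨conj_mem hA hg hx.1, conj_mem hB hg hx.2⟩

theorem le_normalizer_sup' {H A B : Subgroup G} (hA : H ≤ normalizer (A : Set G))
    (hB : H ≤ normalizer (B : Set G)) : H ≤ normalizer ((A ⊔ B : Subgroup G) : Set G) := by
  refine le_norm fun g hg x hx => ?_
  have h1 : (A ⊔ B).map (MulAut.conj g).toMonoidHom ≤ A ⊔ B := by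
    rw [Subgroup.map_sup]
    refine sup_le_sup ?_ ?_
    · rintro _ ⟨a, ha, rfl⟩
      exact conj_mem hA hg ha
    · rintro _ ⟨b, hb, rfl⟩
      exact conj_mem hB hg hb
  exact h1 ⟨x, hx, rfl⟩

/-- groups commuting with `R` normalize `C(R)` -/
theorem le_normalizer_centralizer {H R : Subgroup G} (h : H ≤ normalizer (R : Set G)) :
    H ≤ normalizer ((centralizer (R : Set G) : Subgroup G) : Set G) := by
  refine le_norm fun g hg x hx => ?_
  rw [mem_centralizer_iff] at hx ⊢
  intro a ha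
  have h1 : g⁻¹ * a * g ∈ R := by
    have := conj_mem h (H.inv_mem hg) ha
    rwa [inv_inv] at this
  have h2 := hx _ h1
  calc a * (g * x * g⁻¹) = g * ((g⁻¹ * a * g) * x) * g⁻¹ := by group
    _ = g * (x * (g⁻¹ * a * g)) * g⁻¹ := by rw [h2]
    _ = g * x * g⁻¹ * a := by group

end Cfsg.Agent.H575.Sect
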