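import Cfsg.Agent.H575.Mult
import Cfsg.Agent.H575.Sect
import Cfsg.Agent.H575.ExtraSq

/-!
# Groups of class two acting on a module: the commutator form of a weight
-/

set_option autoImplicit false
set_option linter.unusedSectionVars false

namespace Cfsg.Agent.H575.Lev

open Module Subgroup Cfsg.Agent.H575.Dim Cfsg.Agent.H575.Weights Cfsg.Agent.H575.Sect
  Cfsg.Agent.H575.Tower Cfsg.Agent.H575.Fix
open scoped commutatorElement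

/-- The group `P` of class two with the central subgroup `Z`, and the group `A = [A, R]` above. -/
structure LD {G : Type*} [Group G] (P Z A R : Subgroup G) (r s q : ℕ) : Prop where
  hr : r.Prime
  hs : s.Prime
  hq : q.Prime
  hrs : r ≠ s
  hrq : r ≠ q
  hqs : q ≠ s
  hR : Nat.card R = r
  hP : IsPGroup s P
  hZP : Z ≤ P
  hPP : ∀ x ∈ P, ∀ y ∈ P, ⁅x, y⁆ ∈ Z
  hPs : ∀ x ∈ P, x ^ s ∈ Z
  hZ : ∀ z ∈ Z, ∀ x ∈ P, z * x = x * z
  hA : IsPGroup q A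
  hAP : A ≤ normalizer (P : Set G)
  hZA : ∀ z ∈ Z, ∀ a ∈ A, z * a = a * z
  hRP : R ≤ normalizer (P : Set G)
  hRZ : R ≤ normalizer (Z : Set G)
  hRA : R ≤ normalizer (A : Set G)
  hcomm : ⁅A, R⁆ = A
  hA3 : ∀ a ∈ A, ∀ b ∈ A, ∀ c ∈ A, ∀ x ∈ P, ⁅⁅a, b⁆, c⁆ * x = x * ⁅⁅a, b⁆, c⁆
  hAq : ∀ a ∈ A, ∀ b ∈ A, ∀ x ∈ P, ⁅a ^ q, b⁆ * x = x * ⁅a ^ q, b⁆

section Comm

variable {G : Type*} [Group G] {P Z : Subgroup G}

theorem comm_mul_left (hPP : ∀ x ∈ P, ∀ y ∈ P, ⁅x, y⁆ ∈ Z) (hZ : ∀ z ∈ Z, ∀ x ∈ P, z * x = x * z)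
    {x x' y : G} (hx : x ∈ P) (hx' : x' ∈ P) (hy : y ∈ P) : ⁅x * x', y⁆ = ⁅x, y⁆ * ⁅x', y⁆ := by
  have h1 : ⁅x * x', y⁆ = x * ⁅x', y⁆ * x⁻¹ * ⁅x, y⁆ := by
    simp only [commutatorElement_def]
    group
  have h2 := hZ _ (hPP x' hx' y hy) x hx
  have h3 : ⁅x, y⁆ ∈ P := by
    rw [commutatorElement_def]
    exact P.mul_mem (P.mul_mem (P.mul_mem hx hy) (P.inv_mem hx)) (P.inv_mem hy)
  rw [h1, ← h2, mul_inv_cancel_right, hZ _ (hPP x' hx' y hy) _ h3]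

theorem comm_mul_right (hPP : ∀ x ∈ P, ∀ y ∈ P, ⁅x, y⁆ ∈ Z) (hZ : ∀ z ∈ Z, ∀ x ∈ P, z * x = x * z)
    {x y y' : G} (hx : x ∈ P) (hy : y ∈ P) (hy' : y' ∈ P) : ⁅x, y * y'⁆ = ⁅x, y⁆ * ⁅x, y'⁆ := by
  have h1 : ⁅x, y * y'⁆ = ⁅x, y⁆ * (y * ⁅x, y'⁆ * y⁻¹) := by
    simp only [commutatorElement_def]
    group
  have h2 := hZ _ (hPP x hx y' hy') y hy
  rw [h1, ← h2, mul_inv_cancel_right]

theorem comm_pow (hPP : ∀ x ∈ P, ∀ y ∈ P, ⁅x, y⁆ ∈ Z) (hZ : ∀ z ∈ Z, ∀ x ∈ P, z * x = x * z)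
    {x y : G} (hx : x ∈ P) (hy : y ∈ P) (n : ℕ) : ⁅x, y⁆ ^ n = ⁅x ^ n, y⁆ := by
  induction n with
  | zero => rw [pow_zero, pow_zero, commutatorElement_one_left]
  | succ n ih =>
    rw [pow_succ, ih, pow_succ, comm_mul_left hPP hZ (P.pow_mem hx n) hx hy]

end Comm

section Beta

variable {E : Type*} [Field E] {G V : Type*} [Group G] [AddCommGroup V] [Module E V]

/-- the multiplicativity of a weight that occurs -/
theorem wt_facts {π : Representation E G V} {A : Subgroup G} {W : Submodule E V} {l : G → E}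
    (h : wt π A W l ≠ ⊥) : l 1 = 1 ∧ (∀ a ∈ A, ∀ b ∈ A, l (a * b) = l a * l b) ∧
      (∀ a ∈ A, l a ≠ 0) ∧ ∀ a ∈ A, l a⁻¹ = (l a)⁻¹ := by
  obtain ⟨v, hv, hv0⟩ := Submodule.exists_mem_ne_zero_of_ne_bot h
  have key : ∀ c d : E, c • v = d • v → c = d := by
    intro c d hcd
    have h1 : (c - d) • v = 0 := by rw [sub_smul, hcd, sub_self]
    exact sub_eq_zero.mp ((smul_eq_zero.mp h1).resolve_right hv0)
  have h1 : l 1 = 1 := by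
    apply key
    rw [← hv.2 1 A.one_mem, map_one, one_smul]
    rfl
  have h2 : ∀ a ∈ A, ∀ b ∈ A, l (a * b) = l a * l b := by
    intro a ha b hb
    apply key
    rw [← hv.2 _ (A.mul_mem ha hb), mul_apply', hv.2 b hb, map_smul, hv.2 a ha, smul_smul,
      mul_comm]
  refine ⟨h1, h2, fun a ha h0 => ?_, fun a ha => ?_⟩
  · have h3 := h2 a ha a⁻¹ (A.inv_mem ha)
    rw [mul_inv_cancel, h1, h0, zero_mul] at h3
    exact one_ne_zero h3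
  · have h3 := h2 a ha a⁻¹ (A.inv_mem ha)
    rw [mul_inv_cancel, h1] at h3
    exact (inv_eq_of_mul_eq_one_right h3.symm).symm

/-- the radical of the commutator form -/
def rad {P Z : Subgroup G} (hPP : ∀ x ∈ P, ∀ y ∈ P, ⁅x, y⁆ ∈ Z)
    (hZ : ∀ z ∈ Z, ∀ x ∈ P, z * x = x * z) (μ : G → E) (h1 : μ 1 = 1)
    (h2 : ∀ a ∈ Z, ∀ b ∈ Z, μ (a * b) = μ a * μ b) : Subgroup G where
  carrier := {x | x ∈ P ∧ ∀ y ∈ P, μ ⁅x, y⁆ = 1}
  one_mem' := ⟨P.one_mem, fun y _ => by rw [commutatorElement_one_left, h1]⟩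
  mul_mem' := by
    rintro a b ⟨ha, ha'⟩ ⟨hb, hb'⟩
    refine ⟨P.mul_mem ha hb, fun y hy => ?_⟩
    rw [comm_mul_left hPP hZ ha hb hy, h2 _ (hPP a ha y hy) _ (hPP b hb y hy), ha' y hy, hb' y hy,
      one_mul]
  inv_mem' := by
    rintro a ⟨ha, ha'⟩
    refine ⟨P.inv_mem ha, fun y hy => ?_⟩
    have h3 := comm_mul_left hPP hZ (P.inv_mem ha) ha hy
    rw [inv_mul_cancel, commutatorElement_one_left] at h3
    have h4 := h2 _ (hPP a⁻¹ (P.inv_mem ha) y hy) _ (hPP a ha y hy)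
    rw [← h3, h1, ha' y hy, mul_one] at h4
    exact h4.symm

theorem mem_rad {P Z : Subgroup G} {hPP : ∀ x ∈ P, ∀ y ∈ P, ⁅x, y⁆ ∈ Z}
    {hZ : ∀ z ∈ Z, ∀ x ∈ P, z * x = x * z} {μ : G → E} {h1 : μ 1 = 1}
    {h2 : ∀ a ∈ Z, ∀ b ∈ Z, μ (a * b) = μ a * μ b} {x : G} :
    x ∈ rad hPP hZ μ h1 h2 ↔ x ∈ P ∧ ∀ y ∈ P, μ ⁅x, y⁆ = 1 := Iff.rfl

/-- elements preserving `P`, `Z` and `μ` normalize the radical -/
theorem le_normalizer_rad {P Z : Subgroup G} {hPP : ∀ x ∈ P, ∀ y ∈ P, ⁅x, y⁆ ∈ Z}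
    {hZ : ∀ z ∈ Z, ∀ x ∈ P, z * x = x * z} {μ : G → E} {h1 : μ 1 = 1}
    {h2 : ∀ a ∈ Z, ∀ b ∈ Z, μ (a * b) = μ a * μ b} {H : Subgroup G}
    (hHP : H ≤ normalizer (P : Set G)) (hH : ∀ g ∈ H, ∀ z ∈ Z, μ (g * z * g⁻¹) = μ z) :
    H ≤ normalizer ((rad hPP hZ μ h1 h2 : Subgroup G) : Set G) := by
  refine le_norm fun g hg x hx => ?_
  refine ⟨Sect.conj_mem hHP hg hx.1, fun y hy => ?_⟩
  have h3 : g⁻¹ * y * g ∈ P := by
    have := Sect.conj_mem hHP (H.inv_mem hg) hy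
    rwa [inv_inv] at this
  have h4 : ⁅g * x * g⁻¹, y⁆ = g * ⁅x, g⁻¹ * y * g⁆ * g⁻¹ := by
    simp only [commutatorElement_def]
    group
  rw [h4, hH g hg _ (hPP x hx.1 _ h3)]
  exact hx.2 _ h3

/-- **Nondegeneracy of commutators.** -/
theorem ndg [Finite G] {β : G → G → E} {C S : Subgroup G} {n : ℕ}
    (hS : S ≤ normalizer (C : Set G))
    (hb1 : ∀ x ∈ C, ∀ x' ∈ C, ∀ y ∈ C, β (x * x') y = β x y * β x' y)
    (hb2 : ∀ x ∈ C, ∀ y ∈ C, ∀ y' ∈ C, β x (y * y') = β x y * β x y')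
    (hb0 : ∀ y ∈ C, β 1 y = 1)
    (hbS : ∀ g ∈ S, ∀ x ∈ C, ∀ y ∈ C, β (g * x * g⁻¹) (g * y * g⁻¹) = β x y)
    (hn : ∀ x ∈ C, ∀ y ∈ C, β x y ^ n = 1) (hcop : (Nat.card S).Coprime n)
    {d : G} (hd : d ∈ ⁅C, S⁆) (hdd : ∀ d' ∈ ⁅C, S⁆, β d d' = 1) : ∀ c ∈ C, β d c = 1 := by
  classical
  have : Fintype S := Fintype.ofFinite S
  have hle : ⁅C, S⁆ ≤ C := Lib.CoprimeCommutator.commutator_le_left hS
  intro c hc
  have hinvC : ∀ g ∈ S, ∀ x ∈ C, g⁻¹ * x * g ∈ C := by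
    intro g hg x hx
    have := Sect.conj_mem hS (S.inv_mem hg) hx
    rwa [inv_inv] at this
  let Θ : C →* E :=
    { toFun := fun x => ∏ g : S, β ((g : G)⁻¹ * x * g) c
      map_one' := by
        refine Finset.prod_eq_one fun g _ => ?_
        rw [Subgroup.coe_one, mul_one, inv_mul_cancel, hb0 c hc]
      map_mul' := by
        intro x y
        rw [← Finset.prod_mul_distrib]
        refine Finset.prod_congr rfl fun g _ => ?_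
        rw [← hb1 _ (hinvC g g.2 x x.2) _ (hinvC g g.2 y y.2) c hc]
        congr 1
        rw [Subgroup.coe_mul]
        group }
  have hΘ : ∀ x : C, Θ x = ∏ g : S, β ((g : G)⁻¹ * x * g) c := fun x => rfl
  have hΘconj : ∀ (x : C) (h : S), Θ ⟨h * x * (h : G)⁻¹, Sect.conj_mem hS h.2 x.2⟩ = Θ x := by
    intro x h
    rw [hΘ, hΘ]
    refine Fintype.prod_equiv (Equiv.mulLeft h⁻¹) _ _ fun g => ?_
    congr 1
    show (g : G)⁻¹ * (h * x * (h : G)⁻¹) * g = ((h⁻¹ * g : S) : G)⁻¹ * x * ((h⁻¹ * g : S) : G)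
    rw [Subgroup.coe_mul, Subgroup.coe_inv]
    group
  have hker : ⁅C, S⁆ ≤ (MonoidHom.ker Θ).map C.subtype := by
    rw [commutator_le]
    intro x hx h hh
    let x' : C := ⟨x, hx⟩
    let y' : C := ⟨h * x * h⁻¹, Sect.conj_mem hS hh hx⟩
    refine ⟨x' * y'⁻¹, ?_, ?_⟩
    · show Θ (x' * y'⁻¹) = 1
      have h1 : Θ x' = Θ y' := (hΘconj x' ⟨h, hh⟩).symm
      rw [map_mul, h1, ← map_mul, mul_inv_cancel, map_one]
    · show x * (h * x * h⁻¹)⁻¹ = ⁅x, h⁆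
      rw [commutatorElement_def]
      group
  have hΘd : Θ ⟨d, hle hd⟩ = 1 := by
    obtain ⟨y, hy, hyd⟩ := hker hd
    have : y = ⟨d, hle hd⟩ := Subtype.ext hyd
    rw [← this]
    exact hy
  have hconst : ∀ g ∈ S, β (g⁻¹ * d * g) c = β d c := by
    intro g hg
    have h1 := hbS g hg _ (hinvC g hg d (hle hd)) c hc
    have h2 : g * (g⁻¹ * d * g) * g⁻¹ = d := by group
    rw [h2] at h1
    rw [← h1]
    have h3 : c = ⁅c, g⁆ * (g * c * g⁻¹) := by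
      rw [commutatorElement_def]
      group
    have h4 : ⁅c, g⁆ ∈ ⁅C, S⁆ := commutator_mem_commutator hc hg
    conv_rhs => rw [h3]
    rw [hb2 d (hle hd) _ (hle h4) _ (Sect.conj_mem hS hg hc), hdd _ h4, one_mul]
  have hprod : ∏ g : S, β ((g : G)⁻¹ * d * g) c = β d c ^ Nat.card S := by
    rw [Nat.card_eq_fintype_card, ← Finset.card_univ, ← Finset.prod_const]
    exact Finset.prod_congr rfl fun g _ => hconst g g.2
  have hΘd' : β d c ^ Nat.card S = 1 := by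
    rw [← hprod]
    exact hΘd
  have h1 : β d c ^ Nat.gcd (Nat.card S) n = 1 := pow_gcd_eq_one.mpr ⟨hΘd', hn d (hle hd) c hc⟩
  rwa [hcop, pow_one] at h1

end Beta

end Cfsg.Agent.H575.Lev
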