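import Cfsg.Agent.H575.BCM
import Cfsg.Agent.H575.FTopMain

/-!
# The main lemmas for elementary abelian groups
-/

set_option autoImplicit false
set_option linter.unusedSectionVars false
set_option linter.unusedVariables false

namespace Cfsg.Agent.H575.MLev

open Module Subgroup Cfsg.Agent.H575.Dim Cfsg.Agent.H575.Weights
  Cfsg.Agent.H575.Sect Cfsg.Agent.H575.Fix Cfsg.Agent.H575.KL Cfsg.Agent.H575.Lev
  Cfsg.Agent.H575.FTop Cfsg.Agent.H575.BC Cfsg.Agent.H575.HA Cfsg.Agent.H575.ModM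
open scoped commutatorElement

section Rep

variable {E : Type*} [Field E] [IsAlgClosed E] {G V : Type*} [Group G] [Finite G]
  [AddCommGroup V] [Module E V] [FiniteDimensional E V]

theorem eq_zero_of_sum' {π : Representation E G V} {N R : Subgroup G} {W : Submodule E V}
    (hR : (Nat.card R).Prime) (hRW : Pres π R W) (hRN : R ≤ normalizer (N : Set G)) {l : G → E}
    (hl : ¬ ∀ a ∈ R, Same N (cj a l) l) [Fintype R] {u : V} (hu : u ∈ wt π N W l)
    (hsum : ∑ a : R, π (a : G) u = 0) : u = 0 := by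
  classical
  have hsame := sum_same_eq_zero (π := π) (A := N) (W := W) Finset.univ (fun a : R => π a u)
    (fun a : R => cj (a : G) l)
    (fun a _ => apply_mem_wt (hRN a.2) (hRW a a.2) hu) hsum l
  have hone : ∀ r : R, Same N (cj (r : G) l) l → r = 1 := by
    intro r hr
    by_contra hr1
    apply hl
    have : Fact (Nat.card R).Prime := ⟨hR⟩
    have hgen : ∀ x : R, x ∈ Subgroup.zpowers r := fun x => mem_zpowers_of_prime_card rfl hr1
    intro s hs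
    have h1 : (r : G) ∈ stab N l := ⟨hRN r.2, hr⟩
    obtain ⟨n, hn⟩ := hgen ⟨s, hs⟩
    have hn' : (r : G) ^ n = s := congrArg Subtype.val hn
    have h2 : s ∈ stab N l := by
      rw [← hn']
      exact Subgroup.zpow_mem _ h1 n
    exact h2.2
  have hfil : (Finset.univ.filter fun a : R => Same N (cj (a : G) l) l) = {1} := by
    ext a
    rw [Finset.mem_filter, Finset.mem_singleton]
    constructor
    · rintro ⟨-, ha⟩
      exact hone a ha
    · rintro rfl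
      refine ⟨Finset.mem_univ _, ?_⟩
      rw [Subgroup.coe_one, cj_one]
      exact Same.refl N l
  rw [hfil, Finset.sum_singleton, Subgroup.coe_one, map_one, Module.End.one_apply] at hsame
  exact hsame

/-- an abelian group `A = [A, R]` acts trivially if `R` has no fixed points -/
theorem fix0 (π : Representation E G V) {A R : Subgroup G} (hRA : R ≤ normalizer (A : Set G))
    (hcomm : ⁅A, R⁆ = A) (hR : (Nat.card R).Prime) (hab : ∀ a ∈ A, ∀ b ∈ A, a * b = b * a)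
    (hAE : (Nat.card A : E) ≠ 0) (hfix : fix π R = ⊥) : ∀ a ∈ A, π a = 1 := by
  classical
  have : Fintype R := Fintype.ofFinite R
  intro a ha
  have hle : (⊤ : Submodule E V) ≤ LinearMap.ker (π a - 1) := by
    refine le_of_wt_le (π := π) (A := A) (W := ⊤) hAE
      (fun _ _ _ _ => Submodule.mem_top) (fun a ha b hb w _ => by
        rw [← mul_apply', ← mul_apply', hab a ha b hb]) _ ?_
    intro l u hu
    rw [LinearMap.mem_ker, LinearMap.sub_apply, Module.End.one_apply]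
    by_cases hl : ∀ a ∈ R, Same A (cj a l) l
    · by_cases hbot : wt π A ⊤ l = ⊥
      · rw [hbot, Submodule.mem_bot] at hu
        rw [hu, map_zero, sub_zero]
      obtain ⟨l1, lm, -, -⟩ := wt_facts hbot
      have h1 : l a = 1 := by
        refine kills hRA l l1 lm (fun g hg x hx => ?_) a (by rw [hcomm]; exact ha)
        have h2 := hl g⁻¹ (R.inv_mem hg) x hx
        have h3 : cj g⁻¹ l x = l (g⁻¹⁻¹ * x * g⁻¹) := rfl
        rw [h3, inv_inv] at h2
        exact h2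
      rw [hu.2 a ha, h1, one_smul, sub_self]
    · have h1 : ∑ a : R, π (a : G) u = 0 := by
        have h2 : (∑ a : R, π (a : G) u) ∈ fix π R := by
          intro b hb
          rw [map_sum]
          refine Fintype.sum_bijective (fun y => ⟨b, hb⟩ * y) (Group.mulLeft_bijective _) _ _
            fun y => ?_
          rw [← mul_apply']
          rfl
        rw [hfix, Submodule.mem_bot] at h2
        exact h2
      have h2 := eq_zero_of_sum' hR (fun _ _ _ _ => Submodule.mem_top) hRA hl hu h1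
      rw [h2, map_zero, sub_zero]
  ext v
  have h2 := hle (Submodule.mem_top (x := v))
  rw [LinearMap.mem_ker, LinearMap.sub_apply, sub_eq_zero] at h2
  exact h2

end Rep

universe u

variable {M : Type u} [CommGroup M] [Finite M] {p : ℕ} [hp : Fact p.Prime]
  {P Z A R : Subgroup (MulAut M)} {r s q : ℕ}

theorem not_dvd {s : ℕ} (hs : s.Prime) (hsp : s ≠ p) {B : Subgroup (MulAut M)}
    (hB : IsPGroup s B) : ¬ p ∣ Nat.card B := cop_of_ne hp.out hs hsp.symm hB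

theorem not_dvd_R (h : Nat.card R = r) (hr : r.Prime) (hrp : r ≠ p) : ¬ p ∣ Nat.card R := by
  rw [h]
  intro h1
  exact hrp ((Nat.prime_dvd_prime_iff_eq hp.out hr).mp h1).symm

theorem kl_M (hM : ∀ m : M, m ^ p = 1) (h : LD P Z A R r s q) (hsp : s ≠ p) (hrp : r ≠ p)
    (Y : Subgroup (MulAut M)) (hY : IsPGroup q Y)
    (hYR : ∀ y ∈ Y, ∀ a ∈ R, y * a = a * y) (hYP : Y ≤ normalizer (P : Set (MulAut M)))
    (hZY : ∀ z ∈ Z, ∀ y ∈ Y, z * y = y * z)
    (hAY : ∀ a ∈ A, ∀ y ∈ Y, ∀ x ∈ P, ⁅a, y⁆ * x = x * ⁅a, y⁆)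
    {D : Subgroup (MulAut M)} (hD : D = ⁅⁅P, A⁆ ⊓ centralizer (R : Set (MulAut M)), Y⁆)
    (hne : ∃ d ∈ D, d ≠ 1) :
    ∃ d ∈ D, ∃ m ∈ brm ⁅P, R⁆, (∀ a ∈ R, a m = m) ∧ d m ≠ m := by
  by_contra hcon
  push Not at hcon
  obtain ⟨V, i1, i2, i3, π, hinj, -, -, -, hinv⟩ := exists_rep hM
  obtain ⟨d, hd, hd1⟩ := hne
  apply hd1
  apply hinj
  have hle : ⁅P, R⁆ ≤ P := Lib.CoprimeCommutator.commutator_le_left h.hRP
  refine kl h π (cl_ne_zero fun h1 => hsp ((Nat.prime_dvd_prime_iff_eq hp.out h.hs).mp h1).symm)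
    (cl_ne_zero fun h1 => hrp ((Nat.prime_dvd_prime_iff_eq hp.out h.hr).mp h1).symm) Y hY hYR
    hYP hZY hAY hD ?_ d hd
  intro x hx
  exact hinv _ _ x (not_dvd h.hs hsp (h.hP.to_le hle)) (not_dvd_R h.hR h.hr hrp)
    (Lib.CoprimeCommutator.right_le_normalizer_commutator P R) fun m hm hmR => hcon x hx m hm hmR

theorem kl0_M (hM : ∀ m : M, m ^ p = 1) (h : LD P Z A R r s q) (hsp : s ≠ p) (hrp : r ≠ p)
    (hPA : ⁅P, A⁆ = P) (hne : ∃ d ∈ P ⊓ centralizer (R : Set (MulAut M)), d ≠ 1) :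
    ∃ d ∈ P ⊓ centralizer (R : Set (MulAut M)), ∃ m ∈ brm ⁅P, R⁆, (∀ a ∈ R, a m = m) ∧
      d m ≠ m := by
  by_contra hcon
  push Not at hcon
  obtain ⟨V, i1, i2, i3, π, hinj, -, -, -, hinv⟩ := exists_rep hM
  obtain ⟨d, hd, hd1⟩ := hne
  apply hd1
  apply hinj
  have hle : ⁅P, R⁆ ≤ P := Lib.CoprimeCommutator.commutator_le_left h.hRP
  refine kl0 h π (cl_ne_zero fun h1 => hsp ((Nat.prime_dvd_prime_iff_eq hp.out h.hs).mp h1).symm)
    (cl_ne_zero fun h1 => hrp ((Nat.prime_dvd_prime_iff_eq hp.out h.hr).mp h1).symm) hPA ?_ d hd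
  intro x hx
  exact hinv _ _ x (not_dvd h.hs hsp (h.hP.to_le hle)) (not_dvd_R h.hR h.hr hrp)
    (Lib.CoprimeCommutator.right_le_normalizer_commutator P R) fun m hm hmR => hcon x hx m hm hmR

theorem nv_M (hM : ∀ m : M, m ^ p = 1) (h : LD P Z A R r s q) (hsp : s ≠ p) (hrp : r ≠ p)
    (hPA : ⁅P, A⁆ = P) {x : MulAut M} (hx : x ∈ P)
    (hxR : x ∈ centralizer (R : Set (MulAut M)))
    (hinvM : ∀ m ∈ brm ⁅P, R⁆, (∀ a ∈ R, a m = m) → x m = m) : ∀ y ∈ P, ⁅x, y⁆ = 1 := by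
  obtain ⟨V, i1, i2, i3, π, hinj, -, -, -, hinv⟩ := exists_rep hM
  intro y hy
  apply hinj
  have hle : ⁅P, R⁆ ≤ P := Lib.CoprimeCommutator.commutator_le_left h.hRP
  exact nv h π (cl_ne_zero fun h1 => hsp ((Nat.prime_dvd_prime_iff_eq hp.out h.hs).mp h1).symm)
    (cl_ne_zero fun h1 => hrp ((Nat.prime_dvd_prime_iff_eq hp.out h.hr).mp h1).symm) hPA hx hxR
    (hinv _ _ x (not_dvd h.hs hsp (h.hP.to_le hle)) (not_dvd_R h.hR h.hr hrp)
    (Lib.CoprimeCommutator.right_le_normalizer_commutator P R) hinvM) y hy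

theorem fix0_M (hM : ∀ m : M, m ^ p = 1) (hRA : R ≤ normalizer (A : Set (MulAut M)))
    (hcomm : ⁅A, R⁆ = A) (hR : Nat.card R = r) (hr : r.Prime) (hrp : r ≠ p)
    (hab : ∀ a ∈ A, ∀ b ∈ A, a * b = b * a)
    (hA : ¬ p ∣ Nat.card A) (hne : ∃ a ∈ A, a ≠ 1) : ∃ m : M, m ≠ 1 ∧ ∀ a ∈ R, a m = m := by
  by_contra hcon
  push Not at hcon
  obtain ⟨V, i1, i2, i3, π, hinj, -, -, hbot, -⟩ := exists_rep hM
  obtain ⟨d, hd, hd1⟩ := hne
  apply hd1
  apply hinj
  refine fix0 π hRA hcomm (by rw [hR]; exact hr) hab (cl_ne_zero hA)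
    (hbot R (not_dvd_R hR hr hrp) fun m hm => ?_) d hd
  by_contra hm1
  obtain ⟨a, ha, hne⟩ := hcon m hm1
  exact hne (hm a ha)

variable {Q T : Subgroup (MulAut M)}

theorem top_vec_M (hM : ∀ m : M, m ^ p = 1) (h : TD Q Z T R r s) (hsp : s ≠ p) (hrp : r ≠ p)
    (hT : ∀ m : M, (∀ a ∈ R, a m = m) → ∀ t ∈ T, t m = m)
    (hQ0 : ∀ m : M, (∀ x ∈ Q, x m = m) → m = 1) {z : MulAut M} (hz : z ∈ Z) (hz1 : z ≠ 1) :
    ∃ m : M, (∀ a ∈ R, a m = m) ∧ z m ≠ m := by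
  by_contra hcon
  push Not at hcon
  obtain ⟨V, i1, i2, i3, π, hinj, -, hfix, hbot, -⟩ := exists_rep hM
  have hsE : (s : AlgebraicClosure (ZMod p)) ≠ 0 :=
    cl_ne_zero fun h1 => hsp ((Nat.prime_dvd_prime_iff_eq hp.out h.hs).mp h1).symm
  have hrE : (r : AlgebraicClosure (ZMod p)) ≠ 0 :=
    cl_ne_zero fun h1 => hrp ((Nat.prime_dvd_prime_iff_eq hp.out h.hr).mp h1).symm
  have hR := not_dvd_R h.hR h.hr hrp
  obtain ⟨v, hv, hzv⟩ := top_vec h hsE hrE
    (fun v hv t ht => hfix R t hR (fun m hm => hT m hm t ht) v hv)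
    (hbot Q (not_dvd h.hs hsp h.hQ) hQ0) hz (fun h1 => hz1 (hinj _ h1))
  exact hzv (hfix R z hR hcon v hv)

theorem top_z_M [hnt : Nontrivial M] (hM : ∀ m : M, m ^ p = 1) (h : TD Q Z T R r s) (hsp : s ≠ p)
    (hrp : r ≠ p)
    (hT : ∀ m : M, (∀ a ∈ R, a m = m) → ∀ t ∈ T, t m = m)
    (hQ0 : ∀ m : M, (∀ x ∈ Q, x m = m) → m = 1) :
    ∃ z ∈ Z, z ∈ centralizer (R : Set (MulAut M)) ∧ z ≠ 1 := by
  obtain ⟨V, i1, i2, i3, π, hinj, hnt', hfix, hbot, -⟩ := exists_rep hM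
  have := hnt' hnt
  have hsE : (s : AlgebraicClosure (ZMod p)) ≠ 0 :=
    cl_ne_zero fun h1 => hsp ((Nat.prime_dvd_prime_iff_eq hp.out h.hs).mp h1).symm
  have hR := not_dvd_R h.hR h.hr hrp
  obtain ⟨z, hz, hzR, hz1⟩ := top_z h hsE
    (fun v hv t ht => hfix R t hR (fun m hm => hT m hm t ht) v hv)
    (hbot Q (not_dvd h.hs hsp h.hQ) hQ0)
  exact ⟨z, hz, hzR, fun h1 => hz1 (by rw [h1, map_one])⟩

theorem top_F_M [hnt : Nontrivial M] (hM : ∀ m : M, m ^ p = 1) (h : TD Q Z T R r s) (hsp : s ≠ p)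
    (hrp : r ≠ p)
    (hT : ∀ m : M, (∀ a ∈ R, a m = m) → ∀ t ∈ T, t m = m)
    (hQ0 : ∀ m : M, (∀ x ∈ Q, x m = m) → m = 1) {F : Subgroup (MulAut M)}
    (hFQ : F ≤ normalizer (Q : Set (MulAut M))) (hFZ : F ≤ normalizer (Z : Set (MulAut M)))
    (hFR : ∀ f ∈ F, ∀ a ∈ R, f * a = a * f) (hTF : ⁅T, F⁆ = T)
    (hFT : F ≤ normalizer (T : Set (MulAut M)))
    (hFC : ∀ z ∈ Z, z ∈ centralizer (R : Set (MulAut M)) → ∀ f ∈ F, f * z = z * f) : False := by
  obtain ⟨V, i1, i2, i3, π, hinj, hnt', hfix, hbot, -⟩ := exists_rep hM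
  have := hnt' hnt
  have hsE : (s : AlgebraicClosure (ZMod p)) ≠ 0 :=
    cl_ne_zero fun h1 => hsp ((Nat.prime_dvd_prime_iff_eq hp.out h.hs).mp h1).symm
  have hrE : (r : AlgebraicClosure (ZMod p)) ≠ 0 :=
    cl_ne_zero fun h1 => hrp ((Nat.prime_dvd_prime_iff_eq hp.out h.hr).mp h1).symm
  have hR := not_dvd_R h.hR h.hr hrp
  exact top_F h hsE hrE
    (fun v hv t ht => hfix R t hR (fun m hm => hT m hm t ht) v hv)
    (hbot Q (not_dvd h.hs hsp h.hQ) hQ0) hFQ hFZ hFR hTF hFT hFC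

end Cfsg.Agent.H575.MLev
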