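import Cfsg.Agent.H575.GLev
import Cfsg.Agent.SignalizersComponents.PerfectGoingUp

/-!
# Minimal towers
-/

set_option autoImplicit false
set_option linter.unusedSectionVars false
set_option linter.unusedVariables false

namespace Cfsg.Agent.H575.MinTower

open Subgroup Cfsg.Agent.H575.Sect Cfsg.Agent.H575.Tower Cfsg.Agent.H575.HA
  Cfsg.Agent.H575.ExtraIrr
open scoped commutatorElement

universe u

variable {Γ : Type u} [Group Γ]

theorem ker_le (P : ℕ → Subgroup Γ) (i : ℕ) : ker P i ≤ P i := by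
  cases i with
  | zero => exact bot_le
  | succ i => exact inf_le_left

theorem cmod_norm {H P K : Subgroup Γ} (hP : H ≤ normalizer (P : Set Γ))
    (hK : H ≤ normalizer (K : Set Γ)) : H ≤ normalizer ((cmod P K : Subgroup Γ) : Set Γ) :=
  le_norm fun _ hg _ hx => cmod_conj (hP hg) (hK hg) hx

theorem norm_ker {P : ℕ → Subgroup Γ} {H : Subgroup Γ} {i : ℕ}
    (hH : ∀ j ≤ i, H ≤ normalizer (P j : Set Γ)) : H ≤ normalizer (ker P i : Set Γ) := by
  induction i with
  | zero =>
    refine le_norm fun g _ y hy => ?_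
    have h1 : y = 1 := hy
    rw [h1, mul_one, mul_inv_cancel]
    exact Subgroup.one_mem _
  | succ i ih =>
    exact le_normalizer_inf (hH _ le_rfl)
      (cmod_norm (hH i (Nat.le_succ i)) (ih fun j hj => hH j (hj.trans (Nat.le_succ i))))

/-- the Frattini subgroup -/
theorem exists_phi [Finite Γ] {P : Subgroup Γ} {p : ℕ} (hp : p.Prime) (hP : IsPGroup p P)
    (hne : P ≠ ⊥) :
    ∃ F : Subgroup Γ, F ≤ P ∧ F ≠ P ∧ (∀ x ∈ P, ∀ y ∈ P, ⁅x, y⁆ ∈ F) ∧ (∀ x ∈ P, x ^ p ∈ F) ∧
      ∀ H : Subgroup Γ, H ≤ normalizer (P : Set Γ) → H ≤ normalizer (F : Set Γ) := by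
  have hpf : Fact p.Prime := ⟨hp⟩
  have hmax : ∀ M : Subgroup P, IsCoatom M → (∀ x : P, x ^ p ∈ M) ∧ ∀ x y : P, ⁅x, y⁆ ∈ M := by
    intro M hM
    have hnil := hP.isNilpotent
    have hn : M.Normal :=
      ((Group.isNilpotent_of_finite_tfae (G := P)).out 0 2 rfl rfl).mp hnil M hM
    have hQ : IsPGroup p (P ⧸ M) := hP.to_quotient M
    have hnt : Nontrivial (P ⧸ M) := by
      rw [QuotientGroup.nontrivial_iff]
      exact hM.1
    have hc := hQ.center_nontrivial
    -- every nontrivial element generates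
    have hgen : ∀ x : P ⧸ M, x ≠ 1 → x ∈ center (P ⧸ M) → zpowers x = ⊤ := by
      intro x hx hxc
      have hxn : (zpowers x).Normal := by
        refine ⟨fun y hy g => ?_⟩
        obtain ⟨n, rfl⟩ := hy
        have h1 : g * x ^ n * g⁻¹ = x ^ n := by
          have h2 := Subgroup.mem_center_iff.mp (Subgroup.zpow_mem _ hxc n) g
          rw [h2, mul_inv_cancel_right]
        show g * x ^ n * g⁻¹ ∈ zpowers x
        rw [h1]
        exact Subgroup.zpow_mem _ (mem_zpowers x) n
      have hle : M ≤ (zpowers x).comap (QuotientGroup.mk' M) := by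
        intro y hy
        rw [Subgroup.mem_comap, QuotientGroup.mk'_apply, (QuotientGroup.eq_one_iff y).mpr hy]
        exact one_mem _
      have htop : (zpowers x).comap (QuotientGroup.mk' M) = ⊤ := by
        rcases hle.lt_or_eq with h | h
        · exact hM.2 _ h
        · exfalso
          obtain ⟨y, rfl⟩ := QuotientGroup.mk'_surjective M x
          have hy : y ∈ M := by
            rw [h, Subgroup.mem_comap]
            exact Subgroup.mem_zpowers _
          exact hx ((QuotientGroup.eq_one_iff y).mpr hy)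
      rw [eq_top_iff]
      intro z _
      obtain ⟨y, rfl⟩ := QuotientGroup.mk'_surjective M z
      have : y ∈ (zpowers x).comap (QuotientGroup.mk' M) := by rw [htop]; trivial
      exact this
    obtain ⟨⟨c, hcc⟩, hc1⟩ := exists_ne (1 : center (P ⧸ M))
    have hc1' : c ≠ 1 := fun h => hc1 (Subtype.ext h)
    have htopc := hgen c hc1' hcc
    have hcomm : ∀ a b : P ⧸ M, a * b = b * a := by
      intro a b
      have ha : a ∈ zpowers c := by rw [htopc]; trivial
      obtain ⟨n, rfl⟩ := ha
      exact (Subgroup.mem_center_iff.mp (Subgroup.zpow_mem _ hcc n) b).symm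
    refine ⟨fun x => ?_, fun x y => ?_⟩
    · have h1 : ((x ^ p : P) : P ⧸ M) = 1 := by
        by_contra hne1
        have h2 : (x : P ⧸ M) ≠ 1 := by
          intro h3
          apply hne1
          rw [QuotientGroup.mk_pow, h3, one_pow]
        have h3 : ((x ^ p : P) : P ⧸ M) ∈ center (P ⧸ M) := by
          rw [Subgroup.mem_center_iff]
          intro g
          exact hcomm _ _
        have h4 := hgen _ hne1 h3
        have h5 : (x : P ⧸ M) ∈ zpowers ((x ^ p : P) : P ⧸ M) := by rw [h4]; trivial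
        obtain ⟨k, hk⟩ := hQ (x : P ⧸ M)
        obtain ⟨n, hn⟩ := h5
        -- `x = x ^ (p n)` forces `x = 1`
        have h6 : orderOf ((x : P ⧸ M) ^ p) = orderOf (x : P ⧸ M) := by
          apply Nat.dvd_antisymm (orderOf_pow_dvd p)
          have h7 : ((x : P ⧸ M) ^ p) ^ n = (x : P ⧸ M) := by
            rw [← QuotientGroup.mk_pow]
            exact hn
          rw [orderOf_dvd_iff_pow_eq_one]
          have h10 : ((x : P ⧸ M) ^ p) ^ (orderOf ((x : P ⧸ M) ^ p)) = 1 := pow_orderOf_eq_one _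
          generalize orderOf ((x : P ⧸ M) ^ p) = o at h10 ⊢
          calc (x : P ⧸ M) ^ o = (((x : P ⧸ M) ^ p) ^ n) ^ o := by rw [h7]
            _ = (((x : P ⧸ M) ^ p) ^ o) ^ n := by
              rw [← zpow_natCast, ← zpow_mul, mul_comm, zpow_mul, zpow_natCast]
            _ = 1 := by rw [h10, one_zpow]
        have h8 : p ∣ orderOf (x : P ⧸ M) := by
          obtain ⟨j, hj⟩ := (Nat.dvd_prime_pow hp).mp (orderOf_dvd_of_pow_eq_one hk)
          rcases hj with ⟨-, hj⟩
          rw [hj]
          refine dvd_pow_self p ?_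
          rintro rfl
          apply h2
          rw [← orderOf_eq_one_iff, hj, pow_zero]
        rw [orderOf_pow' _ hp.ne_zero, Nat.gcd_eq_right h8] at h6
        have h9 : 0 < orderOf (x : P ⧸ M) := orderOf_pos _
        exact absurd h6 (Nat.div_lt_self h9 hp.one_lt).ne
      exact (QuotientGroup.eq_one_iff _).mp h1
    · rw [← QuotientGroup.eq_one_iff]
      show ⁅(x : P ⧸ M), (y : P ⧸ M)⁆ = 1
      rw [commutatorElement_eq_one_iff_mul_comm]
      exact hcomm _ _
  refine ⟨(frattini P).map P.subtype, map_subtype_le _, ?_, ?_, ?_, ?_⟩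
  · intro h1
    have h2 : (⊥ : Subgroup P) ≠ ⊤ := by
      intro h3
      apply hne
      rw [eq_bot_iff]
      intro x hx
      have h4 : (⟨x, hx⟩ : P) ∈ (⊥ : Subgroup P) := by rw [h3]; trivial
      rw [Subgroup.mem_bot] at h4 ⊢
      exact congrArg Subtype.val h4
    obtain ⟨M, hM, -⟩ := (eq_top_or_exists_le_coatom (⊥ : Subgroup P)).resolve_left h2
    apply hM.1
    rw [eq_top_iff]
    intro x _
    have h3 : (x : Γ) ∈ (frattini P).map P.subtype := by rw [h1]; exact x.2
    obtain ⟨y, hy, hyx⟩ := h3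
    have h4 : y = x := Subtype.ext hyx
    rw [← h4]
    exact frattini_le_coatom hM hy
  · intro x hx y hy
    refine ⟨⁅(⟨x, hx⟩ : P), (⟨y, hy⟩ : P)⁆, ?_, rfl⟩
    show _ ∈ frattini P
    unfold frattini Order.radical
    rw [Subgroup.mem_iInf]
    intro M
    rw [Subgroup.mem_iInf]
    intro hM
    exact (hmax M hM).2 _ _
  · intro x hx
    refine ⟨(⟨x, hx⟩ : P) ^ p, ?_, rfl⟩
    show _ ∈ frattini P
    unfold frattini Order.radical
    rw [Subgroup.mem_iInf]
    intro M
    rw [Subgroup.mem_iInf]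
    intro hM
    exact (hmax M hM).1 _
  · intro H hH
    refine le_norm ?_
    rintro g hg _ ⟨x, hx, rfl⟩
    refine ⟨alpha hH ⟨g, hg⟩ x, ?_, alpha_coe hH ⟨g, hg⟩ x⟩
    have hchar : (frattini P).Characteristic := inferInstance
    have h1 := hchar.fixed (alpha hH ⟨g, hg⟩)
    rw [← h1] at hx
    exact hx

end Cfsg.Agent.H575.MinTower
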