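import Cfsg.Agent.H575.ModM

/-!
# Fixed points of an automorphism of prime order of an `s`-group acting on a module: main lemma

`main`: `P` a `p`-group, `F` an `s`-group normalising `P`, `R` of prime order `r` normalising `P` and
`F`, `|C_F(R)|` divides `s`, everything coprime; `P`, `F`, `R` act on `W`, `C_P(F)` is trivial on `W`
and `C_W(F) = 0`.  An element of `C_P(R)` trivial on `C_W(R)` is trivial on `W`.
-/

set_option autoImplicit false
set_option linter.unusedSectionVars false

namespace Cfsg.Agent.H575.ModM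

open Module Cfsg.Agent.H575.Dim Cfsg.Agent.H575.Weights

variable {E : Type*} [Field E] [IsAlgClosed E] {G V : Type*} [Group G] [Finite G]
  [AddCommGroup V] [Module E V] [FiniteDimensional E V]

/-- the product of the conjugates of `y` under `t ⊆ F`, acting on the weight spaces of the `F`-orbit
of `l`, when `y` is trivial on the weight spaces of the orbit other than that of `l`. -/
theorem exists_prod_conj (π : Representation E G V) (W : Submodule E V) {P F : Subgroup G}
    (hPW : Pres π P W) (hFW : Pres π F W) (hFP : F ≤ Subgroup.normalizer (P : Set G))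
    (l : G → E) {y : G} (hyP : y ∈ P)
    (hy : ∀ f ∈ F, f ∉ stab (cen π W P hPW) l → ∀ v ∈ wt π (cen π W P hPW) W (cj f l), π y v = v)
    (hyF : ∀ f ∈ F, f ∈ stab (cen π W P hPW) l → f * y = y * f) :
    ∃ z ∈ P, ∀ f ∈ F, ∀ v ∈ wt π (cen π W P hPW) W (cj f l),
      π z v = π ((f * y * f⁻¹) ^ (Nat.card ↥(F ⊓ stab (cen π W P hPW) l))) v := by
  classical
  have : Fintype F := Fintype.ofFinite F
  set A := cen π W P hPW with hA
  have hFA : F ≤ Subgroup.normalizer (A : Set G) := le_normalizer_cen π W hPW hFW hFP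
  have key : ∀ t : Finset F, ∃ z ∈ P, ∀ f : F, ∀ v ∈ wt π A W (cj (f : G) l),
      π z v = π (((f : G) * y * (f : G)⁻¹) ^
        (t.filter fun g : F => (f : G)⁻¹ * g ∈ stab A l).card) v := by
    intro t
    induction t using Finset.induction_on with
    | empty =>
      refine ⟨1, P.one_mem, fun f v _ => ?_⟩
      simp
    | insert g t hg ih =>
      obtain ⟨z, hz, hz'⟩ := ih
      refine ⟨g * y * (g : G)⁻¹ * z, P.mul_mem (conj_mem_of_le_normalizer hFP g.2 hyP) hz, ?_⟩
      intro f v hv
      have hfy : (f : G) * y * (f : G)⁻¹ ∈ P := conj_mem_of_le_normalizer hFP f.2 hyP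
      have hpow : ∀ k : ℕ, π (((f : G) * y * (f : G)⁻¹) ^ k) v ∈ wt π A W (cj (f : G) l) := by
        intro k
        have h1 : ((f : G) * y * (f : G)⁻¹) ^ k ∈ P := P.pow_mem hfy k
        exact apply_mem_wt_of_comm (fun w hw => hPW _ h1 w hw)
          (fun a ha w hw => (mem_cen.mp ha).2 _ h1 w hw) hv
      rw [mul_apply', hz' f v hv, Finset.filter_insert]
      by_cases hfg : (f : G)⁻¹ * g ∈ stab A l
      · rw [if_pos hfg, Finset.card_insert_of_notMem (fun h => hg (Finset.mem_of_mem_filter _ h)),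
          pow_succ', mul_apply' π ((f : G) * y * (f : G)⁻¹)]
        congr 2
        have h1 := hyF _ (F.mul_mem (F.inv_mem f.2) g.2) hfg
        have h2 : (g : G) * y * (g : G)⁻¹ =
            f * (((f : G)⁻¹ * g) * y) * ((f : G)⁻¹ * g)⁻¹ * (f : G)⁻¹ := by group
        rw [h2, h1]
        group
      · rw [if_neg hfg]
        set w := π (((f : G) * y * (f : G)⁻¹) ^
          (t.filter fun g : F => (f : G)⁻¹ * g ∈ stab A l).card) v with hw
        have hwm : w ∈ wt π A W (cj (f : G) l) := hpow _
        have h1 : π (g : G)⁻¹ w ∈ wt π A W (cj ((g : G)⁻¹ * f) l) := by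
          rw [cj_mul]
          exact apply_mem_wt (hFA (F.inv_mem g.2)) (hFW _ (F.inv_mem g.2)) hwm
        have h2 : (g : G)⁻¹ * f ∉ stab A l := by
          intro h
          apply hfg
          have h3 := (stab A l).inv_mem h
          rwa [mul_inv_rev, inv_inv] at h3
        have h3 := hy _ (F.mul_mem (F.inv_mem g.2) f.2) h2 _ h1
        rw [mul_apply', mul_apply', h3, apply_inv]
  obtain ⟨z, hz, hz'⟩ := key Finset.univ
  refine ⟨z, hz, fun f hf v hv => ?_⟩
  have h1 := hz' ⟨f, hf⟩ v hv
  have h2 : (Finset.univ.filter fun g : F => ((⟨f, hf⟩ : F) : G)⁻¹ * g ∈ stab A l).card =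
      Nat.card ↥(F ⊓ stab A l) := by
    rw [← Fintype.card_subtype, ← Nat.card_eq_fintype_card]
    refine Nat.card_congr
      { toFun := fun x => ⟨f⁻¹ * x.1, F.mul_mem (F.inv_mem hf) x.1.2, x.2⟩
        invFun := fun x => ⟨⟨f * x.1, F.mul_mem hf x.2.1⟩, by
          change f⁻¹ * (f * x.1) ∈ stab A l
          rw [inv_mul_cancel_left]
          exact x.2.2⟩
        left_inv := fun x => by
          apply Subtype.ext
          apply Subtype.ext
          exact mul_inv_cancel_left f _
        right_inv := fun x => by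
          apply Subtype.ext
          exact inv_mul_cancel_left f _ }
  rw [h2] at h1
  exact h1

/-- the product of the `F`-conjugates of an element of the centre -/
theorem exists_prod_cen (π : Representation E G V) (W : Submodule E V) {P F : Subgroup G}
    (hPW : Pres π P W) (hFW : Pres π F W) (hFP : F ≤ Subgroup.normalizer (P : Set G))
    {a : G} (ha : a ∈ cen π W P hPW) [Fintype F] :
    ∃ z ∈ cen π W P hPW, ∀ m : G → E, ∀ v ∈ wt π (cen π W P hPW) W m,
      π z v = (∏ f : F, m ((f : G) * a * (f : G)⁻¹)) • v := by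
  classical
  set A := cen π W P hPW with hA
  have hFA : F ≤ Subgroup.normalizer (A : Set G) := le_normalizer_cen π W hPW hFW hFP
  have key : ∀ t : Finset F, ∃ z ∈ A, ∀ m : G → E, ∀ v ∈ wt π A W m,
      π z v = (∏ f ∈ t, m ((f : G) * a * (f : G)⁻¹)) • v := by
    intro t
    induction t using Finset.induction_on with
    | empty =>
      refine ⟨1, A.one_mem, fun m v _ => ?_⟩
      simp
    | insert g t hg ih =>
      obtain ⟨z, hz, hz'⟩ := ih
      have hga : (g : G) * a * (g : G)⁻¹ ∈ A := conj_mem_of_le_normalizer hFA g.2 ha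
      refine ⟨g * a * (g : G)⁻¹ * z, A.mul_mem hga hz, ?_⟩
      intro m v hv
      rw [mul_apply', hz' m v hv, map_smul, hv.2 _ hga, smul_smul, Finset.prod_insert hg, mul_comm]
  exact key Finset.univ

theorem main_aux {p s : ℕ} [hp : Fact p.Prime] [hs : Fact s.Prime] (hps : p ≠ s)
    (π : Representation E G V) {R : Subgroup G} (hR : (Nat.card R).Prime)
    (hRp : Nat.card R ≠ p) (hRs : Nat.card R ≠ s) (hpE : (p : E) ≠ 0) (hsE : (s : E) ≠ 0)
    (n : ℕ) :
    ∀ (P F : Subgroup G) (W : Submodule E V), Nat.card F + finrank E W ≤ n →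
      IsPGroup p P → IsPGroup s F → Pres π P W → Pres π F W → Pres π R W →
      R ≤ Subgroup.normalizer (P : Set G) → R ≤ Subgroup.normalizer (F : Set G) →
      F ≤ Subgroup.normalizer (P : Set G) →
      Nat.card ↥(F ⊓ Subgroup.centralizer (R : Set G)) ∣ s →
      (∀ y ∈ P, (∀ f ∈ F, f * y = y * f) → ∀ w ∈ W, π y w = w) →
      (∀ w ∈ W, (∀ f ∈ F, π f w = w) → w = 0) →
      ∀ x ∈ P, x ∈ Subgroup.centralizer (R : Set G) →
      (∀ w ∈ W, (∀ r ∈ R, π r w = w) → π x w = w) → ∀ w ∈ W, π x w = w := by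
  classical
  induction n with
  | zero =>
    intro P F W hn
    have : 0 < Nat.card F := Nat.card_pos
    omega
  | succ n ih =>
  intro P F W hn hP hF hPW hFW hRW hRP hRF hFP hCR hCP hCW x hxP hxR hxC
  -- orders
  obtain ⟨kp, hkp⟩ := hP.exists_card_eq
  obtain ⟨ks, hks⟩ := hF.exists_card_eq
  have hPE : (Nat.card P : E) ≠ 0 := by
    rw [hkp, Nat.cast_pow]; exact pow_ne_zero _ hpE
  have hFE : (Nat.card F : E) ≠ 0 := by
    rw [hks, Nat.cast_pow]; exact pow_ne_zero _ hsE
  have hRPc : ¬ Nat.card R ∣ Nat.card P := by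
    intro h
    rw [hkp] at h
    exact hRp ((Nat.prime_dvd_prime_iff_eq hR hp.out).mp (hR.dvd_of_dvd_pow h))
  have hRFc : ∀ D : Subgroup G, D ≤ F → ¬ Nat.card R ∣ Nat.card D := by
    intro D hD h
    have h1 := h.trans (Subgroup.card_dvd_of_le hD)
    rw [hks] at h1
    exact hRs ((Nat.prime_dvd_prime_iff_eq hR hs.out).mp (hR.dvd_of_dvd_pow h1))
  have hsP : ∀ D : Subgroup G, D ≤ P → ¬ s ∣ Nat.card D := by
    intro D hD h
    have h1 := h.trans (Subgroup.card_dvd_of_le hD)
    rw [hkp] at h1
    exact hps.symm ((Nat.prime_dvd_prime_iff_eq hs.out hp.out).mp (hs.out.dvd_of_dvd_pow h1))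
  -- the centre modulo the kernel
  set A := cen π W P hPW with hA
  have hAP : A ≤ P := fun a ha => ha.1
  have hAW : Pres π A W := hPW.mono hAP
  have hAcomm : ∀ a ∈ A, ∀ b ∈ A, ∀ w ∈ W, π a (π b w) = π b (π a w) :=
    fun a ha b hb => ha.2 b hb.1
  have hAE : (Nat.card A : E) ≠ 0 :=
    natCast_ne_zero_of_dvd (Subgroup.card_dvd_of_le hAP) hPE
  have hFA : F ≤ Subgroup.normalizer (A : Set G) := le_normalizer_cen π W hPW hFW hFP
  have hRA : R ≤ Subgroup.normalizer (A : Set G) := le_normalizer_cen π W hPW hRW hRP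
  have hcomm : ∀ y ∈ P, ∀ a ∈ A, ∀ w ∈ W, π a (π y w) = π y (π a w) :=
    fun y hy a ha => ha.2 y hy
  have hPwt : ∀ l : G → E, Pres π P (wt π A W l) := fun l y hy v hv =>
    apply_mem_wt_of_comm (fun w hw => hPW _ hy w hw) (hcomm y hy) hv
  -- it is enough to look at weight spaces
  let Q : Submodule E V := LinearMap.ker (π x - LinearMap.id)
  have hQ : ∀ v, v ∈ Q ↔ π x v = v := by
    intro v
    rw [LinearMap.mem_ker, LinearMap.sub_apply, LinearMap.id_apply, sub_eq_zero]
  suffices h : ∀ l : G → E, wt π A W l ≤ Q by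
    intro w hw
    exact (hQ w).mp (le_of_wt_le hAE hAW hAcomm Q h hw)
  intro l v hv
  rw [hQ]
  by_cases hlR : ∀ r ∈ R, Same A (cj r l) l
  swap
  · exact trivial_of_not_fixed π W hRW hRA hR (hPW x hxP) (hcomm x hxP) hxR hxC l hlR v hv
  have hRst : R ≤ stab A l := fun r hr => ⟨hRA hr, hlR r hr⟩
  have hRwt : Pres π R (wt π A W l) := by
    intro r hr w hw
    have h1 := apply_mem_wt (hRA hr) (hRW r hr) hw
    rwa [wt_congr π W (hlR r hr)] at h1
  set F₁ := F ⊓ stab A l with hF₁
  have hF₁F : F₁ ≤ F := inf_le_left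
  have hF₁wt : Pres π F₁ (wt π A W l) := by
    intro f hf w hw
    have h1 := apply_mem_wt (hFA hf.1) (hFW f hf.1) hw
    rwa [wt_congr π W hf.2.2] at h1
  have hRF₁ : R ≤ Subgroup.normalizer (F₁ : Set G) := by
    apply le_normalizer_of_conj
    intro r hr f hf
    exact ⟨conj_mem_of_le_normalizer hRF hr hf.1,
      (stab A l).mul_mem ((stab A l).mul_mem (hRst hr) hf.2) ((stab A l).inv_mem (hRst hr))⟩
  have hfix₁ : ∀ w ∈ wt π A W l, (∀ f ∈ F₁, π f w = w) → w = 0 :=
    eq_zero_of_fixed π W hFW hFA hFE hCW l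
  have hF₁P : F₁ ≤ Subgroup.normalizer (P : Set G) := hF₁F.trans hFP
  by_cases hC1 : F ⊓ Subgroup.centralizer (R : Set G) ≤ F₁
  swap
  · -- Frobenius case
    have hC2 : F₁ ⊓ Subgroup.centralizer (R : Set G) = ⊥ := by
      have hle : F₁ ⊓ Subgroup.centralizer (R : Set G) ≤ F ⊓ Subgroup.centralizer (R : Set G) :=
        inf_le_inf_right _ hF₁F
      have hd := Subgroup.card_dvd_of_le hle
      rcases (Nat.dvd_prime hs.out).mp (hd.trans hCR) with h | h
      · exact Subgroup.card_eq_one.mp h
      · exfalso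
        apply hC1
        have h1 : Nat.card ↥(F ⊓ Subgroup.centralizer (R : Set G)) ≤
            Nat.card ↥(F₁ ⊓ Subgroup.centralizer (R : Set G)) := by
          rw [h]
          exact Nat.le_of_dvd hs.out.pos hCR
        have h2 := Subgroup.eq_of_le_of_card_ge hle h1
        rw [← h2]
        exact inf_le_left
    have hPsol : Group.IsSolvable P := by
      have := hP.isNilpotent
      infer_instance
    have hFsol : Group.IsSolvable F₁ := by
      have := (hF.to_le hF₁F).isNilpotent
      infer_instance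
    exact claimK_sub π (wt π A W l) (hPwt l) hF₁wt hRwt hRP hRF₁ hF₁P hPsol hFsol hR hRPc
      (hRFc F₁ hF₁F) hPE (natCast_ne_zero_of_dvd (Subgroup.card_dvd_of_le hF₁F) hFE) hC2 hfix₁
      hxP hxR (fun w hw => hxC w hw.1) v hv
  by_cases hF₁eq : F ≤ F₁
  · -- the weight is invariant under `F`
    have hFst : F ≤ stab A l := fun f hf => (hF₁eq hf).2
    have hFwt : Pres π F (wt π A W l) := fun f hf => hF₁wt f (hF₁eq hf)
    by_cases hv0 : v = 0
    · rw [hv0, map_zero]
    have hFf : Fintype F := Fintype.ofFinite F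
    -- `A` is trivial on the weight space
    have hl1 : ∀ a ∈ A, l a = 1 := by
      intro a ha
      obtain ⟨z, hz, hz'⟩ := exists_prod_cen π W hPW hFW hFP ha
      let K : Subgroup G := fixer π P (W : Set V)
      have hKP : K ≤ P := fun y hy => hy.1
      obtain ⟨d, hd, hd'⟩ := SignalizersComponents.CoprimeBasic.exists_fixed_in_coset F hF K
        (hsP K hKP) (by
          intro f hf d hd
          refine ⟨conj_mem_of_le_normalizer hFP hf hd.1, fun w hw => ?_⟩
          rw [mul_apply', mul_apply', hd.2 _ (hFW _ (F.inv_mem hf) w hw), apply_inv]) z (by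
          intro f hf
          have hzf : f * z * f⁻¹ ∈ A := conj_mem_of_le_normalizer hFA hf hz
          have hmem : z⁻¹ * (f * z * f⁻¹) ∈ A := A.mul_mem (A.inv_mem hz) hzf
          refine ⟨hmem.1, ?_⟩
          let Q' : Submodule E V := LinearMap.ker (π (z⁻¹ * (f * z * f⁻¹)) - LinearMap.id)
          have hQ' : ∀ v, v ∈ Q' ↔ π (z⁻¹ * (f * z * f⁻¹)) v = v := by
            intro v
            rw [LinearMap.mem_ker, LinearMap.sub_apply, LinearMap.id_apply, sub_eq_zero]
          have hle : W ≤ Q' := by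
            apply le_of_wt_le hAE hAW hAcomm
            intro m u hu
            rw [hQ']
            have h1 : π f⁻¹ u ∈ wt π A W (cj f⁻¹ m) :=
              apply_mem_wt (hFA (F.inv_mem hf)) (hFW _ (F.inv_mem hf)) hu
            have h2 : π (f * z * f⁻¹) u =
                (∏ g : F, m ((g : G) * a * (g : G)⁻¹)) • u := by
              rw [mul_apply', mul_apply', hz' _ _ h1, map_smul, apply_inv]
              congr 1
              refine Fintype.prod_bijective (fun g => ⟨f, hf⟩ * g) (Group.mulLeft_bijective _) _ _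
                fun g => ?_
              simp only [cj, inv_inv, Subgroup.coe_mul, mul_inv_rev]
              congr 1
              group
            rw [mul_apply', h2, map_smul, ← hz' m _ (by
              exact apply_mem_wt_of_comm (fun w hw => hAW _ (A.inv_mem hz) w hw)
                (hcomm _ (hAP (A.inv_mem hz))) hu), apply_inv]
          intro w hw
          exact (hQ' w).mp (hle hw))
      have h1 : ∀ w ∈ W, π (z * d) w = w := by
        apply hCP _ (P.mul_mem hz.1 hd.1)
        intro f hf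
        exact hd' f hf
      have h2 : π z v = v := by
        have h3 := h1 v hv.1
        rwa [mul_apply', hd.2 v hv.1] at h3
      rw [hz' l v hv] at h2
      have h3 : ∏ f : F, l ((f : G) * a * (f : G)⁻¹) = l a ^ Nat.card F := by
        rw [Finset.prod_congr rfl (g := fun _ => l a) ?_, Finset.prod_const, Finset.card_univ,
          Nat.card_eq_fintype_card]
        intro f _
        have h4 := (hFst (F.inv_mem f.2)).2 a ha
        simp only [cj, inv_inv] at h4
        exact h4
      rw [h3] at h2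
      have h4 : l a ^ Nat.card F = 1 := by
        have h5 : (l a ^ Nat.card F - 1) • v = 0 := by rw [sub_smul, h2, one_smul, sub_self]
        exact sub_eq_zero.mp ((smul_eq_zero.mp h5).resolve_right hv0)
      have h6 : l a ^ Nat.card P = 1 := by
        have h7 : ∀ k : ℕ, π (a ^ k) v = l a ^ k • v := by
          intro k
          induction k with
          | zero => simp
          | succ k ihk => rw [pow_succ', mul_apply', ihk, map_smul, hv.2 a ha, smul_smul, pow_succ]
        have h8 := h7 (Nat.card P)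
        have h9 : a ^ Nat.card P = 1 := by
          have h10 : (⟨a, ha.1⟩ : P) ^ Nat.card P = 1 := pow_card_eq_one'
          exact congrArg Subtype.val h10
        rw [h9, map_one, Module.End.one_apply] at h8
        have h5 : (l a ^ Nat.card P - 1) • v = 0 := by rw [sub_smul, ← h8, one_smul, sub_self]
        exact sub_eq_zero.mp ((smul_eq_zero.mp h5).resolve_right hv0)
      have hcop : (Nat.card F).Coprime (Nat.card P) := by
        rw [hks, hkp]
        exact Nat.Coprime.pow _ _ ((Nat.coprime_primes hs.out hp.out).mpr hps.symm)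
      have h7 := Nat.dvd_gcd (orderOf_dvd_of_pow_eq_one h4) (orderOf_dvd_of_pow_eq_one h6)
      rw [hcop] at h7
      exact orderOf_eq_one_iff.mp (Nat.dvd_one.mp h7)
    by_cases hWwt : W ≤ wt π A W l
    · -- `A` is trivial on `W`
      refine trivial_of_center π W hP hPW ?_ x hxP v hv.1
      intro a ha hac w hw
      have haA : a ∈ A := ⟨ha, hac⟩
      rw [(hWwt hw).2 a haA, hl1 a haA, one_smul]
    · have hlt : wt π A W l < W := lt_of_le_of_ne (wt_le π A W l) (fun h => hWwt h.ge)
      have hfr : finrank E (wt π A W l) < finrank E W := Submodule.finrank_lt_finrank_of_lt hlt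
      exact ih P F (wt π A W l) (by omega) hP hF (hPwt l) hFwt hRwt hRP hRF hFP hCR
        (fun y hy hyF w hw => hCP y hy hyF w hw.1) (fun w hw => hCW w hw.1) x hxP hxR
        (fun w hw => hxC w hw.1) v hv
  · -- a proper stabiliser containing `C_F(R)`
    have hF₁lt : F₁ < F := lt_of_le_of_ne hF₁F (fun h => hF₁eq h.ge)
    have hcard : Nat.card F₁ < Nat.card F := by
      exact Set.Finite.card_lt_card (Set.toFinite _) hF₁lt
    have hfr : finrank E (wt π A W l) ≤ finrank E W := Submodule.finrank_mono (wt_le π A W l)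
    -- the other weights of the orbit are not fixed by `R`
    have hnf : ∀ f ∈ F, f ∉ stab A l → ¬ ∀ r ∈ R, Same A (cj r (cj f l)) (cj f l) := by
      intro f hf hfl hcon
      have hRr : IsPGroup (Nat.card R) R := IsPGroup.of_card (n := 1) (by rw [pow_one])
      have hRfact : Fact (Nat.card R).Prime := ⟨hR⟩
      obtain ⟨d, hd, hd'⟩ := SignalizersComponents.CoprimeBasic.exists_fixed_in_coset R hRr F₁
        (hRFc F₁ hF₁F) (fun r hr d hd => conj_mem_of_le_normalizer hRF₁ hr hd) f (by
          intro r hr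
          have h1 : f⁻¹ * (r * f * r⁻¹) ∈ F :=
            F.mul_mem (F.inv_mem hf) (conj_mem_of_le_normalizer hRF hr hf)
          refine ⟨h1, ?_⟩
          have h2 : f⁻¹ * r * f ∈ stab A l := by
            refine ⟨Subgroup.mul_mem _ (Subgroup.mul_mem _ (hFA (F.inv_mem hf)) (hRA hr))
              (hFA hf), ?_⟩
            rw [cj_mul, cj_mul]
            have h3 := (hcon r hr).cj (hFA (F.inv_mem hf))
            rw [← cj_mul f⁻¹ f, inv_mul_cancel, cj_one] at h3
            exact h3
          have h3 : f⁻¹ * (r * f * r⁻¹) = (f⁻¹ * r * f) * r⁻¹ := by group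
          rw [h3]
          exact (stab A l).mul_mem h2 ((stab A l).inv_mem (hRst hr)))
      have h1 : f * d ∈ F ⊓ Subgroup.centralizer (R : Set G) :=
        ⟨F.mul_mem hf hd.1, Subgroup.mem_centralizer_iff.mpr fun r hr => hd' r hr⟩
      have h2 := (hC1 h1).2
      apply hfl
      have h3 := (stab A l).mul_mem h2 ((stab A l).inv_mem hd.2)
      rwa [mul_inv_cancel_right] at h3
    -- the subgroup trivial on the other weight spaces
    let S : Set V := {u | ∃ f ∈ F, f ∉ stab A l ∧ u ∈ wt π A W (cj f l)}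
    let P₁ : Subgroup G := fixer π P S
    have hP₁P : P₁ ≤ P := fun y hy => hy.1
    have hxP₁ : x ∈ P₁ := by
      refine ⟨hxP, ?_⟩
      rintro u ⟨f, hf, hfl, hu⟩
      exact trivial_of_not_fixed π W hRW hRA hR (hPW x hxP) (hcomm x hxP) hxR hxC _
        (hnf f hf hfl) u hu
    have hnorm : ∀ g ∈ stab A l, g ∈ Subgroup.normalizer (P : Set G) →
        g ∈ Subgroup.normalizer (F : Set G) → (∀ w ∈ W, π g⁻¹ w ∈ W) →
        ∀ y ∈ P₁, g * y * g⁻¹ ∈ P₁ := by
      intro g hg hgP hgF hgW y hy
      refine ⟨(Subgroup.mem_normalizer_iff.mp hgP y).mp hy.1, ?_⟩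
      rintro u ⟨f, hf, hfl, hu⟩
      have hgi : g⁻¹ ∈ stab A l := (stab A l).inv_mem hg
      have h1 : π g⁻¹ u ∈ wt π A W (cj g⁻¹ (cj f l)) := apply_mem_wt hgi.1 hgW hu
      have h2 : cj g⁻¹ (cj f l) = cj (g⁻¹ * f * g) (cj g⁻¹ l) := by
        rw [← cj_mul, ← cj_mul]
        congr 1
        group
      have hf' : g⁻¹ * f * g ∈ F := conj_mem_of_normalizer hgF hf
      rw [h2, wt_congr π W (hgi.2.cj (hFA hf'))] at h1
      have h3 : g⁻¹ * f * g ∉ stab A l := by
        intro h
        apply hfl
        have h4 := (stab A l).mul_mem ((stab A l).mul_mem hg h) hgi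
        have h5 : g * (g⁻¹ * f * g) * g⁻¹ = f := by group
        rwa [h5] at h4
      have h4 := hy.2 _ ⟨_, hf', h3, h1⟩
      rw [mul_apply', mul_apply', h4, apply_inv]
    have hRP₁ : R ≤ Subgroup.normalizer (P₁ : Set G) :=
      le_normalizer_of_conj fun r hr y hy => hnorm r (hRst hr) (hRP hr) (hRF hr)
        (hRW _ (R.inv_mem hr)) y hy
    have hF₁P₁ : F₁ ≤ Subgroup.normalizer (P₁ : Set G) :=
      le_normalizer_of_conj fun f hf y hy => hnorm f hf.2 (hFP hf.1)
        (Subgroup.le_normalizer hf.1) (hFW _ (F.inv_mem hf.1)) y hy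
    have hCR₁ : Nat.card ↥(F₁ ⊓ Subgroup.centralizer (R : Set G)) ∣ s :=
      (Subgroup.card_dvd_of_le (inf_le_inf_right _ hF₁F)).trans hCR
    -- `C_{P₁}(F₁)` is trivial on the weight space
    have hCP₁ : ∀ y ∈ P₁, (∀ f ∈ F₁, f * y = y * f) → ∀ w ∈ wt π A W l, π y w = w := by
      intro y hy hyF w hw
      obtain ⟨z, hz, hz'⟩ := exists_prod_conj π W hPW hFW hFP l hy.1
        (fun f hf hfl u hu => hy.2 u ⟨f, hf, hfl, hu⟩) (fun f hf hfl => hyF f ⟨hf, hfl⟩)
      set m := Nat.card ↥(F ⊓ stab (cen π W P hPW) l) with hm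
      let S' : Set V := {u | ∃ f ∈ F, u ∈ wt π A W (cj f l)}
      let K : Subgroup G := fixer π P S'
      have hKP : K ≤ P := fun y hy => hy.1
      have htr : ∀ g ∈ F, ∀ f ∈ F, ∀ u ∈ wt π A W (cj f l),
          π g⁻¹ u ∈ wt π A W (cj (g⁻¹ * f) l) := by
        intro g hg f hf u hu
        rw [cj_mul]
        exact apply_mem_wt (hFA (F.inv_mem hg)) (hFW _ (F.inv_mem hg)) hu
      obtain ⟨d, hd, hd'⟩ := SignalizersComponents.CoprimeBasic.exists_fixed_in_coset F hF K
        (hsP K hKP) (by
          intro g hg d hd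
          refine ⟨conj_mem_of_le_normalizer hFP hg hd.1, ?_⟩
          rintro u ⟨f, hf, hu⟩
          have h1 := hd.2 _ ⟨g⁻¹ * f, F.mul_mem (F.inv_mem hg) hf, htr g hg f hf u hu⟩
          rw [mul_apply', mul_apply', h1, apply_inv]) z (by
          intro g hg
          refine ⟨P.mul_mem (P.inv_mem hz) (conj_mem_of_le_normalizer hFP hg hz), ?_⟩
          rintro u ⟨f, hf, hu⟩
          have h1 := hz' _ (F.mul_mem (F.inv_mem hg) hf) _ (htr g hg f hf u hu)
          have h2 : π (g * z * g⁻¹) u = π z u := by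
            rw [mul_apply', mul_apply', h1, hz' f hf u hu, ← mul_apply', ← mul_apply']
            congr 2
            have h3 : (g⁻¹ * f * y * (g⁻¹ * f)⁻¹) = g⁻¹ * (f * y * f⁻¹) * g⁻¹⁻¹ := by group
            rw [h3, conj_pow]
            group
          rw [mul_apply', h2, inv_apply])
      have h1 : ∀ w ∈ W, π (z * d) w = w := by
        apply hCP _ (P.mul_mem hz hd.1)
        intro f hf
        exact hd' f hf
      have hw1 : w ∈ wt π A W (cj 1 l) := by rwa [cj_one]
      have h2 : π z w = w := by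
        have h3 := h1 w hw.1
        rwa [mul_apply', hd.2 w ⟨1, F.one_mem, hw1⟩] at h3
      rw [hz' 1 F.one_mem w hw1, one_mul, inv_one, mul_one] at h2
      have hcop : m.Coprime (orderOf y) := by
        obtain ⟨k, hk⟩ := (hF.to_le hF₁F).exists_card_eq
        obtain ⟨j, hj⟩ := hP ⟨y, hy.1⟩
        have hj' : y ^ p ^ j = 1 := congrArg Subtype.val hj
        have h3 : m = s ^ k := hk
        rw [h3]
        apply Nat.Coprime.coprime_dvd_right (orderOf_dvd_of_pow_eq_one hj')
        exact Nat.Coprime.pow _ _ ((Nat.coprime_primes hs.out hp.out).mpr hps.symm)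
      obtain ⟨j, hj⟩ := exists_pow_eq_self_of_coprime hcop
      have h3 : ∀ i : ℕ, π ((y ^ m) ^ i) w = w := by
        intro i
        induction i with
        | zero => simp
        | succ i ihi => rw [pow_succ', mul_apply', ihi, h2]
      rw [← hj]
      exact h3 j
    exact ih P₁ F₁ (wt π A W l) (by omega) (hP.to_le hP₁P) (hF.to_le hF₁F)
      ((hPwt l).mono hP₁P) hF₁wt hRwt hRP₁ hRF₁ hF₁P₁ hCR₁ hCP₁ hfix₁ x hxP₁ hxR
      (fun w hw => hxC w hw.1) v hv

end Cfsg.Agent.H575.ModM
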