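import Cfsg.Agent.H575.MLev

/-!
# Models of elementary abelian sections
-/

set_option autoImplicit false
set_option linter.unusedSectionVars false
set_option linter.unusedVariables false

namespace Cfsg.Agent.H575.Model

open Subgroup Cfsg.Agent.H575.Sect Cfsg.Agent.H575.Tower Cfsg.Agent.H575.BC
open scoped commutatorElement

universe u

variable {Γ : Type u} [Group Γ]

/-- the group acting on `L / ZL` -/
def nn (L ZL : Subgroup Γ) : Subgroup Γ := normalizer (L : Set Γ) ⊓ normalizer (ZL : Set Γ)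

/-- a model of the section `L / ZL` -/
structure Mod (L ZL : Subgroup Γ) (p : ℕ) {M : Type u} [CommGroup M] (f : L →* M)
    (θ : nn L ZL →* MulAut M) : Prop where
  surj : Function.Surjective f
  ker : ∀ l : L, f l = 1 ↔ (l : Γ) ∈ ZL
  eq : ∀ (g : nn L ZL) (l l' : L), (l' : Γ) = g * l * (g : Γ)⁻¹ → θ g (f l) = f l'
  exp : ∀ m : M, m ^ p = 1

theorem exists_mod [Finite Γ] {L ZL : Subgroup Γ} {p : ℕ} (hZL : ZL ≤ L)
    (hLL : ∀ x ∈ L, ∀ y ∈ L, ⁅x, y⁆ ∈ ZL)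
    (hLp : ∀ x ∈ L, x ^ p ∈ ZL) :
    ∃ (M : Type u) (_ : CommGroup M) (_ : Finite M) (f : L →* M) (θ : nn L ZL →* MulAut M),
      Mod L ZL p f θ := by
  have hn : (ZL.subgroupOf L).Normal := by
    refine ⟨fun z hz x => ?_⟩
    rw [Subgroup.mem_subgroupOf] at hz ⊢
    have h1 : ((x * z * x⁻¹ : L) : Γ) = ⁅(x : Γ), (z : Γ)⁆ * z := by
      rw [commutatorElement_def, inv_mul_cancel_right]
      rfl
    rw [h1]
    exact ZL.mul_mem (hLL _ x.2 _ z.2) hz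
  let instM : CommGroup (L ⧸ ZL.subgroupOf L) := { (inferInstance : Group (L ⧸ ZL.subgroupOf L)) with
    mul_comm := by
      intro x y
      induction x using QuotientGroup.induction_on with | H x => ?_
      induction y using QuotientGroup.induction_on with | H y => ?_
      change ((x * y : L) : L ⧸ ZL.subgroupOf L) = ((y * x : L) : L ⧸ ZL.subgroupOf L)
      rw [QuotientGroup.eq, Subgroup.mem_subgroupOf]
      have h1 : (((x * y)⁻¹ * (y * x) : L) : Γ) = ⁅(y : Γ)⁻¹, (x : Γ)⁻¹⁆ := by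
        rw [commutatorElement_def, inv_inv, inv_inv]
        simp [mul_assoc]
      rw [h1]
      exact hLL _ (L.inv_mem y.2) _ (L.inv_mem x.2) }
  refine ⟨L ⧸ ZL.subgroupOf L, instM, inferInstance, QuotientGroup.mk' (ZL.subgroupOf L),
    secAct (nn L ZL) L ZL inf_le_left inf_le_right, ?_⟩
  refine ⟨QuotientGroup.mk'_surjective _, ?_, ?_, ?_⟩
  · intro l
    exact QuotientGroup.eq_one_iff l
  · intro g l l' hl'
    have h1 := secAct_mk (H := nn L ZL) (L := L) (N := ZL) inf_le_left inf_le_right g l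
    refine h1.trans ?_
    exact congrArg _ (Subtype.ext hl'.symm)
  · intro m
    induction m using QuotientGroup.induction_on with | H x => ?_
    have h1 : ((x : L) : L ⧸ ZL.subgroupOf L) ^ p = ((x ^ p : L) : L ⧸ ZL.subgroupOf L) := rfl
    refine h1.trans ?_
    exact (QuotientGroup.eq_one_iff _).mpr (hLp x x.2)

variable {L ZL : Subgroup Γ} {p : ℕ} {M : Type u} [CommGroup M] {f : L →* M}
  {θ : nn L ZL →* MulAut M}

/-- the image of a subgroup -/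
def im (θ : nn L ZL →* MulAut M) (H : Subgroup Γ) : Subgroup (MulAut M) :=
  (H.subgroupOf (nn L ZL)).map θ

theorem mem_im {H : Subgroup Γ} {x : MulAut M} :
    x ∈ im θ H ↔ ∃ g : nn L ZL, (g : Γ) ∈ H ∧ θ g = x := Iff.rfl

theorem mem_im_of {H : Subgroup Γ} {g : nn L ZL} (hg : (g : Γ) ∈ H) : θ g ∈ im θ H :=
  ⟨g, hg, rfl⟩

theorem im_mono {H K : Subgroup Γ} (h : H ≤ K) : im θ H ≤ im θ K := by
  rintro _ ⟨g, hg, rfl⟩
  exact ⟨g, h hg, rfl⟩

theorem im_comm [Finite Γ] {H K : Subgroup Γ} (hH : H ≤ nn L ZL) (hK : K ≤ nn L ZL) :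
    im θ ⁅H, K⁆ = ⁅im θ H, im θ K⁆ := by
  rw [im, im, im, ← Subgroup.map_commutator, HA.commutator_subgroupOf hH hK]

theorem im_norm {H K : Subgroup Γ} (h : H ≤ normalizer (K : Set Γ)) :
    im θ H ≤ normalizer (im θ K : Set (MulAut M)) := by
  refine le_norm ?_
  rintro _ ⟨g, hg, rfl⟩ _ ⟨k, hk, rfl⟩
  exact ⟨g * k * g⁻¹, Sect.conj_mem h hg hk, by simp⟩

theorem im_pgroup {H : Subgroup Γ} {s : ℕ} (h : IsPGroup s H) : IsPGroup s (im θ H) :=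
  (h.comap_of_injective _ (nn L ZL).subtype_injective).map _

theorem mem_norm_L {g : Γ} (hg : g ∈ nn L ZL) {l : Γ} (hl : l ∈ L) : g * l * g⁻¹ ∈ L :=
  Sect.conj_mem (H := nn L ZL) inf_le_left hg hl

/-- fixed points -/
theorem Mod.fix_iff (h : Mod L ZL p f θ) {g : nn L ZL} {l : L} :
    θ g (f l) = f l ↔ ⁅(g : Γ), (l : Γ)⁆ ∈ ZL := by
  have h1 := h.eq g l ⟨g * l * (g : Γ)⁻¹, mem_norm_L g.2 l.2⟩ rfl
  rw [h1]
  have h2 := h.ker (⟨g * l * (g : Γ)⁻¹, mem_norm_L g.2 l.2⟩ * l⁻¹)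
  rw [map_mul, map_inv, mul_inv_eq_one] at h2
  rw [h2]
  rfl

theorem Mod.eq_one_iff (h : Mod L ZL p f θ) {g : nn L ZL} :
    θ g = 1 ↔ ∀ l ∈ L, ⁅(g : Γ), l⁆ ∈ ZL := by
  constructor
  · intro h1 l hl
    exact (h.fix_iff (g := g) (l := ⟨l, hl⟩)).mp (by rw [h1]; rfl)
  · intro h1
    ext m
    obtain ⟨l, rfl⟩ := h.surj m
    exact (h.fix_iff).mpr (h1 l l.2)

theorem Mod.mul_comm_iff (h : Mod L ZL p f θ) {g k : nn L ZL} :
    θ g * θ k = θ k * θ g ↔ ∀ l ∈ L, ⁅⁅(g : Γ), (k : Γ)⁆, l⁆ ∈ ZL := by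
  rw [← commutatorElement_eq_one_iff_mul_comm, ← map_commutatorElement, h.eq_one_iff]
  rfl

/-- elements of `[M, B]` come from `[L, B]` -/
theorem Mod.brm_lift (h : Mod L ZL p f θ) {B : Subgroup Γ}
    {m : M} (hm : m ∈ brm (im θ B)) : ∃ l : L, (l : Γ) ∈ ⁅L, B⁆ ∧ f l = m := by
  have hle : brm (im θ B) ≤ ((⁅L, B⁆ : Subgroup Γ).subgroupOf L).map f := by
    rw [brm, closure_le]
    rintro _ ⟨_, ⟨b, hb, rfl⟩, u, rfl⟩
    obtain ⟨l, rfl⟩ := h.surj u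
    have h1 := h.eq b l ⟨b * l * (b : Γ)⁻¹, mem_norm_L b.2 l.2⟩ rfl
    rw [h1]
    refine ⟨⟨b * l * (b : Γ)⁻¹, mem_norm_L b.2 l.2⟩ * l⁻¹, ?_, by rw [map_mul, map_inv]⟩
    show (b : Γ) * l * (b : Γ)⁻¹ * (l : Γ)⁻¹ ∈ ⁅L, B⁆
    rw [← commutatorElement_def, commutator_comm]
    exact commutator_mem_commutator hb l.2
  obtain ⟨l, hl, rfl⟩ := hle hm
  exact ⟨l, hl, rfl⟩

variable [Finite Γ] {R : Subgroup Γ} {r : ℕ}

/-- lifting fixed elements of the section -/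
theorem Mod.lift_fixed (h : Mod L ZL p f θ) (hr : r.Prime) (hR : IsPGroup r R)
    (hrL : ¬ r ∣ Nat.card L) (hRS : R ≤ nn L ZL) {N : Subgroup Γ} (hNL : N ≤ L)
    (hRN : R ≤ normalizer (N : Set Γ)) {l : L} (hl : (l : Γ) ∈ N)
    (hfix : ∀ a ∈ im θ R, a (f l) = f l) :
    ∃ c : L, (c : Γ) ∈ N ∧ (c : Γ) ∈ centralizer (R : Set Γ) ∧ f c = f l := by
  have hn : R ≤ normalizer ((ZL ⊓ N : Subgroup Γ) : Set Γ) :=
    le_normalizer_inf (hRS.trans inf_le_right) hRN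
  obtain ⟨c, hc, hcN⟩ := exists_cent_coset hr hR hn (fun h1 => hrL (h1.trans
    (Subgroup.card_dvd_of_le (inf_le_right.trans hNL)))) (k := (l : Γ)) (by
      intro a ha
      refine ⟨?_, N.mul_mem (N.inv_mem hl) (Sect.conj_mem hRN ha hl)⟩
      have h1 := hfix _ (mem_im_of (g := ⟨a, hRS ha⟩) ha)
      rw [h.fix_iff] at h1
      have h2 : (l : Γ)⁻¹ * (a * l * a⁻¹) = (l : Γ)⁻¹ * ⁅a, (l : Γ)⁆ * (l : Γ)⁻¹⁻¹ := by
        rw [commutatorElement_def]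
        group
      rw [SetLike.mem_coe, h2]
      -- `ZL` is normalised by `L`
      have h3 : (l : Γ)⁻¹ * ⁅a, (l : Γ)⁆ * (l : Γ)⁻¹⁻¹ ∈ L := by
        refine L.mul_mem (L.mul_mem (L.inv_mem l.2) ?_) (L.inv_mem (L.inv_mem l.2))
        rw [commutatorElement_def]
        exact L.mul_mem (mem_norm_L (hRS ha) l.2) (L.inv_mem l.2)
      have h4 : ⁅a, (l : Γ)⁆ ∈ L := by
        rw [commutatorElement_def]
        exact L.mul_mem (mem_norm_L (hRS ha) l.2) (L.inv_mem l.2)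
      have h5 := (h.ker ⟨_, h3⟩).mp (by
        have h6 : (⟨_, h3⟩ : L) = l⁻¹ * ⟨_, h4⟩ * l⁻¹⁻¹ := rfl
        rw [h6, map_mul, map_mul, (h.ker ⟨_, h4⟩).mpr h1, mul_one, ← map_mul, mul_inv_cancel,
          map_one])
      exact h5)
  have hcN' : c ∈ N := by
    have := N.mul_mem hl hcN.2
    rwa [mul_inv_cancel_left] at this
  refine ⟨⟨c, hNL hcN'⟩, hcN', hc, ?_⟩
  have h2 := (h.ker (l⁻¹ * ⟨c, hNL hcN'⟩)).mpr hcN.1
  rw [map_mul, map_inv, inv_mul_eq_one] at h2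
  exact h2.symm

/-- lifting elements of the image commuting with `R` -/
theorem Mod.lift_cent (h : Mod L ZL p f θ) (hr : r.Prime) (hR : IsPGroup r R)
    (hRS : R ≤ nn L ZL) {N : Subgroup Γ} (hNS : N ≤ nn L ZL) (hrN : ¬ r ∣ Nat.card N)
    (hRN : R ≤ normalizer (N : Set Γ)) {g : nn L ZL} (hg : (g : Γ) ∈ N)
    (hcom : ∀ a ∈ im θ R, a * θ g = θ g * a) :
    ∃ c : nn L ZL, (c : Γ) ∈ N ∧ (c : Γ) ∈ centralizer (R : Set Γ) ∧ θ c = θ g := by
  let Kr : Subgroup Γ := N ⊓ (θ.ker).map (nn L ZL).subtype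
  have hKr : R ≤ normalizer (Kr : Set Γ) := by
    refine le_normalizer_inf hRN (le_norm ?_)
    rintro a ha _ ⟨k, hk, rfl⟩
    refine ⟨⟨a, hRS ha⟩ * k * ⟨a, hRS ha⟩⁻¹, ?_, rfl⟩
    rw [SetLike.mem_coe, MonoidHom.mem_ker] at hk ⊢
    rw [map_mul, map_mul, hk, mul_one, ← map_mul, mul_inv_cancel, map_one]
  obtain ⟨c, hc, hcN⟩ := exists_cent_coset hr hR hKr (fun h1 => hrN (h1.trans
    (Subgroup.card_dvd_of_le inf_le_left))) (k := (g : Γ)) (by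
      intro a ha
      refine ⟨N.mul_mem (N.inv_mem hg) (Sect.conj_mem hRN ha hg), ?_⟩
      refine ⟨g⁻¹ * (⟨a, hRS ha⟩ * g * ⟨a, hRS ha⟩⁻¹), ?_, rfl⟩
      rw [SetLike.mem_coe, MonoidHom.mem_ker]
      have h1 := hcom _ (mem_im_of (g := ⟨a, hRS ha⟩) ha)
      rw [map_mul, map_mul, map_mul, h1, map_inv, map_inv, mul_inv_cancel_right, inv_mul_cancel])
  have hcN' : c ∈ N := by
    have := N.mul_mem hg hcN.1
    rwa [mul_inv_cancel_left] at this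
  obtain ⟨k, hk, hkc⟩ := hcN.2
  refine ⟨⟨c, hNS hcN'⟩, hcN', hc, ?_⟩
  have h1 : k = g⁻¹ * ⟨c, hNS hcN'⟩ := Subtype.ext hkc
  rw [SetLike.mem_coe, MonoidHom.mem_ker, h1, map_mul, map_inv, inv_mul_eq_one] at hk
  exact hk.symm

end Cfsg.Agent.H575.Model
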