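import Cfsg.Agent.H575.Fix
import Cfsg.Agent.Lib.CoprimeAbelian

/-!
# The image of an irreducible representation of a group of class two, and multiplicities
-/

set_option autoImplicit false
set_option linter.unusedSectionVars false

namespace Cfsg.Agent.H575.Mult

open Module Subgroup Cfsg.Agent.H575.Dim Cfsg.Agent.H575.ModM Cfsg.Agent.H575.ExtraMod
  Cfsg.Agent.H575.ExtraIrr Cfsg.Agent.H575.Fix
open scoped commutatorElement

/-- `C_F(R) ≤ N` if `[F, R] = F`, `F' ≤ N` and the orders are coprime. -/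
theorem cent_le_gen {Γ : Type*} [Group Γ] [Finite Γ] {R F N : Subgroup Γ}
    (hRs : (Nat.card R).Coprime (Nat.card F))
    (hab : ⁅F, F⁆ ≤ N) (hRF : R ≤ normalizer (F : Set Γ)) (hcomm : ⁅F, R⁆ = F) :
    F ⊓ centralizer (R : Set Γ) ≤ N := by
  classical
  let N' : Subgroup F := N.subgroupOf F
  have hN' : ∀ x y : F, x * y * x⁻¹ * y⁻¹ ∈ N' := by
    intro x y
    exact hab (Subgroup.commutator_mem_commutator x.2 y.2)
  have hnorm : N'.Normal := by
    refine ⟨fun n hn g => ?_⟩
    have h1 : g * n * g⁻¹ = (g * n * g⁻¹ * n⁻¹) * n := by group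
    rw [h1]
    exact N'.mul_mem (hN' g n) hn
  let inst : CommGroup (F ⧸ N') := { (inferInstance : Group (F ⧸ N')) with
    mul_comm := by
      intro x y
      induction x using QuotientGroup.induction_on with | H x => ?_
      induction y using QuotientGroup.induction_on with | H y => ?_
      change ((x * y : F) : F ⧸ N') = ((y * x : F) : F ⧸ N')
      rw [QuotientGroup.eq]
      have h := hN' y⁻¹ x⁻¹
      have h2 : (x * y)⁻¹ * (y * x) = y⁻¹ * x⁻¹ * y⁻¹⁻¹ * x⁻¹⁻¹ := by group
      rw [h2]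
      exact h }
  have : Fintype R := Fintype.ofFinite R
  let T : F →* F ⧸ N' :=
    { toFun := fun x => ∏ a : R, QuotientGroup.mk' N'
        ⟨a * x * (a : Γ)⁻¹, conj_mem_of_le_normalizer hRF a.2 x.2⟩
      map_one' := by
        refine Finset.prod_eq_one fun a _ => ?_
        have : (⟨a * ((1 : F) : Γ) * (a : Γ)⁻¹, conj_mem_of_le_normalizer hRF a.2 (1 : F).2⟩ : F) = 1 := by
          refine Subtype.ext ?_
          show (a : Γ) * 1 * (a : Γ)⁻¹ = 1
          group
        rw [this, map_one]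
      map_mul' := by
        intro x y
        rw [← Finset.prod_mul_distrib]
        refine Finset.prod_congr rfl fun a _ => ?_
        rw [← map_mul]
        refine congrArg _ (Subtype.ext ?_)
        show (a : Γ) * (x * y) * (a : Γ)⁻¹ = a * x * (a : Γ)⁻¹ * (a * y * (a : Γ)⁻¹)
        group }
  have hT : ∀ x : F, T x = ∏ a : R, QuotientGroup.mk' N'
        ⟨a * x * (a : Γ)⁻¹, conj_mem_of_le_normalizer hRF a.2 x.2⟩ := fun x => rfl
  have hTconj : ∀ (x : F) (b : R), T ⟨b * x * (b : Γ)⁻¹, conj_mem_of_le_normalizer hRF b.2 x.2⟩ = T x := by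
    intro x b
    rw [hT, hT]
    refine Fintype.prod_equiv (Equiv.mulRight b) _ _ fun a => ?_
    refine congrArg _ (Subtype.ext ?_)
    show (a : Γ) * (b * x * (b : Γ)⁻¹) * (a : Γ)⁻¹ = ((a * b : R) : Γ) * x * ((a * b : R) : Γ)⁻¹
    rw [Subgroup.coe_mul]
    group
  have hker : ⁅F, R⁆ ≤ T.ker.map F.subtype := by
    rw [Subgroup.commutator_le]
    intro x hx b hb
    let x' : F := ⟨x, hx⟩
    let y' : F := ⟨b * x * b⁻¹, conj_mem_of_le_normalizer hRF hb hx⟩
    refine ⟨x' * y'⁻¹, ?_, ?_⟩
    · show T (x' * y'⁻¹) = 1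
      rw [map_mul, map_inv, mul_inv_eq_one]
      exact (hTconj x' ⟨b, hb⟩).symm
    · show x * (b * x * b⁻¹)⁻¹ = ⁅x, b⁆
      rw [commutatorElement_def]
      group
  have hT1 : ∀ x : F, T x = 1 := by
    intro x
    have h1 : (x : Γ) ∈ T.ker.map F.subtype := by
      apply hker
      rw [hcomm]
      exact x.2
    obtain ⟨y, hy, hxy⟩ := h1
    have : y = x := Subtype.ext hxy
    rw [← this]
    exact hy
  rintro x ⟨hxF, hxR⟩
  have h1 := hT1 ⟨x, hxF⟩
  rw [hT] at h1
  have h2 : ∀ a : R, QuotientGroup.mk' N'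
        ⟨a * ((⟨x, hxF⟩ : F) : Γ) * (a : Γ)⁻¹, conj_mem_of_le_normalizer hRF a.2 (⟨x, hxF⟩ : F).2⟩ =
        QuotientGroup.mk' N' ⟨x, hxF⟩ := by
    intro a
    refine congrArg _ (Subtype.ext ?_)
    show (a : Γ) * x * (a : Γ)⁻¹ = x
    rw [Subgroup.mem_centralizer_iff.mp hxR a a.2]
    group
  rw [Finset.prod_congr rfl fun a _ => h2 a, Finset.prod_const, Finset.card_univ,
    ← Nat.card_eq_fintype_card] at h1
  have h3 : (Nat.card R).Coprime (Nat.card (F ⧸ N')) :=
    hRs.coprime_dvd_right (Subgroup.card_quotient_dvd_card N')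
  have h6 := Lib.CoprimeAbelian.eq_one_of_pow_coprime h3 _ h1
  have h7 : (⟨x, hxF⟩ : F) ∈ N' := (QuotientGroup.eq_one_iff _).mp h6
  exact h7

theorem commutator_map_one {G H : Type*} [Group G] [Group H] (f : G →* H) {x y : G}
    (h : f ⁅x, y⁆ = 1) : f x * f y = f y * f x := by
  rw [map_commutatorElement, commutatorElement_eq_one_iff_mul_comm] at h
  exact h

section Img

variable {E : Type*} [Field E] [IsAlgClosed E] {G V : Type*} [Group G] [Finite G]
    [AddCommGroup V] [Module E V] [FiniteDimensional E V] {ρ : Representation E G V}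

instance : Finite (MonoidHom.toHomUnits ρ).range :=
  Finite.of_surjective _ (MonoidHom.toHomUnits ρ).rangeRestrict_surjective

theorem irr_img {F : Subgroup G} (hirr : Irr (ρ.comp F.subtype)) :
    Irr ((imgRep ρ).comp (F.map (toImg ρ)).subtype) := by
  refine ⟨hirr.1, fun W hW => hirr.2 W ?_⟩
  intro h w hw
  exact hW ⟨toImg ρ h, ⟨h, h.2, rfl⟩⟩ w hw

/-- a faithful representation in which the centre acts by scalars -/
theorem ed_of_scal {H : Type*} [Group H] [Finite H] {π : Representation E H V}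
    (hinj : ∀ x y, π x = π y → x = y) {F R : Subgroup H} {r s : ℕ} (hr : r.Prime) (hs : s.Prime)
    (hrs : r ≠ s) (hR : Nat.card R ∣ r) (hF : IsPGroup s F) (hRF : R ≤ normalizer (F : Set H))
    (hcomm : ⁅F, R⁆ = F) (h1 : ∀ x ∈ F, ∀ y ∈ F, ∀ z ∈ F, ⁅⁅x, y⁆, z⁆ = 1)
    (h2 : ∀ x ∈ F, ∀ y ∈ F, ⁅x ^ s, y⁆ = 1) [hnt : Nontrivial V]
    (hscal : ∀ z : F, z ∈ center F → ∃ c : E, ∀ v, π (z : H) v = c • v) (hFne : F ≠ ⊥) :
    ED F R r s := by
  have : Fact s.Prime := ⟨hs⟩
  have : Fact r.Prime := ⟨hr⟩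
  have hRcard : Nat.card R = r := by
    rcases (Nat.dvd_prime hr).mp hR with h | h
    · exfalso
      apply hFne
      rw [← hcomm, Subgroup.card_eq_one.mp h, Subgroup.commutator_bot_right]
    · exact h
  have hcopF : (Nat.card R).Coprime (Nat.card F) := by
    obtain ⟨k, hk⟩ := hF.exists_card_eq
    rw [hRcard, hk]
    exact Nat.Coprime.pow_right _ ((Nat.coprime_primes hr hs).mpr hrs)
  -- commutators are central
  have hab : ∀ x y : F, x * y * x⁻¹ * y⁻¹ ∈ center F := by
    intro x y
    rw [Subgroup.mem_center_iff]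
    intro z
    apply Subtype.ext
    have h3 := commutatorElement_eq_one_iff_mul_comm.mp (h1 x x.2 y y.2 z z.2)
    rw [commutatorElement_def] at h3
    exact h3.symm
  -- central elements commute with everything
  have hZR : ∀ z ∈ center F, ∀ a : H, a * (z : H) = z * a := by
    intro z hz a
    obtain ⟨c, hc⟩ := hscal z hz
    apply hinj
    apply LinearMap.ext
    intro v
    rw [mul_apply', mul_apply', hc, hc, map_smul]
  have hFF : ⁅F, F⁆ ≤ F := by
    rw [Subgroup.commutator_le]
    intro u hu v hv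
    rw [commutatorElement_def]
    exact F.mul_mem (F.mul_mem (F.mul_mem hu hv) (F.inv_mem hu)) (F.inv_mem hv)
  have h4 : ∀ w ∈ ⁅F, F⁆, w ^ s = 1 ∧ ∀ x ∈ F, w * x = x * w := by
    intro w hw
    have hw' := hw
    rw [Subgroup.commutator_def] at hw
    induction hw using Subgroup.closure_induction with
    | mem w hw =>
      obtain ⟨x, hx, y, hy, rfl⟩ := hw
      have hc1 : ∀ g ∈ F, ⁅x, y⁆ * g = g * ⁅x, y⁆ := by
        intro g hg
        exact commutatorElement_eq_one_iff_mul_comm.mp (h1 x hx y hy g hg)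
      refine ⟨?_, hc1⟩
      -- `[x, y] ^ s = [x ^ s, y]`
      have h5 : ∀ n : ℕ, ⁅x, y⁆ ^ n = ⁅x ^ n, y⁆ := by
        intro n
        induction n with
        | zero => rw [pow_zero, pow_zero, commutatorElement_one_left]
        | succ n ih =>
          have h6 : ⁅x ^ (n + 1), y⁆ = x * ⁅x ^ n, y⁆ * x⁻¹ * ⁅x, y⁆ := by
            simp only [commutatorElement_def, pow_succ']
            group
          rw [h6, ← ih, pow_succ]
          have h7 : x * ⁅x, y⁆ ^ n = ⁅x, y⁆ ^ n * x := by
            have h8 : Commute ⁅x, y⁆ x := hc1 _ hx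
            exact (h8.pow_left n).eq.symm
          rw [h7, mul_inv_cancel_right]
      rw [h5]
      exact h2 x hx y hy
    | one => exact ⟨one_pow s, fun x _ => by rw [one_mul, mul_one]⟩
    | mul a b ha hb iha ihb =>
      have ha' : a ∈ ⁅F, F⁆ := by rw [Subgroup.commutator_def]; exact ha
      have hb' : b ∈ ⁅F, F⁆ := by rw [Subgroup.commutator_def]; exact hb
      have iha := iha ha'
      have ihb := ihb hb'
      have hcab : Commute a b := iha.2 b (hFF hb')
      refine ⟨by rw [hcab.mul_pow, iha.1, ihb.1, one_mul], fun x hx => ?_⟩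
      rw [mul_assoc, ihb.2 x hx, ← mul_assoc, iha.2 x hx, mul_assoc]
    | inv a ha iha =>
      have ha' : a ∈ ⁅F, F⁆ := by rw [Subgroup.commutator_def]; exact ha
      have iha := iha ha'
      refine ⟨by rw [inv_pow, iha.1, inv_one], fun x hx => ?_⟩
      have h5 := iha.2 x hx
      calc a⁻¹ * x = a⁻¹ * (x * a) * a⁻¹ := by group
        _ = a⁻¹ * (a * x) * a⁻¹ := by rw [h5]
        _ = x * a⁻¹ := by group
  have hpow : ∀ z ∈ center F, z ^ s = 1 := by
    intro z hz
    have h3 : (z : H) ∈ ⁅F, F⁆ := by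
      apply cent_le_gen hcopF le_rfl hRF hcomm
      refine ⟨z.2, Subgroup.mem_centralizer_iff.mpr fun a _ => hZR z hz a⟩
    apply Subtype.ext
    exact (h4 _ h3).1
  have hZcard : Nat.card (center F) = s := by
    classical
    -- the map to scalars
    have hc : ∀ z : center F, ∃ c : E, ∀ v, π ((z : F) : H) v = c • v :=
      fun z => hscal z z.2
    choose c hc using hc
    obtain ⟨v0, hv0⟩ := exists_ne (0 : V)
    have hcinj : Function.Injective c := by
      intro z w hzw
      apply Subtype.ext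
      apply Subtype.ext
      apply hinj
      apply LinearMap.ext
      intro v
      rw [hc, hc, hzw]
    have hcpow : ∀ z, c z ^ s = 1 := by
      intro z
      have h3 : ∀ n : ℕ, π (((z : F) : H) ^ n) v0 = c z ^ n • v0 := by
        intro n
        induction n with
        | zero => simp
        | succ n ih => rw [pow_succ', mul_apply', ih, map_smul, hc, smul_smul, pow_succ]
      have h4 := h3 s
      have h5 : ((z : F) : H) ^ s = 1 := congrArg Subtype.val (hpow z z.2)
      rw [h5, map_one, Module.End.one_apply] at h4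
      have h6 : (c z ^ s - 1) • v0 = 0 := by rw [sub_smul, one_smul, ← h4, sub_self]
      exact sub_eq_zero.mp ((smul_eq_zero.mp h6).resolve_right hv0)
    have hle : Nat.card (center F) ≤ s := by
      have hs0 : 0 < s := hs.pos
      let g : center F → Polynomial.nthRootsFinset s (1 : E) :=
        fun z => ⟨c z, (Polynomial.mem_nthRootsFinset hs0 1).mpr (hcpow z)⟩
      have hg : Function.Injective g := fun z w h => hcinj (congrArg Subtype.val h)
      calc Nat.card (center F) ≤ Nat.card (Polynomial.nthRootsFinset s (1 : E)) :=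
            Nat.card_le_card_of_injective g hg
        _ = (Polynomial.nthRootsFinset s (1 : E)).card := by
            rw [Nat.card_eq_fintype_card, Fintype.card_coe]
        _ ≤ s := by
            rw [Polynomial.nthRootsFinset_def]
            exact (Multiset.toFinset_card_le _).trans (Polynomial.card_nthRoots s 1)
    have hnt' : Nontrivial (center F) := by
      have h3 : Nontrivial F := (Subgroup.nontrivial_iff_ne_bot F).mpr hFne
      exact hF.center_nontrivial
    have h3 : 1 < Nat.card (center F) := Finite.one_lt_card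
    obtain ⟨k, hk⟩ := (hF.to_subgroup (center F)).exists_card_eq
    rw [hk] at hle h3 ⊢
    have hk1 : k = 1 := by
      have h4 : k ≠ 0 := by
        rintro rfl
        simp at h3
      have h5 : k ≤ 1 := by
        by_contra hcon
        push Not at hcon
        have h6 : s ^ 2 ≤ s ^ k := Nat.pow_le_pow_right hs.pos hcon
        have h7 : s * 2 ≤ s ^ 2 := by rw [sq]; exact Nat.mul_le_mul_left s hs.two_le
        have := hs.pos
        omega
      omega
    rw [hk1, pow_one]
  exact
    { hr := hr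
      hs := hs
      hrs := hrs
      hR := hRcard
      hF := hF
      hZ := hZcard
      hab := hab
      hRF := hRF
      hcomm := hcomm
      hCF := by
        intro x hx
        apply cent_le_gen hcopF ?_ hRF hcomm hx
        rw [Subgroup.commutator_le]
        intro u hu v hv
        exact ⟨⟨u, hu⟩ * ⟨v, hv⟩ * ⟨u, hu⟩⁻¹ * ⟨v, hv⟩⁻¹, hab _ _, rfl⟩ }

/-- a faithful representation -/
theorem rd_faithful {H : Type*} [Group H] [Finite H] {π : Representation E H V}
    (hinj : ∀ x y, π x = π y → x = y) {F R : Subgroup H} {r s : ℕ} (hr : r.Prime) (hs : s.Prime)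
    (hrs : r ≠ s) (hR : Nat.card R ∣ r) (hF : IsPGroup s F) (hRF : R ≤ normalizer (F : Set H))
    (hcomm : ⁅F, R⁆ = F) (h1 : ∀ x ∈ F, ∀ y ∈ F, ∀ z ∈ F, ⁅⁅x, y⁆, z⁆ = 1)
    (h2 : ∀ x ∈ F, ∀ y ∈ F, ⁅x ^ s, y⁆ = 1) (hrE : (r : E) ≠ 0) (hsE : (s : E) ≠ 0)
    (hirr : Irr (π.comp F.subtype)) (hFne : F ≠ ⊥) : RD π F R r s := by
  have hnt := hirr.1
  -- scalars
  have hscal : ∀ z : F, z ∈ center F → ∃ c : E, ∀ v, π (z : H) v = c • v := by
    intro z hz
    refine hirr.scalar (π (z : H)) fun g v => ?_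
    show π (z : H) (π (g : H) v) = π (g : H) (π (z : H) v)
    rw [← mul_apply', ← mul_apply']
    have := congrArg Subtype.val (Subgroup.mem_center_iff.mp hz g)
    rw [Subgroup.coe_mul, Subgroup.coe_mul] at this
    rw [this]
  have hCV : ∀ v, (∀ g ∈ F, π g v = v) → v = 0 := by
    intro v hv
    by_contra hv0
    have h3 : fix π F = ⊥ ∨ fix π F = ⊤ := by
      apply hirr.2
      intro g w hw a ha
      have h4 : π (g : H) w = w := hw g g.2
      show π a (π (g : H) w) = π (g : H) w
      rw [h4]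
      exact hw a ha
    rcases h3 with h3 | h3
    · have h4 : v ∈ fix π F := hv
      rw [h3, Submodule.mem_bot] at h4
      exact hv0 h4
    · apply hFne
      rw [eq_bot_iff]
      intro x hx
      rw [Subgroup.mem_bot]
      apply hinj
      apply LinearMap.ext
      intro w
      have h4 : w ∈ fix π F := by rw [h3]; exact Submodule.mem_top
      rw [map_one]
      exact h4 x hx
  exact
    { toED := ed_of_scal hinj hr hs hrs hR hF hRF hcomm h1 h2 hscal hFne
      hrE := hrE
      hsE := hsE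
      hirr := hirr
      hCV := hCV }

/-- the image of an irreducible representation -/
theorem rd_img {F R : Subgroup G} {r s : ℕ} (hr : r.Prime) (hs : s.Prime) (hrs : r ≠ s)
    (hR : Nat.card R = r) (hF : IsPGroup s F) (hRF : R ≤ normalizer (F : Set G))
    (hcomm : ⁅F, R⁆ = F) (h1 : ∀ x ∈ F, ∀ y ∈ F, ∀ z ∈ F, ρ ⁅⁅x, y⁆, z⁆ = 1)
    (h2 : ∀ x ∈ F, ∀ y ∈ F, ρ ⁅x ^ s, y⁆ = 1) (hrE : (r : E) ≠ 0) (hsE : (s : E) ≠ 0)
    (hirr : Irr (ρ.comp F.subtype)) (hne : ∃ x ∈ F, ρ x ≠ 1) :
    RD (imgRep ρ) (F.map (toImg ρ)) (R.map (toImg ρ)) r s := by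
  refine rd_faithful ?_ hr hs hrs ?_ (hF.map _) ?_ ?_ ?_ ?_ hrE hsE (irr_img hirr) ?_
  · intro x y hxy
    exact Subtype.ext (Units.ext hxy)
  · rw [← hR]
    exact Subgroup.card_map_dvd (f := toImg ρ) (H := R)
  · refine le_normalizer_of_conj ?_
    rintro _ ⟨a, ha, rfl⟩ _ ⟨x, hx, rfl⟩
    exact ⟨a * x * a⁻¹, conj_mem_of_le_normalizer hRF ha hx, by simp⟩
  · rw [← Subgroup.map_commutator, hcomm]
  · rintro _ ⟨x, hx, rfl⟩ _ ⟨y, hy, rfl⟩ _ ⟨z, hz, rfl⟩
    rw [← map_commutatorElement, ← map_commutatorElement]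
    exact toImg_eq_one.mpr (h1 x hx y hy z hz)
  · rintro _ ⟨x, hx, rfl⟩ _ ⟨y, hy, rfl⟩
    rw [← map_pow, ← map_commutatorElement]
    exact toImg_eq_one.mpr (h2 x hx y hy)
  · obtain ⟨x0, hx0, hne⟩ := hne
    intro h
    apply hne
    have h3 : toImg ρ x0 ∈ F.map (toImg ρ) := ⟨x0, hx0, rfl⟩
    rw [h, Subgroup.mem_bot] at h3
    exact toImg_eq_one.mp h3

end Img

section Commutant

variable {E : Type*} [Field E] [IsAlgClosed E] {V : Type*}
  [AddCommGroup V] [Module E V] [FiniteDimensional E V]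

/-- the dimensions of the eigenspaces of an operator of finite order and the commutant -/
theorem sum_eigen (T : Module.End E V) {r : ℕ} (hr : (r : E) ≠ 0) (hT : T ^ r = 1)
    (C : Submodule E (Module.End E V)) (hC : ∀ S : Module.End E V, S * T = T * S → S ∈ C) :
    finrank E V = ∑ μ ∈ Polynomial.nthRootsFinset r (1 : E), finrank E (T.eigenspace μ) ∧
    ∑ μ ∈ Polynomial.nthRootsFinset r (1 : E), finrank E (T.eigenspace μ) ^ 2 ≤ finrank E C := by
  classical
  have hr0 : 0 < r := Nat.pos_of_ne_zero (by rintro rfl; exact hr Nat.cast_zero)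
  have hss : T.IsSemisimple := by
    apply Module.End.isSemisimple_of_squarefree_aeval_eq_zero (p := Polynomial.X ^ r - 1)
    · exact (Polynomial.X_pow_sub_one_separable_iff.mpr hr).squarefree
    · rw [map_sub, map_pow, Polynomial.aeval_X, map_one, sub_eq_zero, hT]
  have htop : ⨆ μ : E, T.eigenspace μ = ⊤ := by
    rw [← Module.End.iSup_maxGenEigenspace_eq_top T]
    exact iSup_congr fun μ => (hss.isFinitelySemisimple.maxGenEigenspace_eq_eigenspace μ).symm
  let S : Finset E := Polynomial.nthRootsFinset r (1 : E)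
  have hpow : ∀ (μ : E) (v : V), T v = μ • v → ∀ n : ℕ, (T ^ n) v = μ ^ n • v := by
    intro μ v hv n
    induction n with
    | zero => simp
    | succ n ih => rw [pow_succ', Module.End.mul_apply, ih, map_smul, hv, smul_smul, pow_succ]
  have hbot : ∀ μ : E, μ ∉ S → T.eigenspace μ = ⊥ := by
    intro μ hμ
    rw [eq_bot_iff]
    intro v hv
    rw [Module.End.mem_eigenspace_iff] at hv
    rw [Submodule.mem_bot]
    by_contra hv0
    apply hμ
    rw [Polynomial.mem_nthRootsFinset hr0]
    have h2 := hpow μ v hv r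
    rw [hT, Module.End.one_apply] at h2
    have h3 : (μ ^ r - 1) • v = 0 := by rw [sub_smul, one_smul, ← h2, sub_self]
    exact sub_eq_zero.mp ((smul_eq_zero.mp h3).resolve_right hv0)
  have htop' : ⨆ μ : S, T.eigenspace (μ : E) = ⊤ := by
    rw [eq_top_iff, ← htop]
    refine iSup_le fun μ => ?_
    by_cases h : μ ∈ S
    · exact le_iSup (fun μ : S => T.eigenspace (μ : E)) ⟨μ, h⟩
    · rw [hbot μ h]; exact bot_le
  have hind : iSupIndep fun μ : S => T.eigenspace (μ : E) :=
    (T.eigenspaces_iSupIndep).comp Subtype.val_injective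
  have hint := DirectSum.isInternal_submodule_of_iSupIndep_of_iSup_eq_top hind htop'
  let Φ : (∀ μ : S, T.eigenspace (μ : E)) ≃ₗ[E] V :=
    (DirectSum.linearEquivFunOnFintype E S fun μ : S => T.eigenspace (μ : E)).symm ≪≫ₗ
      LinearEquiv.ofBijective (DirectSum.coeLinearMap fun μ : S => T.eigenspace (μ : E)) hint
  have hΦs : ∀ (μ : S) (v : T.eigenspace (μ : E)), Φ (Pi.single μ v) = v := by
    intro μ v
    show (DirectSum.coeLinearMap fun μ : S => T.eigenspace (μ : E))
      ((DirectSum.linearEquivFunOnFintype E S fun μ : S => T.eigenspace (μ : E)).symm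
        (Pi.single μ v)) = v
    rw [DirectSum.linearEquivFunOnFintype_symm_single, DirectSum.coeLinearMap_lof]
  have hTΦ : ∀ w : (∀ μ : S, T.eigenspace (μ : E)),
      T (Φ w) = Φ fun μ => (μ : E) • w μ := by
    intro w
    have h2 : w = ∑ μ : S, Pi.single μ (w μ) := (Finset.univ_sum_single w).symm
    have h3 : (fun μ : S => (μ : E) • w μ) = ∑ μ : S, Pi.single μ ((μ : E) • w μ) :=
      (Finset.univ_sum_single _).symm
    rw [h3]
    conv_lhs => rw [h2]
    rw [map_sum, map_sum, map_sum]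
    refine Finset.sum_congr rfl fun μ _ => ?_
    rw [hΦs, hΦs]
    exact Module.End.mem_eigenspace_iff.mp (w μ).2
  -- block diagonal operators
  let Ψ : (∀ μ : S, Module.End E (T.eigenspace (μ : E))) →ₗ[E] Module.End E V :=
    { toFun := fun φ => Φ.toLinearMap ∘ₗ (LinearMap.pi fun μ => φ μ ∘ₗ LinearMap.proj μ) ∘ₗ
        Φ.symm.toLinearMap
      map_add' := by
        intro a b
        apply LinearMap.ext
        intro v
        show Φ _ = Φ _ + Φ _
        rw [← map_add]
        rfl
      map_smul' := by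
        intro c a
        apply LinearMap.ext
        intro v
        show Φ _ = c • Φ _
        rw [← map_smul]
        rfl }
  have hΨ : ∀ φ w, Ψ φ (Φ w) = Φ fun μ => φ μ (w μ) := by
    intro φ w
    show Φ _ = _
    congr 1
    funext μ
    show φ μ (Φ.symm (Φ w) μ) = φ μ (w μ)
    rw [LinearEquiv.symm_apply_apply]
  have hΨC : ∀ φ, Ψ φ ∈ C := by
    intro φ
    apply hC
    apply LinearMap.ext
    intro v
    obtain ⟨w, rfl⟩ := Φ.surjective v
    rw [Module.End.mul_apply, Module.End.mul_apply, hTΦ, hΨ, hΨ, hTΦ]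
    congr 1
    funext μ
    rw [map_smul]
  have hΨinj : Function.Injective Ψ := by
    intro a b hab
    funext μ
    apply LinearMap.ext
    intro v
    have h2 : Ψ a (Φ (Pi.single μ v)) = Ψ b (Φ (Pi.single μ v)) := by rw [hab]
    rw [hΨ, hΨ] at h2
    have h3 := congrFun (Φ.injective h2) μ
    simpa using h3
  have h2 : finrank E (∀ μ : S, Module.End E (T.eigenspace (μ : E))) ≤ finrank E C :=
    LinearMap.finrank_le_finrank_of_injective (f := Ψ.codRestrict C hΨC)
      (fun a b hab => hΨinj (congrArg Subtype.val hab))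
  rw [Module.finrank_pi_fintype] at h2
  have h3 : finrank E V = ∑ μ : S, finrank E (T.eigenspace (μ : E)) := by
    rw [← Φ.finrank_eq, Module.finrank_pi_fintype]
  have h4 : ∑ μ : S, finrank E (Module.End E (T.eigenspace (μ : E))) =
      ∑ μ : S, finrank E (T.eigenspace (μ : E)) ^ 2 := by
    refine Finset.sum_congr rfl fun μ _ => ?_
    rw [Module.finrank_linearMap, sq]
  rw [h4] at h2
  constructor
  · rw [h3]
    exact Finset.sum_coe_sort S fun μ => finrank E (T.eigenspace μ)
  · rw [← Finset.sum_coe_sort S fun μ => finrank E (T.eigenspace μ) ^ 2]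
    exact h2

end Commutant

section Mult

variable {E : Type*} [Field E] [IsAlgClosed E] {G V : Type*} [Group G] [Finite G]
    [AddCommGroup V] [Module E V] [FiniteDimensional E V] {ρ : Representation E G V}
    {F R : Subgroup G} {r s : ℕ}

theorem mult_arith {d d0 c o r : ℕ} (hr : 2 ≤ r) (hd : d0 ≤ d)
    (h1 : o * r = d ^ 2 + (r - 1)) (h2 : c ≤ o)
    (h3 : (d - d0) ^ 2 + (r - 1) * d0 ^ 2 ≤ (r - 1) * c) :
    d ≤ r * d0 + (r - 1) ∧ r * d0 ≤ d + (r - 1) := by
  obtain ⟨t, rfl⟩ : ∃ t, r = t + 1 := ⟨r - 1, by omega⟩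
  obtain ⟨e, rfl⟩ : ∃ e, d = d0 + e := ⟨d - d0, by omega⟩
  rw [Nat.add_sub_cancel] at *
  rw [Nat.add_sub_cancel_left] at h3
  -- `(d - r d0)^2 ≤ t^2`
  have h4 : (e ^ 2 + t * d0 ^ 2) * (t + 1) ≤ t * ((d0 + e) ^ 2 + t) := by
    calc (e ^ 2 + t * d0 ^ 2) * (t + 1) ≤ t * c * (t + 1) := Nat.mul_le_mul_right _ h3
      _ ≤ t * o * (t + 1) := Nat.mul_le_mul_right _ (Nat.mul_le_mul_left _ h2)
      _ = t * ((d0 + e) ^ 2 + t) := by rw [mul_assoc, h1]
  have h5 : ((e : ℤ) - t * d0) ^ 2 ≤ (t : ℤ) ^ 2 := by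
    zify at h4
    nlinarith
  have h6 := abs_le_of_sq_le_sq' h5 (by positivity)
  constructor
  · zify
    nlinarith [h6.2]
  · zify
    nlinarith [h6.1]

/-- **Multiplicities of the eigenvalue one.** -/
theorem mult (h : RD ρ F R r s) :
    finrank E V ≤ r * finrank E (fix ρ R) + (r - 1) ∧
      r * finrank E (fix ρ R) ≤ finrank E V + (r - 1) := by
  have hp : Fact (Nat.card R).Prime := ⟨h.hR ▸ h.hr⟩
  have hnt : Nontrivial R := Finite.one_lt_card_iff_nontrivial.mp (hp.out.one_lt)
  obtain ⟨a0, ha0⟩ := exists_ne (1 : R)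
  have hgen : ∀ a : R, ∃ n : ℕ, a0 ^ n = a := by
    intro a
    have h8 : a ∈ Subgroup.zpowers a0 := mem_zpowers_of_prime_card rfl ha0
    rw [← mem_powers_iff_mem_zpowers] at h8
    exact h8
  let T0 : Module.End E V := ρ (a0 : G)
  let C : Submodule E (Module.End E V) :=
    { carrier := {S | S * T0 = T0 * S}
      add_mem' := by
        intro a b ha hb
        show (a + b) * T0 = T0 * (a + b)
        rw [add_mul, mul_add, ha, hb]
      zero_mem' := by
        show 0 * T0 = T0 * 0
        rw [zero_mul, mul_zero]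
      smul_mem' := by
        intro c a ha
        show c • a * T0 = T0 * c • a
        rw [smul_mul_assoc, mul_smul_comm, ha] }
  have hT0r : T0 ^ r = 1 := by
    show ρ (a0 : G) ^ r = 1
    rw [← map_pow, ← Subgroup.coe_pow, ← h.hR, pow_card_eq_one', Subgroup.coe_one, map_one]
  have hfix : fix ρ R = T0.eigenspace 1 := by
    ext v
    rw [mem_fix, Module.End.mem_eigenspace_iff, one_smul]
    constructor
    · intro hv
      exact hv a0 a0.2
    · intro hv a ha
      obtain ⟨n, hn⟩ := hgen ⟨a, ha⟩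
      have h1 : (a0 : G) ^ n = a := by
        have := congrArg Subtype.val hn
        rwa [Subgroup.coe_pow] at this
      rw [← h1]
      have h2 : ∀ m : ℕ, ρ ((a0 : G) ^ m) v = v := by
        intro m
        induction m with
        | zero => rw [pow_zero, map_one, Module.End.one_apply]
        | succ m ih => rw [pow_succ', mul_apply', ih]; exact hv
      exact h2 n
  obtain ⟨h3, h4⟩ := sum_eigen T0 h.hrE hT0r C (fun S hS => hS)
  have h2 := h.finrank_commutant_le T0 hgen rfl C (fun S hS => hS)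
  have h1 := h.card_orbits
  rw [h.card_eq] at h1
  have hr0 : 0 < r := h.hr.pos
  have h1mem : (1 : E) ∈ Polynomial.nthRootsFinset r (1 : E) :=
    (Polynomial.mem_nthRootsFinset hr0 1).mpr (one_pow r)
  classical
  rw [← Finset.add_sum_erase _ _ h1mem, ← hfix] at h3 h4
  refine mult_arith h.hr.two_le (by omega) h1 h2 ?_
  have h5 : finrank E V - finrank E (fix ρ R) =
      ∑ μ ∈ (Polynomial.nthRootsFinset r (1 : E)).erase 1, finrank E (T0.eigenspace μ) := by
    omega
  rw [h5]
  have h6 : ((Polynomial.nthRootsFinset r (1 : E)).erase 1).card ≤ r - 1 := by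
    rw [Finset.card_erase_of_mem h1mem]
    refine Nat.sub_le_sub_right ?_ 1
    rw [Polynomial.nthRootsFinset_def]
    exact (Multiset.toFinset_card_le _).trans (Polynomial.card_nthRoots r 1)
  calc _ ≤ ((Polynomial.nthRootsFinset r (1 : E)).erase 1).card *
        (∑ μ ∈ (Polynomial.nthRootsFinset r (1 : E)).erase 1, finrank E (T0.eigenspace μ) ^ 2) +
          (r - 1) * finrank E (fix ρ R) ^ 2 := Nat.add_le_add_right sq_sum_le_card_mul_sum_sq _
    _ ≤ (r - 1) *
        (∑ μ ∈ (Polynomial.nthRootsFinset r (1 : E)).erase 1, finrank E (T0.eigenspace μ) ^ 2) +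
          (r - 1) * finrank E (fix ρ R) ^ 2 :=
        Nat.add_le_add_right (Nat.mul_le_mul_right _ h6) _
    _ = (r - 1) * (finrank E (fix ρ R) ^ 2 +
        ∑ μ ∈ (Polynomial.nthRootsFinset r (1 : E)).erase 1, finrank E (T0.eigenspace μ) ^ 2) := by
        ring
    _ ≤ _ := Nat.mul_le_mul_left _ h4

end Mult

end Cfsg.Agent.H575.Mult
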