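import Cfsg.Agent.H575.Core
import Cfsg.Agent.S4319

/-!
# Solvability from a fixed-point-free coprime action of an `s`-group
-/

set_option autoImplicit false
set_option linter.unusedSectionVars false

universe u

open Subgroup

namespace Cfsg.Agent.H575.Solv

open Cfsg.Agent.H575.ModM Cfsg.Agent.H575.Core

theorem solvable_of_fpf {Γ : Type u} [Group Γ] [Finite Γ] {F X : Subgroup Γ} {s : ℕ}
    (hs : s.Prime) (hF : IsPGroup s F) (hFX : F ≤ normalizer (X : Set Γ))
    (hsX : ¬ s ∣ Nat.card X) (hCF : X ⊓ centralizer (F : Set Γ) = ⊥) : Group.IsSolvable X := by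
  let A : MulDistribMulAction F X :=
    { smul := fun f x => ⟨f * x * (f : Γ)⁻¹, conj_mem_of_le_normalizer hFX f.2 x.2⟩
      one_smul := fun x => Subtype.ext (by
        show ((1 : F) : Γ) * x * ((1 : F) : Γ)⁻¹ = x
        simp)
      mul_smul := fun a b x => Subtype.ext (by
        show ((a * b : F) : Γ) * x * ((a * b : F) : Γ)⁻¹ = a * (b * x * (b : Γ)⁻¹) * (a : Γ)⁻¹
        rw [Subgroup.coe_mul]
        group)
      smul_one := fun a => Subtype.ext (by
        show (a : Γ) * ((1 : X) : Γ) * (a : Γ)⁻¹ = ((1 : X) : Γ)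
        simp)
      smul_mul := fun a x y => Subtype.ext (by
        show (a : Γ) * ((x * y : X) : Γ) * (a : Γ)⁻¹ = (a * x * (a : Γ)⁻¹) * (a * y * (a : Γ)⁻¹)
        rw [Subgroup.coe_mul]
        group) }
  have hsm : ∀ (f : F) (x : X), ((f • x : X) : Γ) = f * x * (f : Γ)⁻¹ := fun f x => rfl
  have hbot : FixedPoints.subgroup F X = ⊥ := by
    rw [eq_bot_iff]
    intro x hx
    have h1 : (x : Γ) ∈ X ⊓ centralizer (F : Set Γ) := by
      refine ⟨x.2, Subgroup.mem_centralizer_iff.mpr fun f hf => ?_⟩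
      have h2 := congrArg Subtype.val (hx ⟨f, hf⟩)
      rw [hsm] at h2
      exact mul_inv_eq_iff_eq_mul.mp h2
    rw [hCF, Subgroup.mem_bot] at h1
    exact Subtype.ext h1
  refine S4319.result (A := F) (G := X) (coprime_of_not_dvd hs hF hsX).symm (Or.inr ?_)
  rw [hbot, Subgroup.card_bot]
  exact odd_one

end Cfsg.Agent.H575.Solv
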