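import Cfsg.Agent.H575.StepT

/-!
# The start: invisible elements
-/

set_option autoImplicit false
set_option linter.unusedSectionVars false
set_option linter.unusedVariables false

namespace Cfsg.Agent.H575.TThree

open Subgroup Cfsg.Agent.H575.Sect Cfsg.Agent.H575.Tower Cfsg.Agent.H575.HA
  Cfsg.Agent.H575.ExtraIrr Cfsg.Agent.H575.MinTower Cfsg.Agent.H575.Mult
  Cfsg.Agent.H575.GLev Cfsg.Agent.H575.Model Cfsg.Agent.H575.BC Cfsg.Agent.H575.FTop
open scoped commutatorElement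

universe u

variable {Γ : Type u} [Group Γ] [Finite Γ]
variable {R : Subgroup Γ} {P : ℕ → Subgroup Γ} {p : ℕ → ℕ} {N : ℕ}

/-- last step: a visible element of level `1` gives a nontrivial element -/
theorem MT.base (h : MT R P p N) {X : Subgroup Γ} (hX : ∀ i < N, P i ≤ X)
    {c : ℕ → Subgroup Γ} {n : ℕ} (hc : CC (X ⊓ centralizer (R : Set Γ)) c n)
    (hN : 1 < N) {j : ℕ} {x : Γ} (hx : VV R P N 0 x) (hxc : x ∈ c j) : j + 1 < n := by
  obtain ⟨hxP, hxR, g, hg, hgR, hgx⟩ := hx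
  by_contra hjn
  have hYP : zpowers x ≤ P 1 := zpowers_le.mpr hxP
  have hYR : zpowers x ≤ centralizer (R : Set Γ) := zpowers_le.mpr hxR
  have hgP : g ∈ P 0 := by
    refine Lib.CoprimeCommutator.commutator_le_left ?_ hg
    exact (Lib.CoprimeCommutator.commutator_le_left (h.inv 1 hN)).trans
      (h.norm 0 1 (by omega) hN)
  have h1 := hc.step (h.prime 0 (by omega)) (h.prime 1 hN) (h.ne 0 hN)
    ((h.pgroup 0 (by omega)).to_le inf_le_left)
    (D := P 0 ⊓ centralizer (R : Set Γ))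
    (le_inf (inf_le_left.trans (hX 0 (by omega))) inf_le_right)
    ((h.pgroup 1 hN).to_le hYP) (zpowers_le.mpr hxc)
    (le_normalizer_inf (hYP.trans (h.norm 0 1 (by omega) hN))
      (hYR.trans Subgroup.le_normalizer))
  rw [hc.bot (j + 1) (by omega), le_bot_iff] at h1
  have h2 : ⁅g, x⁆ ∈ ⁅P 0 ⊓ centralizer (R : Set Γ), zpowers x⁆ :=
    commutator_mem_commutator ⟨hgP, hgR⟩ (mem_zpowers x)
  rw [h1] at h2
  apply hgx
  have h3 := comm_swap h2
  rw [Subgroup.mem_bot] at h3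
  rw [h3]
  exact Subgroup.one_mem _

theorem MT.descend (h : MT R P p N) {X : Subgroup Γ} (hX : ∀ i < N, P i ≤ X)
    {c : ℕ → Subgroup Γ} {n : ℕ} (hc : CC (X ⊓ centralizer (R : Set Γ)) c n)
    {κ : ℕ} (hκ : κ < N) (hRn : ∀ i ≤ κ, ¬ ⁅P i, R⁆ ≤ zz P N i) :
    ∀ i j x, i + 2 ≤ κ → VV R P N i x → x ∈ c j → i + j + 1 < n := by
  intro i
  induction i with
  | zero =>
    intro j x hi hx hxc
    have := h.base hX hc (by omega) hx hxc
    omega
  | succ i ih =>
    intro j x hi hx hxc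
    obtain ⟨x', hx', hx'c⟩ := h.step hX hc (by omega) (hRn i (by omega)) hx hxc
    have := ih (j + 1) x' (by omega) hx' hx'c
    omega

/-- the invisible elements -/
def KE (R : Subgroup Γ) (P : ℕ → Subgroup Γ) (N k : ℕ) : Subgroup Γ :=
  (P (k + 1) ⊓ centralizer (R : Set Γ)) ⊓
    cmod (⁅P k, ⁅P (k + 1), R⁆⁆ ⊓ centralizer (R : Set Γ)) (zz P N k)

theorem MT.not_vis (h : MT R P p N) {k : ℕ} (hk : k + 1 < N) {x : Γ}
    (hx : x ∈ P (k + 1)) (hxR : x ∈ centralizer (R : Set Γ)) :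
    x ∈ KE R P N k ↔ ¬ Vis (P k) (zz P N k) ⁅P (k + 1), R⁆ R x := by
  constructor
  · rintro hxK ⟨g, hg, hgR, hgx⟩
    exact hgx (hxK.2.2 g ⟨hg, hgR⟩)
  · intro hv
    refine ⟨⟨hx, hxR⟩, h.norm_zz (Nat.le_succ k) hk hx, fun g hg => ?_⟩
    by_contra hne
    exact hv ⟨g, hg.1, hg.2, hne⟩

theorem MT.norm_KE (h : MT R P p N) {k j : ℕ} (hj : k + 1 ≤ j) (hjN : j < N)
    {H : Subgroup Γ} (hH : H ≤ P j) (hHR : H ≤ centralizer (R : Set Γ)) :
    H ≤ normalizer (KE R P N k : Set Γ) := by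
  have h1 : H ≤ normalizer (centralizer (R : Set Γ) : Set Γ) := hHR.trans Subgroup.le_normalizer
  have h2 : H ≤ normalizer (R : Set Γ) :=
    hHR.trans (Subgroup.centralizer_le_normalizer (R : Set Γ))
  have h3 : H ≤ normalizer (P k : Set Γ) := hH.trans (h.norm k j (by omega) hjN)
  have h4 : H ≤ normalizer (P (k + 1) : Set Γ) := hH.trans (h.norm (k + 1) j hj hjN)
  refine le_normalizer_inf (le_normalizer_inf h4 h1) (cmod_norm (le_normalizer_inf
    (le_normalizer_commutator h3 (le_normalizer_commutator h4 h2)) h1)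
    (hH.trans (h.norm_zz (by omega) hjN)))

/-- the fixed points of `R` in `P (k + 1) / zz` and the fixed points of the other groups -/
theorem MT.exists_cent_zz (h : MT R P p N) {k : ℕ} (hk : k + 2 < N)
    (hcen : ∀ a ∈ P (k + 2), ∀ b ∈ P (k + 2), ⁅a, b⁆ ∈ ker P (k + 2))
    (hcomm : ⁅P (k + 2), R⁆ = P (k + 2)) :
    ∃ d ∈ P (k + 1), d ∈ centralizer (R : Set Γ) ∧ d ∉ zz P N (k + 1) := by
  have hT := h.toIsTower
  have hR := h.hR
  have hRp : IsPGroup (Nat.card R) R := isPGroup_of_card h.hR rfl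
  have hpf : Fact (p (k + 1)).Prime := ⟨h.prime (k + 1) (by omega)⟩
  obtain ⟨M, i1, i2, f, θ, hm⟩ := exists_mod (zz_le (P := P) (N := N) (k + 1))
    (h.phi (i := k + 1) (by omega)).1 (h.phi (i := k + 1) (by omega)).2
  have hS2 : P (k + 2) ≤ nn (P (k + 1)) (zz P N (k + 1)) := h.le_nn (by omega) hk
  have hSR : R ≤ nn (P (k + 1)) (zz P N (k + 1)) := h.R_le_nn (by omega)
  have hne : ∃ a ∈ im θ (P (k + 2)), a ≠ 1 := by
    by_contra hcon
    push Not at hcon
    refine h.nontriv (k + 2) hk fun x hx => h.mem_ker_of hk hx fun y hy => ?_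
    exact hm.eq_one_iff.mp (hcon _ (mem_im_of (g := ⟨x, hS2 hx⟩) hx)) y hy
  have hcardR : Nat.card (im θ R) = Nat.card R := by
    refine card_im_R hm hR rfl hSR ?_
    by_contra hcon
    push Not at hcon
    obtain ⟨a, ha, ha1⟩ := hne
    apply ha1
    have h1 : im θ R = ⊥ := by
      rw [eq_bot_iff]
      rintro _ ⟨b, hb, rfl⟩
      rw [Subgroup.mem_bot, hm.eq_one_iff]
      exact fun l hl => hcon b hb l hl
    have h2 : ⁅im θ (P (k + 2)), im θ R⁆ = im θ (P (k + 2)) := by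
      rw [← im_comm hS2 hSR, hcomm]
    rw [h1, commutator_bot_right] at h2
    rw [← h2, Subgroup.mem_bot] at ha
    exact ha
  obtain ⟨m, hm1, hmR⟩ := MLev.fix0_M hm.exp (A := im θ (P (k + 2))) (R := im θ R)
    (im_norm (h.inv (k + 2) hk)) (by rw [← im_comm hS2 hSR, hcomm]) hcardR hR
    (h.hRp (k + 1) (by omega)) (by
      rintro _ ⟨a, ha, rfl⟩ _ ⟨b, hb, rfl⟩
      rw [hm.mul_comm_iff]
      exact fun l hl => IsTower.ker_le_zz hT (by omega) (h.ker_act (hcen a ha b hb) hl))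
    (cop_of_ne (h.prime (k + 1) (by omega)) (h.prime (k + 2) hk) (h.ne (k + 1) hk)
      (im_pgroup (h.pgroup (k + 2) hk))) hne
  obtain ⟨l, rfl⟩ := hm.surj m
  obtain ⟨c, hc1, hc2, hc3⟩ := hm.lift_fixed hR hRp
    (not_dvd_of hR (h.prime (k + 1) (by omega)) (h.hRp (k + 1) (by omega))
      (h.pgroup (k + 1) (by omega))) hSR (N := P (k + 1)) le_rfl (h.inv (k + 1) (by omega))
    l.2 hmR
  refine ⟨c, hc1, hc2, fun h1 => hm1 ?_⟩
  rw [← hc3]
  exact (hm.ker c).mpr h1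

end Cfsg.Agent.H575.TThree
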