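import Cfsg.Agent.H575.StartA

/-!
# The start: the cases
-/

set_option autoImplicit false
set_option linter.unusedSectionVars false
set_option linter.unusedVariables false

namespace Cfsg.Agent.H575.TThree

open Subgroup Cfsg.Agent.H575.Sect Cfsg.Agent.H575.Tower Cfsg.Agent.H575.HA
  Cfsg.Agent.H575.ExtraIrr Cfsg.Agent.H575.MinTower Cfsg.Agent.H575.Mult
  Cfsg.Agent.H575.GLev Cfsg.Agent.H575.Model Cfsg.Agent.H575.BC Cfsg.Agent.H575.FTop
open scoped commutatorElement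

universe u

variable {Γ : Type u} [Group Γ] [Finite Γ]
variable {R : Subgroup Γ} {P : ℕ → Subgroup Γ} {p : ℕ → ℕ} {N : ℕ}

/-- the data at the start -/
theorem MT.gd_start (h : MT R P p N) {k : ℕ} (hk : k + 2 < N)
    (hcomm : ⁅P (k + 2), R⁆ = P (k + 2)) (hRk : ¬ ⁅P k, R⁆ ≤ zz P N k) :
    GD (P k) (zz P N k) (P (k + 1)) (zz P N (k + 1)) (ker P (k + 1)) (P (k + 2)) R
      (Nat.card R) (p (k + 1)) (p (k + 2)) (p k) :=
  h.gd hk hRk le_rfl (h.inv (k + 2) hk) hcomm le_rfl (zz_le _)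
    (h.norm (k + 1) (k + 2) (by omega) hk) (h.inv (k + 1) (by omega))

/-- the case where `κ` is the top of the tower -/
theorem MT.start_top (h : MT R P p N) {k : ℕ} (hk : k + 3 = N)
    (hcomm : ⁅P (k + 2), R⁆ = P (k + 2)) (hRk : ¬ ⁅P k, R⁆ ≤ zz P N k) :
    ∃ x, VV R P N k x := by
  have hk' : k + 2 < N := by omega
  have hgd := h.gd_start hk' hcomm hRk
  obtain ⟨d, hd, hdR, hdz⟩ := h.exists_cent_zz hk' (by
    intro a ha b hb
    have h1 := (h.phi hk').1 a ha b hb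
    rwa [zz_of_not (by omega : ¬ k + 2 + 1 < N)] at h1) hcomm
  obtain ⟨x, hx, hxv⟩ := kl0G hgd (h.comm_eq (i := k + 1) hk') ⟨d, ⟨hd, hdR⟩, fun h1 =>
    hdz (IsTower.ker_le_zz h.toIsTower (by omega) h1)⟩
  exact ⟨x, hx.1, hx.2, hxv⟩

theorem comm_inf_le {D T K C : Subgroup Γ} (h : ∀ d ∈ D, ∀ t ∈ T, ⁅d, t⁆ ∈ K) : ⁅D, T⁆ ≤ K := by
  rw [commutator_le]
  exact h

/-- fixed points of `R` in `P (k + 1)` -/
def DD (R : Subgroup Γ) (P : ℕ → Subgroup Γ) (k : ℕ) : Subgroup Γ :=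
  P (k + 1) ⊓ centralizer (R : Set Γ)

theorem MT.norm_DD (h : MT R P p N) {k j : ℕ} (hj : k + 1 ≤ j) (hjN : j < N)
    {H : Subgroup Γ} (hH : H ≤ P j) (hHR : H ≤ centralizer (R : Set Γ)) :
    H ≤ normalizer (DD R P k : Set Γ) :=
  le_normalizer_inf (hH.trans (h.norm (k + 1) j hj hjN)) (hHR.trans Subgroup.le_normalizer)

/-- an element outside `KE` is visible -/
theorem MT.vv_of (h : MT R P p N) {k : ℕ} (hk : k + 1 < N) {x : Γ} (hx : x ∈ DD R P k)
    (hxK : x ∉ KE R P N k) : VV R P N k x := by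
  refine ⟨hx.1, hx.2, ?_⟩
  by_contra hv
  exact hxK ((h.not_vis hk hx.1 hx.2).mpr hv)

theorem MT.vv_not (h : MT R P p N) {k : ℕ} (hk : k + 1 < N) {x : Γ} (hx : VV R P N k x) :
    x ∉ KE R P N k := fun hK => (h.not_vis hk hx.1 hx.2.1).mp hK hx.2.2

theorem exists_of_not_le {A B : Subgroup Γ} (h : ¬ A ≤ B) : ∃ x ∈ A, x ∉ B := by
  by_contra hcon
  push Not at hcon
  exact h hcon

/-- `[D, H]` goes down in the chain -/
theorem MT.down (h : MT R P p N) {X : Subgroup Γ} (hX : ∀ i < N, P i ≤ X)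
    {c : ℕ → Subgroup Γ} {n : ℕ} (hc : CC (X ⊓ centralizer (R : Set Γ)) c n)
    {k j : ℕ} (hj : k + 1 ≤ j) (hjN : j < N) (hpj : p (k + 1) ≠ p j)
    {H : Subgroup Γ} (hH : H ≤ P j) (hHR : H ≤ centralizer (R : Set Γ)) {d : ℕ}
    (hHc : H ≤ c d) : ⁅DD R P k, H⁆ ≤ c (d + 1) :=
  hc.step (h.prime (k + 1) (by omega)) (h.prime j hjN) hpj
    ((h.pgroup (k + 1) (by omega)).to_le inf_le_left)
    (le_inf (inf_le_left.trans (hX (k + 1) (by omega))) inf_le_right)
    ((h.pgroup j hjN).to_le hH) hHc (h.norm_DD hj hjN hH hHR)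

/-- Case I -/
theorem MT.start_I (h : MT R P p N) {X : Subgroup Γ} (hX : ∀ i < N, P i ≤ X)
    {c : ℕ → Subgroup Γ} {n : ℕ} (hc : CC (X ⊓ centralizer (R : Set Γ)) c n)
    {k : ℕ} (hk : k + 3 < N)
    (hcR : ∀ j, k + 2 < j → j < N → P j ≤ centralizer (R : Set Γ))
    (hI : ¬ ⁅DD R P k, P (k + 3)⁆ ≤ KE R P N k) :
    ∃ x, VV R P N k x ∧ x ∈ c (N - (k + 4)) := by
  have hT3 := hcR (k + 3) (by omega) hk
  have hT3c := h.le_chain hX hc (m := k + 3) (fun j hj hjN => hcR j (by omega) hjN)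
    (N - (k + 4)) (k + 3) le_rfl hk (by omega)
  have hND := h.norm_DD (k := k) (j := k + 3) (by omega) hk le_rfl hT3
  by_cases hp : p (k + 1) = p (k + 3)
  · by_cases hd : k + 4 < N
    · -- use the group above
      have hT4 := hcR (k + 4) (by omega) hd
      have hT4c := h.le_chain hX hc (m := k + 3) (fun j hj hjN => hcR j (by omega) hjN)
        (N - (k + 5)) (k + 4) (by omega) hd (by omega)
      have hp4 : p (k + 1) ≠ p (k + 4) := by
        rw [hp]
        exact h.ne (k + 3) hd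
      have hN4 := h.norm_DD (k := k) (j := k + 4) (by omega) hd le_rfl hT4
      have hnot : ¬ ⁅DD R P k, P (k + 4)⁆ ≤ KE R P N k := by
        intro hle
        apply hI
        have hK4 := h.norm_KE (k := k) (j := k + 4) (by omega) hd le_rfl hT4
        have hK3 := h.norm_KE (k := k) (j := k + 3) (by omega) hk le_rfl hT3
        have hKD := h.norm_KE (k := k) (j := k + 1) (H := DD R P k) le_rfl (by omega)
          inf_le_left inf_le_right
        have h3 := SignalizersComponents.PerfectGoingUp.three_subgroups_mod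
          (A := P (k + 3)) (B := P (k + 4)) (C := DD R P k) (K := KE R P N k) hK3 hK4 hKD (by
            rw [commutator_comm (P (k + 4))]
            exact (commutator_mono hle le_rfl).trans
              (Lib.CoprimeCommutator.commutator_le_left hK3)) (by
            exact (commutator_mono (Lib.CoprimeCommutator.commutator_le_left hND)
              le_rfl).trans hle)
        rw [h.comm_eq hd, commutator_comm] at h3
        exact h3
      obtain ⟨x, hx, hxK⟩ := exists_of_not_le hnot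
      refine ⟨x, h.vv_of (by omega) (Lib.CoprimeCommutator.commutator_le_left hN4 hx) hxK, ?_⟩
      have h1 := h.down hX hc (k := k) (j := k + 4) (by omega) hd hp4 le_rfl hT4 hT4c hx
      rwa [show N - (k + 5) + 1 = N - (k + 4) by omega] at h1
    · obtain ⟨x, hx, hxK⟩ := exists_of_not_le hI
      have hxD := Lib.CoprimeCommutator.commutator_le_left hND hx
      refine ⟨x, h.vv_of (by omega) hxD hxK, ?_⟩
      rw [show N - (k + 4) = 0 by omega, hc.zero]
      exact ⟨hX (k + 1) (by omega) hxD.1, hxD.2⟩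
  · obtain ⟨x, hx, hxK⟩ := exists_of_not_le hI
    refine ⟨x, h.vv_of (by omega) (Lib.CoprimeCommutator.commutator_le_left hND hx) hxK, ?_⟩
    exact hc.anti _ (h.down hX hc (k := k) (j := k + 3) (by omega) hk hp le_rfl hT3 hT3c hx)

/-- the situation for the model of `P (k + 1) / zz` -/
theorem MT.td (h : MT R P p N) {k : ℕ} (hk : k + 3 < N)
    (hcR : ∀ j, k + 2 < j → j < N → P j ≤ centralizer (R : Set Γ))
    (hcomm : ⁅P (k + 2), R⁆ = P (k + 2)) (hRk : ¬ ⁅P (k + 1), R⁆ ≤ zz P N (k + 1))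
    {M : Type u} [CommGroup M] [Finite M] {f : P (k + 1) →* M}
    {θ : nn (P (k + 1)) (zz P N (k + 1)) →* MulAut M}
    (hm : Mod (P (k + 1)) (zz P N (k + 1)) (p (k + 1)) f θ) :
    TD (im θ (P (k + 2))) (im θ (zz P N (k + 2))) (im θ (P (k + 3))) (im θ R)
      (Nat.card R) (p (k + 2)) := by
  have hT := h.toIsTower
  have hS2 : P (k + 2) ≤ nn (P (k + 1)) (zz P N (k + 1)) := h.le_nn (by omega) (by omega)
  have hS3 : P (k + 3) ≤ nn (P (k + 1)) (zz P N (k + 1)) := h.le_nn (by omega) (by omega)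
  have hSR : R ≤ nn (P (k + 1)) (zz P N (k + 1)) := h.R_le_nn (by omega)
  have hcom : ∀ g l : nn (P (k + 1)) (zz P N (k + 1)), ⁅(g : Γ), (l : Γ)⁆ ∈ ker P (k + 2) →
      θ g * θ l = θ l * θ g := by
    intro g l hgl
    rw [hm.mul_comm_iff]
    exact fun u hu => IsTower.ker_le_zz hT (by omega) (h.ker_act hgl hu)
  refine
    { hr := h.hR
      hs := h.prime (k + 2) (by omega)
      hrs := h.hRp (k + 2) (by omega)
      hR := card_im_R hm h.hR rfl hSR (h.exists_R hRk)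
      hQ := im_pgroup (h.pgroup (k + 2) (by omega))
      hZQ := im_mono (zz_le _)
      hQQ := ?_
      hQs := ?_
      hZ := ?_
      hRQ := im_norm (h.inv (k + 2) (by omega))
      hRZ := im_norm (h.inv_zz (by omega))
      hcomm := by rw [← im_comm hS2 hSR, hcomm]
      hTQ := im_norm (h.norm (k + 2) (k + 3) (by omega) hk)
      hTR := ?_
      hTr := cop_of_ne h.hR (h.prime (k + 3) hk) (h.hRp (k + 3) hk)
        (im_pgroup (h.pgroup (k + 3) hk))
      hTs := cop_of_ne (h.prime (k + 2) (by omega)) (h.prime (k + 3) hk) (h.ne (k + 2) hk)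
        (im_pgroup (h.pgroup (k + 3) hk))
      hZT := ?_
      hQT := by rw [← im_comm hS2 hS3, h.comm_eq hk] }
  · rintro _ ⟨x, hx, rfl⟩ _ ⟨y, hy, rfl⟩
    rw [← map_commutatorElement]
    exact mem_im_of ((h.phi (i := k + 2) (by omega)).1 _ hx _ hy)
  · rintro _ ⟨x, hx, rfl⟩
    rw [← map_pow]
    exact mem_im_of ((h.phi (i := k + 2) (by omega)).2 _ hx)
  · rintro _ ⟨z, hz, rfl⟩ _ ⟨x, hx, rfl⟩
    exact hcom _ _ (h.zz_comm (by omega) hz hx)
  · rintro _ ⟨t, ht, rfl⟩ _ ⟨a, ha, rfl⟩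
    rw [← map_mul, ← map_mul]
    congr 1
    exact Subtype.ext (Subgroup.mem_centralizer_iff.mp (hcR (k + 3) (by omega) hk ht) a ha).symm
  · rintro _ ⟨z, hz, rfl⟩ _ ⟨x, hx, rfl⟩
    exact hcom _ _ (h.zz_comm_succ (i := k + 2) hk hz hx)

end Cfsg.Agent.H575.TThree
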