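import Cfsg.Agent.H575.StartB

/-!
# The start: `T` trivial on the fixed points of `R` in `P (k + 1) / zz`
-/

set_option autoImplicit false
set_option linter.unusedSectionVars false
set_option linter.unusedVariables false

namespace Cfsg.Agent.H575.TThree

open Subgroup Cfsg.Agent.H575.Sect Cfsg.Agent.H575.Tower Cfsg.Agent.H575.HA
  Cfsg.Agent.H575.ExtraIrr Cfsg.Agent.H575.MinTower Cfsg.Agent.H575.Mult
  Cfsg.Agent.H575.GLev Cfsg.Agent.H575.Model Cfsg.Agent.H575.BC Cfsg.Agent.H575.FTop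
open scoped commutatorElement

universe u

variable {Γ : Type u} [Group Γ] [Finite Γ]
variable {R : Subgroup Γ} {P : ℕ → Subgroup Γ} {p : ℕ → ℕ} {N : ℕ}

/-- Case II -/
theorem MT.start_II (h : MT R P p N) {X : Subgroup Γ} (hX : ∀ i < N, P i ≤ X)
    {c : ℕ → Subgroup Γ} {n : ℕ} (hc : CC (X ⊓ centralizer (R : Set Γ)) c n)
    {k : ℕ} (hk : k + 3 < N)
    (hcR : ∀ j, k + 2 < j → j < N → P j ≤ centralizer (R : Set Γ))
    (hcomm : ⁅P (k + 2), R⁆ = P (k + 2)) (hRn : ∀ i ≤ k + 2, ¬ ⁅P i, R⁆ ≤ zz P N i)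
    (hII : ⁅DD R P k, P (k + 3)⁆ ≤ zz P N (k + 1)) :
    ∃ x, VV R P N k x ∧ x ∈ c (N - (k + 4)) := by
  have hT := h.toIsTower
  have hR := h.hR
  have hRp : IsPGroup (Nat.card R) R := isPGroup_of_card h.hR rfl
  have hpf : Fact (p (k + 1)).Prime := ⟨h.prime (k + 1) (by omega)⟩
  obtain ⟨M, i1, i2, f, θ, hm⟩ := exists_mod (zz_le (P := P) (N := N) (k + 1))
    (h.phi (i := k + 1) (by omega)).1 (h.phi (i := k + 1) (by omega)).2
  have hS1 : P (k + 1) ≤ nn (P (k + 1)) (zz P N (k + 1)) := h.le_nn (by omega) (by omega)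
  have hS2 : P (k + 2) ≤ nn (P (k + 1)) (zz P N (k + 1)) := h.le_nn (by omega) (by omega)
  have hS3 : P (k + 3) ≤ nn (P (k + 1)) (zz P N (k + 1)) := h.le_nn (by omega) (by omega)
  have hSR : R ≤ nn (P (k + 1)) (zz P N (k + 1)) := h.R_le_nn (by omega)
  have htd := h.td hk hcR hcomm (hRn (k + 1) (by omega)) hm
  have hgd := h.gd_start (k := k) (by omega) hcomm (hRn k (by omega))
  have hrP1 := not_dvd_of hR (h.prime (k + 1) (by omega)) (h.hRp (k + 1) (by omega))
    (h.pgroup (k + 1) (by omega))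
  -- lifting fixed points
  have hlift : ∀ m : M, (∀ a ∈ im θ R, a m = m) →
      ∃ l : P (k + 1), (l : Γ) ∈ DD R P k ∧ f l = m := by
    intro m hmR
    obtain ⟨l, rfl⟩ := hm.surj m
    obtain ⟨l', h1, h2, h3⟩ := hm.lift_fixed hR hRp hrP1 hSR (N := P (k + 1)) le_rfl
      (h.inv (k + 1) (by omega)) l.2 hmR
    exact ⟨l', ⟨h1, h2⟩, h3⟩
  have hTm : ∀ m : M, (∀ a ∈ im θ R, a m = m) → ∀ t ∈ im θ (P (k + 3)), t m = m := by
    rintro m hmR _ ⟨t, ht, rfl⟩
    obtain ⟨l, hl, rfl⟩ := hlift m hmR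
    rw [hm.fix_iff]
    exact comm_swap (hII (commutator_mem_commutator hl ht))
  have hQ0 : ∀ m : M, (∀ x ∈ im θ (P (k + 2)), x m = m) → m = 1 := by
    intro m hmQ
    obtain ⟨l, rfl⟩ := hm.surj m
    have hcop : (Nat.card (P (k + 2))).Coprime (Nat.card (P (k + 1))) :=
      IsTower.coprime hT (i := k + 1) (by omega)
    have hcg := cent_le_gen (R := P (k + 2)) (F := P (k + 1)) (N := zz P N (k + 1)) hcop
      (by rw [commutator_le]; exact (h.phi (i := k + 1) (by omega)).1)
      (h.norm (k + 1) (k + 2) (by omega) (by omega)) (h.comm_eq (i := k + 1) (by omega))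
    obtain ⟨l', h1, h2, h3⟩ := hm.lift_fixed (h.prime (k + 2) (by omega))
      (h.pgroup (k + 2) (by omega))
      (not_dvd_of (h.prime (k + 2) (by omega)) (h.prime (k + 1) (by omega))
        (h.ne (k + 1) (by omega)).symm (h.pgroup (k + 1) (by omega))) hS2 (N := P (k + 1))
      le_rfl (h.norm (k + 1) (k + 2) (by omega) (by omega)) l.2 hmQ
    rw [← h3]
    exact (hm.ker l').mpr (hcg ⟨h1, h2⟩)
  have hnt : Nontrivial M := by
    by_contra hcon
    rw [not_nontrivial_iff_subsingleton] at hcon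
    exact h.not_le_zz (i := k + 1) (by omega) fun x hx =>
      (hm.ker ⟨x, hx⟩).mp (Subsingleton.elim _ _)
  have hsp : p (k + 2) ≠ p (k + 1) := (h.ne (k + 1) (by omega)).symm
  have hrp : Nat.card R ≠ p (k + 1) := h.hRp (k + 1) (by omega)
  -- (Z1)
  have hZ1 : ∃ z ∈ P (k + 2), z ∈ centralizer (R : Set Γ) ∧ z ∉ ker P (k + 2) := by
    obtain ⟨_, ⟨z, hz, rfl⟩, hzR, hz1⟩ := MLev.top_z_M hm.exp htd hsp hrp hTm hQ0
    obtain ⟨z', h1, h2, h3⟩ := hm.lift_cent hR hRp hSR (N := zz P N (k + 2))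
      ((zz_le _).trans hS2) (cop_of_ne hR (h.prime (k + 2) (by omega)) (h.hRp (k + 2) (by omega))
        ((h.pgroup (k + 2) (by omega)).to_le (zz_le _))) (h.inv_zz (by omega)) hz
      (fun a ha => Subgroup.mem_centralizer_iff.mp hzR a ha)
    refine ⟨z', zz_le _ h1, h2, fun h4 => hz1 ?_⟩
    rw [← h3, hm.eq_one_iff]
    exact fun l hl => IsTower.ker_le_zz hT (by omega) (h.ker_act h4 hl)
  -- (Z2)
  have hZ2 : ∀ z ∈ P (k + 2), z ∈ centralizer (R : Set Γ) → z ∉ ker P (k + 2) →
      ∃ d ∈ ⁅DD R P k, zpowers z⁆, VV R P N k d := by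
    intro z hz hzR hzK
    have hzz : z ∈ zz P N (k + 2) := h.cent_kappa (by omega) hcomm ⟨hz, hzR⟩
    have hz1 : θ ⟨z, hS2 hz⟩ ≠ 1 := by
      intro h1
      exact hzK (h.mem_ker_of (i := k + 1) (by omega) hz (hm.eq_one_iff.mp h1))
    obtain ⟨m, hmR, hzm⟩ := MLev.top_vec_M hm.exp htd hsp hrp hTm hQ0
      (mem_im_of (g := ⟨z, hS2 hz⟩) hzz) hz1
    obtain ⟨l, hl, rfl⟩ := hlift m hmR
    rw [Ne, hm.fix_iff] at hzm
    have hYP : zpowers z ≤ P (k + 2) := zpowers_le.mpr hz
    have hYR : zpowers z ≤ centralizer (R : Set Γ) := zpowers_le.mpr hzR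
    have hYz : zpowers z ≤ zz P N (k + 2) := zpowers_le.mpr hzz
    have hPA := h.comm_eq (i := k + 1) (by omega)
    have hDN := h.norm_DD (k := k) (j := k + 2) (by omega) (by omega) hYP hYR
    obtain ⟨d, hd, hdv⟩ := klG hgd ((h.pgroup (k + 2) (by omega)).to_le hYP)
      (hYP.trans (h.le_nn (by omega) (by omega)))
      (fun y hy a ha => (Subgroup.mem_centralizer_iff.mp (hYR hy) a ha).symm)
      (hYP.trans (h.norm (k + 1) (k + 2) (by omega) (by omega)))
      (fun u hu y hy => h.zz_comm_succ (i := k + 1) (by omega) hu (hYP hy))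
      (fun a ha y hy u hu => h.ker_act (comm_swap (h.zz_comm (by omega) (hYz hy) ha)) hu)
      (by
        rw [hPA]
        refine ⟨⁅(l : Γ), z⁆, commutator_mem_commutator hl (mem_zpowers z), fun h1 => hzm ?_⟩
        exact comm_swap (IsTower.ker_le_zz hT (by omega) h1))
    rw [hPA] at hd
    have hdD : d ∈ DD R P k := Lib.CoprimeCommutator.commutator_le_left hDN hd
    exact ⟨d, hd, hdD.1, hdD.2, hdv⟩
  by_cases hd : k + 4 < N
  · have hT3 := hcR (k + 3) (by omega) hk
    have hT4 := hcR (k + 4) (by omega) hd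
    have hT4c := h.le_chain hX hc (m := k + 3) (fun j hj hjN => hcR j (by omega) hjN)
      (N - (k + 5)) (k + 4) (by omega) hd (by omega)
    set DQ : Subgroup Γ := P (k + 2) ⊓ centralizer (R : Set Γ) with hDQ
    have hN4Q : P (k + 4) ≤ normalizer (DQ : Set Γ) :=
      le_normalizer_inf (h.norm (k + 2) (k + 4) (by omega) hd) (hT4.trans Subgroup.le_normalizer)
    have hS4 : P (k + 4) ≤ nn (P (k + 1)) (zz P N (k + 1)) := h.le_nn (by omega) (by omega)
    -- (Z3)
    have hZ3 : ∃ z ∈ ⁅DQ, P (k + 4)⁆, z ∉ ker P (k + 2) := by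
      by_contra hcon
      push Not at hcon
      refine MLev.top_F_M hm.exp htd hsp hrp hTm hQ0 (F := im θ (P (k + 4)))
        (im_norm (h.norm (k + 2) (k + 4) (by omega) hd))
        (im_norm (h.norm_zz (by omega) hd)) ?_ (by rw [← im_comm hS3 hS4, h.comm_eq hd])
        (im_norm (h.norm (k + 3) (k + 4) (by omega) hd)) ?_
      · rintro _ ⟨t, ht, rfl⟩ _ ⟨a, ha, rfl⟩
        rw [← map_mul, ← map_mul]
        congr 1
        exact Subtype.ext (Subgroup.mem_centralizer_iff.mp (hT4 ht) a ha).symm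
      · rintro _ ⟨z, hz, rfl⟩ hzR _ ⟨t, ht, rfl⟩
        obtain ⟨z', h1, h2, h3⟩ := hm.lift_cent hR hRp hSR (N := zz P N (k + 2))
          ((zz_le _).trans hS2) (cop_of_ne hR (h.prime (k + 2) (by omega))
            (h.hRp (k + 2) (by omega))
            ((h.pgroup (k + 2) (by omega)).to_le (zz_le _))) (h.inv_zz (by omega)) hz
          (fun a ha => Subgroup.mem_centralizer_iff.mp hzR a ha)
        rw [← h3]
        symm
        rw [hm.mul_comm_iff]
        intro l hl
        exact IsTower.ker_le_zz hT (by omega) (h.ker_act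
          (hcon _ (commutator_mem_commutator ⟨zz_le _ h1, h2⟩ ht)) hl)
    obtain ⟨z, hz, hzK⟩ := hZ3
    have hzDQ : z ∈ DQ := Lib.CoprimeCommutator.commutator_le_left hN4Q hz
    obtain ⟨x, hx, hxv⟩ := hZ2 z hzDQ.1 hzDQ.2 hzK
    by_cases hp4 : p (k + 2) = p (k + 4)
    · have hp14 : p (k + 1) ≠ p (k + 4) := by
        rw [← hp4]
        exact h.ne (k + 1) (by omega)
      have hN4 := h.norm_DD (k := k) (j := k + 4) (by omega) hd le_rfl hT4
      have hnot : ¬ ⁅DD R P k, P (k + 4)⁆ ≤ KE R P N k := by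
        intro hle
        have hK4 := h.norm_KE (k := k) (j := k + 4) (by omega) hd le_rfl hT4
        have hKQ := h.norm_KE (k := k) (j := k + 2) (H := DQ) (by omega) (by omega)
          inf_le_left inf_le_right
        have hNQ := h.norm_DD (k := k) (j := k + 2) (H := DQ) (by omega) (by omega)
          inf_le_left inf_le_right
        have hKD := h.norm_KE (k := k) (j := k + 1) (H := DD R P k) le_rfl (by omega)
          inf_le_left inf_le_right
        have h3 := SignalizersComponents.PerfectGoingUp.three_subgroups_mod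
          (A := DQ) (B := P (k + 4)) (C := DD R P k) (K := KE R P N k) hKQ hK4 hKD (by
            rw [commutator_comm (P (k + 4))]
            exact (commutator_mono hle le_rfl).trans
              (Lib.CoprimeCommutator.commutator_le_left hKQ)) (by
            exact (commutator_mono (Lib.CoprimeCommutator.commutator_le_left hNQ)
              le_rfl).trans hle)
        rw [commutator_comm] at h3
        exact h.vv_not (by omega) hxv
          (h3 (commutator_mono le_rfl (zpowers_le.mpr hz) hx))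
      obtain ⟨x', hx', hxK⟩ := exists_of_not_le hnot
      refine ⟨x', h.vv_of (by omega) (Lib.CoprimeCommutator.commutator_le_left hN4 hx') hxK, ?_⟩
      have h1 := h.down hX hc (k := k) (j := k + 4) (by omega) hd hp14 le_rfl hT4 hT4c hx'
      rwa [show N - (k + 5) + 1 = N - (k + 4) by omega] at h1
    · have hzc : z ∈ c (N - (k + 4)) := by
        have h1 := hc.step (h.prime (k + 2) (by omega)) (h.prime (k + 4) hd) hp4
          ((h.pgroup (k + 2) (by omega)).to_le inf_le_left) (D := DQ)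
          (le_inf (inf_le_left.trans (hX (k + 2) (by omega))) inf_le_right)
          (h.pgroup (k + 4) hd) hT4c hN4Q hz
        rwa [show N - (k + 5) + 1 = N - (k + 4) by omega] at h1
      refine ⟨x, hxv, hc.anti _ ?_⟩
      exact h.down hX hc (k := k) (j := k + 2) (by omega) (by omega)
        (h.ne (k + 1) (by omega)) (zpowers_le.mpr hzDQ.1) (zpowers_le.mpr hzDQ.2)
        (zpowers_le.mpr hzc) hx
  · obtain ⟨z, hz, hzR, hzK⟩ := hZ1
    obtain ⟨x, hx, hxv⟩ := hZ2 z hz hzR hzK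
    refine ⟨x, hxv, ?_⟩
    rw [show N - (k + 4) = 0 by omega, hc.zero]
    exact ⟨hX (k + 1) (by omega) hxv.1, hxv.2.1⟩

end Cfsg.Agent.H575.TThree
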