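import Cfsg.Agent.H575.StartC
import Cfsg.Agent.H575.LThree

/-!
# The start: conclusion
-/

set_option autoImplicit false
set_option linter.unusedSectionVars false
set_option linter.unusedVariables false

namespace Cfsg.Agent.H575.TThree

open Subgroup Cfsg.Agent.H575.Sect Cfsg.Agent.H575.Tower Cfsg.Agent.H575.HA
  Cfsg.Agent.H575.ExtraIrr Cfsg.Agent.H575.MinTower Cfsg.Agent.H575.Mult
  Cfsg.Agent.H575.GLev Cfsg.Agent.H575.Model Cfsg.Agent.H575.BC Cfsg.Agent.H575.FTop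
open scoped commutatorElement

universe u

section M

variable {M : Type u} [CommGroup M] [Finite M] {p : ℕ} [hp : Fact p.Prime]

theorem l3_M (hM : ∀ m : M, m ^ p = 1) {N Q T R : Subgroup (MulAut M)} {r s q : ℕ}
    (hr : r.Prime) (hs : s.Prime) (hq : q.Prime) (hrs : r ≠ s) (hrq : r ≠ q) (hsp : s ≠ p)
    (hrp : r ≠ p) (hR : Nat.card R = r)
    (hN : IsPGroup s N) (hQ : IsPGroup q Q) (hrT : ¬ r ∣ Nat.card T)
    (hab : ∀ x ∈ N, ∀ y ∈ N, x * y = y * x)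
    (hRN : R ≤ normalizer (N : Set (MulAut M))) (hQN : Q ≤ normalizer (N : Set (MulAut M)))
    (hTN : T ≤ normalizer (N : Set (MulAut M))) (hRQ : R ≤ normalizer (Q : Set (MulAut M)))
    (hTQ : T ≤ normalizer (Q : Set (MulAut M))) (hTR : ∀ t ∈ T, ∀ a ∈ R, t * a = a * t)
    (hcomm : ⁅Q, R⁆ = Q) (hQT : ⁅Q, T⁆ = Q) (hNQ : ⁅N, Q⁆ = N)
    (hcen : ∀ c ∈ Q, c ∈ centralizer (R : Set (MulAut M)) → ∀ x ∈ Q, ∀ y ∈ N,
      ⁅c, x⁆ * y = y * ⁅c, x⁆)
    (hinvM : ∀ d ∈ ⁅N ⊓ centralizer (R : Set (MulAut M)), T⁆, ∀ m ∈ brm ⁅N, R⁆,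
      (∀ a ∈ R, a m = m) → d m = m) :
    ∀ d ∈ ⁅N ⊓ centralizer (R : Set (MulAut M)), T⁆, d = 1 := by
  obtain ⟨V, i1, i2, i3, π, hinj, -, -, -, hinv⟩ := exists_rep hM
  intro d hd
  apply hinj
  have hle : ⁅N, R⁆ ≤ N := Lib.CoprimeCommutator.commutator_le_left hRN
  refine LThree.l3_rep π hr hs hq hrs hrq hR hN hQ hrT
    (cl_ne_zero fun h1 => hsp ((Nat.prime_dvd_prime_iff_eq hp.out hs).mp h1).symm)
    hab hRN hQN hTN hRQ hTQ hTR hcomm hQT hNQ hcen ?_ d hd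
  intro x hx
  exact hinv _ _ x (MLev.not_dvd hs hsp (hN.to_le hle)) (MLev.not_dvd_R hR hr hrp)
    (Lib.CoprimeCommutator.right_le_normalizer_commutator N R) (hinvM x hx)

end M

variable {Γ : Type u} [Group Γ] [Finite Γ]
variable {R : Subgroup Γ} {P : ℕ → Subgroup Γ} {p : ℕ → ℕ} {N : ℕ}

/-- the abelian case -/
theorem MT.II_ab (h : MT R P p N) {k : ℕ} (hk : k + 3 < N)
    (hcR : ∀ j, k + 2 < j → j < N → P j ≤ centralizer (R : Set Γ))
    (hcomm : ⁅P (k + 2), R⁆ = P (k + 2)) (hRk : ¬ ⁅P k, R⁆ ≤ zz P N k)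
    (hab : ∀ x ∈ P (k + 1), ∀ y ∈ P (k + 1), ⁅x, y⁆ ∈ ker P (k + 1))
    (hKE : ⁅DD R P k, P (k + 3)⁆ ≤ KE R P N k) : ⁅DD R P k, P (k + 3)⁆ ≤ zz P N (k + 1) := by
  have hT := h.toIsTower
  have hR := h.hR
  have hRp : IsPGroup (Nat.card R) R := isPGroup_of_card h.hR rfl
  have hpf : Fact (p k).Prime := ⟨h.prime k (by omega)⟩
  obtain ⟨M, i1, i2, f, θ, hm⟩ := exists_mod (zz_le (P := P) (N := N) k)
    (h.phi (i := k) (by omega)).1 (h.phi (i := k) (by omega)).2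
  have hS1 : P (k + 1) ≤ nn (P k) (zz P N k) := h.le_nn (by omega) (by omega)
  have hS2 : P (k + 2) ≤ nn (P k) (zz P N k) := h.le_nn (by omega) (by omega)
  have hS3 : P (k + 3) ≤ nn (P k) (zz P N k) := h.le_nn (by omega) (by omega)
  have hSR : R ≤ nn (P k) (zz P N k) := h.R_le_nn (by omega)
  have hT3 := hcR (k + 3) (by omega) hk
  have hND := h.norm_DD (k := k) (j := k + 3) (by omega) hk le_rfl hT3
  have hDDS : DD R P k ≤ nn (P k) (zz P N k) := inf_le_left.trans hS1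
  have hce : im θ (P (k + 1)) ⊓ centralizer (im θ R : Set (MulAut M)) = im θ (DD R P k) :=
    im_cent hm hR hRp hSR hS1 (not_dvd_of hR (h.prime (k + 1) (by omega))
      (h.hRp (k + 1) (by omega)) (h.pgroup (k + 1) (by omega))) (h.inv (k + 1) (by omega))
  have hcom : ∀ g l : nn (P k) (zz P N k), ⁅(g : Γ), (l : Γ)⁆ ∈ ker P (k + 1) →
      θ g * θ l = θ l * θ g := by
    intro g l hgl
    rw [hm.mul_comm_iff]
    exact fun u hu => IsTower.ker_le_zz hT (by omega) (h.ker_act hgl hu)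
  have hmain := l3_M hm.exp (N := im θ (P (k + 1))) (Q := im θ (P (k + 2)))
    (T := im θ (P (k + 3))) (R := im θ R) hR (h.prime (k + 1) (by omega))
    (h.prime (k + 2) (by omega)) (h.hRp (k + 1) (by omega)) (h.hRp (k + 2) (by omega))
    (h.ne k (by omega)).symm (h.hRp k (by omega)) (card_im_R hm hR rfl hSR (h.exists_R hRk))
    (im_pgroup (h.pgroup (k + 1) (by omega))) (im_pgroup (h.pgroup (k + 2) (by omega)))
    (cop_of_ne hR (h.prime (k + 3) hk) (h.hRp (k + 3) hk) (im_pgroup (h.pgroup (k + 3) hk)))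
    (by
      rintro _ ⟨x, hx, rfl⟩ _ ⟨y, hy, rfl⟩
      exact hcom x y (hab x hx y hy))
    (im_norm (h.inv (k + 1) (by omega)))
    (im_norm (h.norm (k + 1) (k + 2) (by omega) (by omega)))
    (im_norm (h.norm (k + 1) (k + 3) (by omega) (by omega)))
    (im_norm (h.inv (k + 2) (by omega)))
    (im_norm (h.norm (k + 2) (k + 3) (by omega) (by omega)))
    (by
      rintro _ ⟨t, ht, rfl⟩ _ ⟨a, ha, rfl⟩
      rw [← map_mul, ← map_mul]
      congr 1
      exact Subtype.ext (Subgroup.mem_centralizer_iff.mp (hT3 ht) a ha).symm)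
    (by rw [← im_comm hS2 hSR, hcomm]) (by rw [← im_comm hS2 hS3, h.comm_eq hk])
    (by rw [← im_comm hS1 hS2, h.comm_eq (by omega)])
    (by
      rintro _ ⟨z, hz, rfl⟩ hzR _ ⟨x, hx, rfl⟩ _ ⟨y, hy, rfl⟩
      obtain ⟨z', h1, h2, h3⟩ := hm.lift_cent hR hRp hSR (N := P (k + 2)) hS2
        (cop_of_ne hR (h.prime (k + 2) (by omega)) (h.hRp (k + 2) (by omega))
          (h.pgroup (k + 2) (by omega))) (h.inv (k + 2) (by omega)) hz
        (fun a ha => Subgroup.mem_centralizer_iff.mp hzR a ha)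
      rw [← h3, ← map_commutatorElement]
      have h4 := h.zz_comm (i := k + 2) (by omega) (h.cent_kappa (by omega) hcomm ⟨h1, h2⟩) hx
      exact hcom _ _ (h.ker_act h4 hy))
    (by
      rw [hce, ← im_comm hDDS hS3]
      rintro _ ⟨d, hd, rfl⟩ m hmb hmR
      have hdD : (d : Γ) ∈ DD R P k := Lib.CoprimeCommutator.commutator_le_left hND hd
      have hdv := (h.not_vis (by omega) hdD.1 hdD.2).mp (hKE hd)
      by_contra hne
      apply hdv
      refine vis_of hm hR hRp (not_dvd_of hR (h.prime k (by omega)) (h.hRp k (by omega))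
        (h.pgroup k (by omega))) hSR
        ((Lib.CoprimeCommutator.commutator_le_left (h.inv (k + 1) (by omega))).trans hS1)
        (Lib.CoprimeCommutator.right_le_normalizer_commutator _ R) ⟨m, ?_, hmR, hne⟩
      rwa [im_comm hS1 hSR])
  rw [hce, ← im_comm hDDS hS3] at hmain
  intro d hd
  have hdD : d ∈ DD R P k := Lib.CoprimeCommutator.commutator_le_left hND hd
  have h1 := hmain (θ ⟨d, hDDS hdD⟩) (mem_im_of (g := ⟨d, hDDS hdD⟩) hd)
  rw [hm.eq_one_iff] at h1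
  exact IsTower.ker_le_zz hT (by omega) (h.mem_ker_of (by omega) hdD.1 h1)

theorem MT.start (h : MT R P p N) {X : Subgroup Γ} (hX : ∀ i < N, P i ≤ X)
    {c : ℕ → Subgroup Γ} {n : ℕ} (hc : CC (X ⊓ centralizer (R : Set Γ)) c n)
    {k : ℕ} (hk : k + 2 < N)
    (hcR : ∀ j, k + 2 < j → j < N → P j ≤ centralizer (R : Set Γ))
    (hcomm : ⁅P (k + 2), R⁆ = P (k + 2)) (hRn : ∀ i ≤ k + 2, ¬ ⁅P i, R⁆ ≤ zz P N i) :
    ∃ x, VV R P N k x ∧ x ∈ c (N - (k + 4)) := by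
  by_cases hk3 : k + 3 < N
  · by_cases hI : ⁅DD R P k, P (k + 3)⁆ ≤ KE R P N k
    · refine h.start_II hX hc hk3 hcR hcomm hRn ?_
      by_cases hab : ∀ x ∈ P (k + 1), ∀ y ∈ P (k + 1), ⁅x, y⁆ ∈ ker P (k + 1)
      · exact h.II_ab hk3 hcR hcomm (hRn k (by omega)) hab hI
      · push Not at hab
        refine hI.trans fun x hx => ?_
        have hgd := h.gd_start hk hcomm (hRn k (by omega))
        refine h.cen_le (by omega) hab hx.1.1 ?_
        exact nvG hgd (h.comm_eq (i := k + 1) (by omega)) hx.1.1 hx.1.2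
          ((h.not_vis (by omega) hx.1.1 hx.1.2).mp hx)
    · exact h.start_I hX hc hk3 hcR hI
  · obtain ⟨x, hx⟩ := h.start_top (k := k) (by omega) hcomm (hRn k (by omega))
    refine ⟨x, hx, ?_⟩
    rw [show N - (k + 4) = 0 by omega, hc.zero]
    exact ⟨hX (k + 1) (by omega) hx.1, hx.2.1⟩

/-- **Turull's theorem for minimal towers** -/
theorem MT.main (h : MT R P p N) {X : Subgroup Γ} (hX : ∀ i < N, P i ≤ X)
    {c : ℕ → Subgroup Γ} {n : ℕ} (hc : CC (X ⊓ centralizer (R : Set Γ)) c n)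
    (hN : N = n + 3) : False := by
  obtain ⟨κ, h2, hκ, hcomm, hcR⟩ := h.exists_kappa hX hc hN
  obtain ⟨k, rfl⟩ : ∃ k, κ = k + 2 := ⟨κ - 2, by omega⟩
  have hRn : ∀ i ≤ k + 2, ¬ ⁅P i, R⁆ ≤ zz P N i := fun i hi =>
    h.R_nontriv hκ hcomm (k + 2) i hi (by omega)
  obtain ⟨x, hx, hxc⟩ := h.start hX hc hκ hcR hcomm hRn
  have h3 := h.descend hX hc hκ hRn k (N - (k + 4)) x le_rfl hx hxc
  omega

end Cfsg.Agent.H575.TThree
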