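import Cfsg.Agent.H575.CChain
import Cfsg.Agent.H575.Avg

/-!
# One step down the tower
-/

set_option autoImplicit false
set_option linter.unusedSectionVars false
set_option linter.unusedVariables false

namespace Cfsg.Agent.H575.TThree

open Subgroup Cfsg.Agent.H575.Sect Cfsg.Agent.H575.Tower Cfsg.Agent.H575.HA
  Cfsg.Agent.H575.ExtraIrr Cfsg.Agent.H575.MinTower Cfsg.Agent.H575.Mult
  Cfsg.Agent.H575.GLev Cfsg.Agent.H575.Model Cfsg.Agent.H575.BC
open scoped commutatorElement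

universe u

variable {Γ : Type u} [Group Γ] [Finite Γ]
variable {R : Subgroup Γ} {P : ℕ → Subgroup Γ} {p : ℕ → ℕ} {N : ℕ}

theorem MT.le_nn (h : MT R P p N) {i j : ℕ} (hij : i ≤ j) (hj : j < N) :
    P j ≤ nn (P i) (zz P N i) := le_inf (h.norm i j hij hj) (h.norm_zz hij hj)

theorem MT.R_le_nn (h : MT R P p N) {i : ℕ} (hi : i < N) :
    R ≤ nn (P i) (zz P N i) := le_inf (h.inv i hi) (h.inv_zz hi)

theorem MT.exists_R (h : MT R P p N) {i : ℕ} (hR : ¬ ⁅P i, R⁆ ≤ zz P N i) :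
    ∃ a ∈ R, ∃ l ∈ P i, ⁅a, l⁆ ∉ zz P N i := by
  by_contra hcon
  push Not at hcon
  apply hR
  rw [commutator_le]
  intro x hx a ha
  exact comm_swap (hcon a ha x hx)

theorem MT.gd (h : MT R P p N) {i : ℕ} (hi : i + 2 < N) (hRi : ¬ ⁅P i, R⁆ ≤ zz P N i)
    {A Px : Subgroup Γ} (hA : A ≤ P (i + 2)) (hRA : R ≤ normalizer (A : Set Γ))
    (hAR : ⁅A, R⁆ = A) (hPx : Px ≤ P (i + 1)) (hZ : zz P N (i + 1) ≤ Px)
    (hAP : A ≤ normalizer (Px : Set Γ)) (hRP : R ≤ normalizer (Px : Set Γ)) :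
    GD (P i) (zz P N i) Px (zz P N (i + 1)) (ker P (i + 1)) A R (Nat.card R)
      (p (i + 1)) (p (i + 2)) (p i) where
  hr := h.hR
  hs := h.prime (i + 1) (by omega)
  hq := h.prime (i + 2) hi
  hp := h.prime i (by omega)
  hrs := h.hRp (i + 1) (by omega)
  hrq := h.hRp (i + 2) hi
  hqs := (h.ne (i + 1) hi).symm
  hrp := h.hRp i (by omega)
  hsp := (h.ne i (by omega)).symm
  hR := rfl
  hL := h.pgroup i (by omega)
  hZL := zz_le i
  hLL := (h.phi (i := i) (by omega)).1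
  hLp := (h.phi (i := i) (by omega)).2
  hPS := hPx.trans (h.le_nn (Nat.le_succ i) (by omega))
  hAS := hA.trans (h.le_nn (by omega) hi)
  hRS := h.R_le_nn (by omega)
  hRL := h.exists_R hRi
  hP := (h.pgroup (i + 1) (by omega)).to_le hPx
  hKP := (IsTower.ker_le_zz h.toIsTower (i := i + 1) (by omega)).trans hZ
  hK := fun x hx => by
    constructor
    · intro hxl
      exact h.mem_ker_of (by omega) (hPx hx) hxl
    · intro hxK l hl
      have h1 : x ∈ P (i + 1) ⊓ cmod (P i) (ker P i) := hxK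
      exact IsTower.ker_le_zz h.toIsTower (i := i) (by omega) (h1.2.2 l hl)
  hZP := hZ
  hPP := fun x hx y hy => (h.phi (i := i + 1) (by omega)).1 x (hPx hx) y (hPx hy)
  hPs := fun x hx => (h.phi (i := i + 1) (by omega)).2 x (hPx hx)
  hZ := fun z hz x hx => h.zz_comm (by omega) hz (hPx hx)
  hA := (h.pgroup (i + 2) hi).to_le hA
  hAP := hAP
  hZA := fun z hz a ha => h.zz_comm_succ (i := i + 1) hi hz (hA ha)
  hRP := hRP
  hRZ := h.inv_zz (by omega)
  hRA := hRA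
  hcomm := hAR
  hA3 := fun a ha b hb c hc x hx => by
    have h1 : ⁅⁅a, b⁆, c⁆ ∈ ker P (i + 2) :=
      h.zz_comm hi ((h.phi hi).1 a (hA ha) b (hA hb)) (hA hc)
    have h2 : ⁅⁅a, b⁆, c⁆ ∈ P (i + 2) ⊓ cmod (P (i + 1)) (ker P (i + 1)) := h1
    exact h2.2.2 x (hPx hx)
  hAq := fun a ha b hb x hx => by
    have h1 : ⁅a ^ p (i + 2), b⁆ ∈ ker P (i + 2) :=
      h.zz_comm hi ((h.phi hi).2 a (hA ha)) (hA hb)
    have h2 : ⁅a ^ p (i + 2), b⁆ ∈ P (i + 2) ⊓ cmod (P (i + 1)) (ker P (i + 1)) := h1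
    exact h2.2.2 x (hPx hx)

theorem MT.ker_act (h : MT R P p N) {i : ℕ} {x y : Γ} (hx : x ∈ ker P (i + 1))
    (hy : y ∈ P i) : ⁅x, y⁆ ∈ ker P i := by
  have h2 : x ∈ P (i + 1) ⊓ cmod (P i) (ker P i) := hx
  exact h2.2.2 y hy

theorem Vis.mono {L ZL B B' R : Subgroup Γ} {x : Γ} (hB : B ≤ B') (h : Vis L ZL B R x) :
    Vis L ZL B' R x := by
  obtain ⟨g, hg, hgR, hgx⟩ := h
  exact ⟨g, commutator_mono le_rfl hB hg, hgR, hgx⟩

/-- `x` is a visible element of level `i + 1` -/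
def VV (R : Subgroup Γ) (P : ℕ → Subgroup Γ) (N i : ℕ) (x : Γ) : Prop :=
  x ∈ P (i + 1) ∧ x ∈ centralizer (R : Set Γ) ∧ Vis (P i) (zz P N i) ⁅P (i + 1), R⁆ R x

theorem MT.step (h : MT R P p N) {X : Subgroup Γ} (hX : ∀ i < N, P i ≤ X)
    {c : ℕ → Subgroup Γ} {n : ℕ} (hc : CC (X ⊓ centralizer (R : Set Γ)) c n)
    {i : ℕ} (hi : i + 2 < N) (hRi : ¬ ⁅P i, R⁆ ≤ zz P N i) {j : ℕ} {x : Γ}
    (hx : VV R P N (i + 1) x) (hxc : x ∈ c j) : ∃ x', VV R P N i x' ∧ x' ∈ c (j + 1) := by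
  obtain ⟨hxP, hxR, hvis⟩ := hx
  have hT := h.toIsTower
  have hR := h.hR
  have hRp : IsPGroup (Nat.card R) R := isPGroup_of_card h.hR rfl
  -- the group generated by `x`
  set Y : Subgroup Γ := zpowers x with hY
  have hYP2 : Y ≤ P (i + 2) := zpowers_le.mpr hxP
  have hYR' : Y ≤ centralizer (R : Set Γ) := zpowers_le.mpr hxR
  have hYR : ∀ y ∈ Y, ∀ a ∈ R, y * a = a * y := fun y hy a ha =>
    (Subgroup.mem_centralizer_iff.mp (hYR' hy) a ha).symm
  have hYq : IsPGroup (p (i + 2)) Y := (h.pgroup (i + 2) hi).to_le hYP2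
  have hYc : Y ≤ c j := zpowers_le.mpr hxc
  have hYP1 : Y ≤ normalizer (P (i + 1) : Set Γ) := hYP2.trans (h.norm (i + 1) (i + 2) (by omega) hi)
  -- commutators with `Y` go down
  have hdown : ∀ D : Subgroup Γ, D ≤ P (i + 1) ⊓ centralizer (R : Set Γ) →
      ⁅D, Y⁆ ≤ c (j + 1) ∧ ⁅D, Y⁆ ≤ P (i + 1) ⊓ centralizer (R : Set Γ) := by
    intro D hD
    have hYD : Y ≤ normalizer ((P (i + 1) ⊓ centralizer (R : Set Γ) : Subgroup Γ) : Set Γ) :=
      le_normalizer_inf hYP1 (hYR'.trans Subgroup.le_normalizer)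
    have h1 := hc.step (h.prime (i + 1) (by omega)) (h.prime (i + 2) hi) (h.ne (i + 1) hi)
      ((h.pgroup (i + 1) (by omega)).to_le inf_le_left)
      (D := P (i + 1) ⊓ centralizer (R : Set Γ))
      (le_inf (inf_le_left.trans (hX (i + 1) (by omega))) inf_le_right) hYq hYc hYD
    exact ⟨(commutator_mono hD le_rfl).trans h1, (commutator_mono hD le_rfl).trans
      (Lib.CoprimeCommutator.commutator_le_left hYD)⟩
  -- `A₀`
  set A0 : Subgroup Γ := ⁅zz P N (i + 2), R⁆ with hA0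
  have hRz : R ≤ normalizer (zz P N (i + 2) : Set Γ) := h.inv_zz hi
  have hA0z : A0 ≤ zz P N (i + 2) := Lib.CoprimeCommutator.commutator_le_left hRz
  have hA0P : A0 ≤ P (i + 2) := hA0z.trans (zz_le _)
  have hRA0 : R ≤ normalizer (A0 : Set Γ) :=
    Lib.CoprimeCommutator.right_le_normalizer_commutator _ _
  have hA0R : ⁅A0, R⁆ = A0 := Lib.CoprimeCommutator.commutator_commutator_eq _ _ hRz
    ((h.cop_R hi).coprime_dvd_right (Subgroup.card_dvd_of_le (zz_le _)))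
  have hwitness : ∀ (g : Γ), ⁅x, g⁆ ∉ zz P N (i + 1) → ⁅g, x⁆ ∉ ker P (i + 1) := by
    intro g hg h1
    exact hg (comm_swap (IsTower.ker_le_zz hT (by omega) h1))
  by_cases hcase : ∃ g ∈ ⁅P (i + 1), A0⁆, g ∈ centralizer (R : Set Γ) ∧ ⁅x, g⁆ ∉ zz P N (i + 1)
  · obtain ⟨g, hg, hgR, hgx⟩ := hcase
    have hgd := h.gd hi hRi hA0P hRA0 hA0R le_rfl (zz_le _)
      (hA0P.trans (h.norm (i + 1) (i + 2) (by omega) hi)) (h.inv (i + 1) (by omega))
    obtain ⟨d, hd, hdv⟩ := klG hgd hYq (hYP2.trans (h.le_nn (by omega) hi)) hYR hYP1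
      (fun z hz y hy => h.zz_comm_succ (i := i + 1) hi hz (hYP2 hy))
      (fun a ha y hy u hu => h.ker_act (h.zz_comm hi (hA0z ha) (hYP2 hy)) hu)
      ⟨⁅g, x⁆, commutator_mem_commutator ⟨hg, hgR⟩ (mem_zpowers x), hwitness g hgx⟩
    have hle : ⁅P (i + 1), A0⁆ ≤ P (i + 1) := Lib.CoprimeCommutator.commutator_le_left
      (hA0P.trans (h.norm (i + 1) (i + 2) (by omega) hi))
    obtain ⟨h1, h2⟩ := hdown (⁅P (i + 1), A0⁆ ⊓ centralizer (R : Set Γ))
      (inf_le_inf_right _ hle)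
    exact ⟨d, ⟨(h2 hd).1, (h2 hd).2, hdv⟩, h1 hd⟩
  · push Not at hcase
    set A : Subgroup Γ := ⁅P (i + 2), R⁆ with hA
    have hAP : A ≤ P (i + 2) := Lib.CoprimeCommutator.commutator_le_left (h.inv (i + 2) hi)
    have hRA : R ≤ normalizer (A : Set Γ) :=
      Lib.CoprimeCommutator.right_le_normalizer_commutator _ _
    have hAR : ⁅A, R⁆ = A := Lib.CoprimeCommutator.commutator_commutator_eq _ _
      (h.inv (i + 2) hi) (h.cop_R hi)
    -- `A₁`
    set A1 : Subgroup Γ := A0 ⊔ ker P (i + 2) with hA1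
    have hKP : ker P (i + 2) ≤ P (i + 2) := ker_le P (i + 2)
    have hA1P : A1 ≤ P (i + 2) := sup_le hA0P hKP
    have hRA1 : R ≤ normalizer (A1 : Set Γ) :=
      le_normalizer_sup' hRA0 (IsTower.inv_ker hT hi)
    have hPA1 : P (i + 2) ≤ normalizer (A1 : Set Γ) := by
      intro g hg
      rw [← SetLike.mem_coe] at hg
      have hK : g ∈ normalizer (ker P (i + 2) : Set Γ) := IsTower.norm_ker hT le_rfl hi hg
      have key : ∀ g ∈ P (i + 2), ∀ y ∈ A1, g * y * g⁻¹ ∈ A1 := by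
        intro g hg y hy
        have hle : A1 ≤ zz P N (i + 2) := sup_le hA0z (IsTower.ker_le_zz hT hi)
        have h3 : g * y * g⁻¹ = ⁅y, g⁆⁻¹ * y := by
          rw [commutatorElement_def]; group
        rw [h3]
        exact A1.mul_mem (A1.inv_mem ((le_sup_right : ker P (i + 2) ≤ A1)
          (h.zz_comm hi (hle hy) hg))) hy
      exact le_norm key hg
    -- `P_*`
    set Ps : Subgroup Γ := P (i + 1) ⊓ cmod A1 (zz P N (i + 1)) with hPs
    have hPsP : Ps ≤ P (i + 1) := inf_le_left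
    have hP2s : P (i + 2) ≤ normalizer (Ps : Set Γ) :=
      le_normalizer_inf (h.norm (i + 1) (i + 2) (by omega) hi)
        (cmod_norm hPA1 (h.norm_zz (by omega) hi))
    have hRs : R ≤ normalizer (Ps : Set Γ) :=
      le_normalizer_inf (h.inv (i + 1) (by omega))
        (cmod_norm hRA1 (h.inv_zz (by omega)))
    have hzs : zz P N (i + 1) ≤ Ps := by
      intro z hz
      refine ⟨zz_le _ hz, h.norm_zz le_rfl (by omega) (zz_le _ hz), fun a ha => ?_⟩
      exact IsTower.ker_le_zz hT (by omega) (h.zz_comm_succ (i := i + 1) hi hz (hA1P ha))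
    -- claim 1
    have hcl1 : ⁅A, Y⁆ ≤ A1 := by
      refine SignalizersComponents.PerfectGoingUp.three_subgroups_mod
        (A := P (i + 2)) (B := R) (C := Y) (K := A1) hPA1 hRA1 (hYP2.trans hPA1) ?_ ?_
      · have h4 : ⁅R, Y⁆ = ⊥ := by
          rw [← le_bot_iff, commutator_le]
          intro a ha y hy
          rw [Subgroup.mem_bot, commutatorElement_eq_one_iff_mul_comm]
          exact (hYR y hy a ha).symm
        rw [h4, commutator_bot_left]
        exact bot_le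
      · have h4 : ⁅Y, P (i + 2)⁆ ≤ zz P N (i + 2) := by
          rw [commutator_le]
          intro y hy a ha
          exact (h.phi hi).1 y (hYP2 hy) a ha
        exact (commutator_mono h4 le_rfl).trans le_sup_left
    -- claim 2
    have hcl2 : ⁅Ps, A1⁆ ≤ ker P (i + 1) := by
      have h4 : ⁅Ps, A1⁆ ≤ zz P N (i + 1) := by
        rw [commutator_le]
        intro u hu a ha
        exact hu.2.2 a ha
      have h5 : ⁅⁅Ps, A1⁆, A1⁆ ≤ ker P (i + 1) := by
        rw [commutator_le]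
        intro u hu a ha
        exact h.zz_comm_succ (i := i + 1) hi (h4 hu) (hA1P ha)
      rwa [Lib.CoprimeCommutator.commutator_commutator_eq _ _ (hA1P.trans hP2s)
        (((IsTower.coprime hT (i := i + 1) hi).coprime_dvd_left
          (Subgroup.card_dvd_of_le hA1P)).coprime_dvd_right
          (Subgroup.card_dvd_of_le hPsP))] at h5
    have hgd := h.gd hi hRi hAP hRA hAR hPsP hzs (hAP.trans hP2s) hRs
    -- a witness in `P_*`
    have hwit : ∃ g ∈ ⁅Ps, A⁆, g ∈ centralizer (R : Set Γ) ∧ ⁅x, g⁆ ∉ zz P N (i + 1) := by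
      have hpf : Fact (p (i + 1)).Prime := ⟨h.prime (i + 1) (by omega)⟩
      obtain ⟨M, i1, i2, f, θ, hm⟩ := exists_mod (zz_le (P := P) (N := N) (i + 1))
        (h.phi (i := i + 1) (by omega)).1 (h.phi (i := i + 1) (by omega)).2
      have hS2 : P (i + 2) ≤ nn (P (i + 1)) (zz P N (i + 1)) := h.le_nn (by omega) hi
      have hSR : R ≤ nn (P (i + 1)) (zz P N (i + 1)) := h.R_le_nn (by omega)
      have him : im θ A1 = im θ A0 := Avg.im_sup_eq hm (hA0P.trans hS2) (hKP.trans hS2)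
        fun u hu l hl => IsTower.ker_le_zz hT (by omega) (h.ker_act hu hl)
      obtain ⟨g, hg, hgR, hgx⟩ := hvis
      have hgP : g ∈ P (i + 1) := Lib.CoprimeCommutator.commutator_le_left
        (hAP.trans (h.norm (i + 1) (i + 2) (by omega) hi)) hg
      have hgbr : f ⟨g, hgP⟩ ∈ brm (im θ A) := Avg.brm_of hm (hAP.trans hS2) hg hgP
      have hfixR : ∀ (l : P (i + 1)), (l : Γ) ∈ centralizer (R : Set Γ) →
          ∀ a ∈ im θ R, a (f l) = f l := by
        rintro l hl _ ⟨a, ha, rfl⟩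
        rw [hm.fix_iff, commutatorElement_eq_one_iff_mul_comm.mpr
          (Subgroup.mem_centralizer_iff.mp hl a ha)]
        exact Subgroup.one_mem _
      have hxS : x ∈ nn (P (i + 1)) (zz P N (i + 1)) := hS2 hxP
      obtain ⟨m', hm'1, hm'2, hm'3⟩ := Avg.avg_split (p := p (i + 1)) hm.exp
        (A := im θ A) (B := im θ A1) (R := im θ R)
        (cop_of_ne (h.prime (i + 1) (by omega)) (h.prime (i + 2) hi) (h.ne (i + 1) hi)
          (im_pgroup ((h.pgroup (i + 2) hi).to_le hA1P)))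
        (x := θ ⟨x, hxS⟩) (im_norm hPA1 (mem_im_of (g := ⟨x, hxS⟩) hxP))
        (im_norm (hAP.trans hPA1)) (im_norm hRA1) hgbr (hfixR ⟨g, hgP⟩ hgR)
        (fun h1 => hgx (hm.fix_iff.mp h1)) (by
          intro w hw hwR
          rw [him] at hw
          obtain ⟨l, hl, rfl⟩ := hm.brm_lift hw
          obtain ⟨c', hc'1, hc'2, hc'3⟩ := hm.lift_fixed hR hRp
            (not_dvd_of hR (h.prime (i + 1) (by omega)) (h.hRp (i + 1) (by omega))
              (h.pgroup (i + 1) (by omega))) hSR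
            (Lib.CoprimeCommutator.commutator_le_left
              (hA0P.trans (h.norm (i + 1) (i + 2) (by omega) hi)))
            (le_normalizer_commutator (h.inv (i + 1) (by omega)) hRA0) hl hwR
          rw [← hc'3]
          exact hm.fix_iff.mpr (hcase c' hc'1 hc'2))
      obtain ⟨l, hl, rfl⟩ := Avg.brc_lift hm (Ls := Ps) (hA1P.trans hS2) (by
        intro l hl hlb
        exact ⟨hl, h.norm_zz le_rfl (by omega) hl, fun b hb => comm_swap (hlb b hb)⟩) hm'1
      obtain ⟨c', hc'1, hc'2, hc'3⟩ := hm.lift_fixed hR hRp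
        (not_dvd_of hR (h.prime (i + 1) (by omega)) (h.hRp (i + 1) (by omega))
          (h.pgroup (i + 1) (by omega))) hSR
        ((Lib.CoprimeCommutator.commutator_le_left (hAP.trans hP2s)).trans hPsP)
        (le_normalizer_commutator hRs hRA) hl hm'2
      refine ⟨c', hc'1, hc'2, fun h1 => hm'3 ?_⟩
      rw [← hc'3]
      exact hm.fix_iff.mpr h1
    obtain ⟨g, hg, hgR, hgx⟩ := hwit
    obtain ⟨d, hd, hdv⟩ := klG hgd hYq (hYP2.trans (h.le_nn (by omega) hi)) hYR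
      (hYP2.trans hP2s)
      (fun z hz y hy => h.zz_comm_succ (i := i + 1) hi hz (hYP2 hy))
      (fun a ha y hy u hu => comm_swap (hcl2 (commutator_mem_commutator hu
        (hcl1 (commutator_mem_commutator ha hy)))))
      ⟨⁅g, x⁆, commutator_mem_commutator ⟨hg, hgR⟩ (mem_zpowers x), hwitness g hgx⟩
    have hle : ⁅Ps, A⁆ ≤ P (i + 1) :=
      (Lib.CoprimeCommutator.commutator_le_left (hAP.trans hP2s)).trans hPsP
    obtain ⟨h1, h2⟩ := hdown (⁅Ps, A⁆ ⊓ centralizer (R : Set Γ)) (inf_le_inf_right _ hle)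
    exact ⟨d, ⟨(h2 hd).1, (h2 hd).2, Vis.mono (commutator_mono hPsP le_rfl) hdv⟩, h1 hd⟩

end Cfsg.Agent.H575.TThree
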