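import Cfsg.Agent.H575.TThree

/-!
# Consequences of minimality
-/

set_option autoImplicit false
set_option linter.unusedSectionVars false
set_option linter.unusedVariables false

namespace Cfsg.Agent.H575.TThree

open Subgroup Cfsg.Agent.H575.Sect Cfsg.Agent.H575.Tower Cfsg.Agent.H575.HA
  Cfsg.Agent.H575.ExtraIrr Cfsg.Agent.H575.MinTower Cfsg.Agent.H575.Mult
open scoped commutatorElement

universe u

variable {Γ : Type u} [Group Γ] [Finite Γ]
variable {R : Subgroup Γ} {P : ℕ → Subgroup Γ} {p : ℕ → ℕ} {N : ℕ}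

theorem comm_swap {K : Subgroup Γ} {x y : Γ} (h : ⁅x, y⁆ ∈ K) : ⁅y, x⁆ ∈ K := by
  rw [← commutatorElement_inv]
  exact Subgroup.inv_mem _ h

theorem MT.comm_eq (h : MT R P p N) {i : ℕ} (hi : i + 1 < N) : ⁅P i, P (i + 1)⁆ = P i := by
  by_contra hne
  have hT := h.toIsTower
  have h1 := h.le_zz (i := i) (by omega) (Q := ⁅P i, P (i + 1)⁆)
    (Lib.CoprimeCommutator.commutator_le_left (hT.norm i (i + 1) (by omega) hi))
    (le_normalizer_commutator (hT.inv i (by omega)) (hT.inv (i + 1) hi))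
    (fun j hj hjN => le_normalizer_commutator (hT.norm i j (by omega) hjN)
      (hT.norm (i + 1) j (by omega) hjN)) hne
  exact IsTower.contra hT hi le_rfl h1

theorem MT.not_le_zz (h : MT R P p N) {i : ℕ} (hi : i < N) : ¬ P i ≤ zz P N i := by
  intro h1
  have hT := h.toIsTower
  by_cases h2 : i + 1 < N
  · exact IsTower.contra hT h2 (Lib.CoprimeCommutator.commutator_le_left
      (hT.norm i (i + 1) (by omega) h2)) h1
  · rw [zz_of_not h2] at h1
    exact hT.nontriv i hi h1

theorem MT.ne_bot (h : MT R P p N) {i : ℕ} (hi : i < N) : P i ≠ ⊥ := by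
  intro h1
  refine h.nontriv i hi ?_
  rw [h1]
  exact bot_le

theorem MT.phi (h : MT R P p N) {i : ℕ} (hi : i < N) :
    (∀ x ∈ P i, ∀ y ∈ P i, ⁅x, y⁆ ∈ zz P N i) ∧ ∀ x ∈ P i, x ^ p i ∈ zz P N i := by
  have hT := h.toIsTower
  obtain ⟨F, hFP, hFne, hF1, hF2, hF3⟩ := exists_phi (hT.prime i hi) (hT.pgroup i hi)
    (h.ne_bot hi)
  have h1 := h.le_zz hi hFP (hF3 R (hT.inv i hi))
    (fun j hj hjN => hF3 (P j) (hT.norm i j (by omega) hjN)) hFne
  exact ⟨fun x hx y hy => h1 (hF1 x hx y hy), fun x hx => h1 (hF2 x hx)⟩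

theorem MT.norm_zz (h : MT R P p N) {i j : ℕ} (hij : i ≤ j) (hj : j < N) :
    P j ≤ normalizer (zz P N i : Set Γ) := by
  have hT := h.toIsTower
  rcases Nat.lt_or_eq_of_le hij with h1 | h1
  · have h2 : i + 1 < N := by omega
    rw [zz_of_lt h2]
    exact le_normalizer_inf (hT.norm i j hij hj)
      (cmod_norm (hT.norm (i + 1) j h1 hj) (IsTower.norm_ker hT hij hj))
  · subst h1
    refine le_norm fun x hx z hz => ?_
    have h2 := (h.phi hj).1 x hx z (zz_le i hz)
    have h3 : x * z * x⁻¹ = ⁅x, z⁆ * z := by rw [commutatorElement_def, inv_mul_cancel_right]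
    rw [h3]
    exact Subgroup.mul_mem _ h2 hz

theorem MT.inv_zz (h : MT R P p N) {i : ℕ} (hi : i < N) :
    R ≤ normalizer (zz P N i : Set Γ) := by
  have hT := h.toIsTower
  by_cases h2 : i + 1 < N
  · rw [zz_of_lt h2]
    exact le_normalizer_inf (hT.inv i hi) (cmod_norm (hT.inv (i + 1) h2) (IsTower.inv_ker hT hi))
  · rw [zz_of_not h2]
    exact IsTower.inv_ker hT hi

theorem MT.zz_comm_succ (h : MT R P p N) {i : ℕ} (hi : i + 1 < N) {z a : Γ}
    (hz : z ∈ zz P N i) (ha : a ∈ P (i + 1)) : ⁅z, a⁆ ∈ ker P i := by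
  rw [zz_of_lt hi] at hz
  exact hz.2.2 a ha

theorem MT.ker_comm (h : MT R P p N) {i j : ℕ} (hij : i ≤ j) (hj : j < N) {z a : Γ}
    (hz : z ∈ ker P i) (ha : a ∈ P j) : ⁅z, a⁆ ∈ ker P i := by
  have h1 := Sect.conj_mem (IsTower.norm_ker h.toIsTower hij hj) ha (Subgroup.inv_mem _ hz)
  have h3 : ⁅z, a⁆ = z * (a * z⁻¹ * a⁻¹) := by rw [commutatorElement_def]; group
  rw [h3]
  exact Subgroup.mul_mem _ hz h1

theorem MT.zz_comm (h : MT R P p N) {i : ℕ} (hi : i < N) {z x : Γ}
    (hz : z ∈ zz P N i) (hx : x ∈ P i) : ⁅z, x⁆ ∈ ker P i := by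
  have hT := h.toIsTower
  by_cases h2 : i + 1 < N
  · have hZK : zz P N i ≤ normalizer (ker P i : Set Γ) :=
      (zz_le i).trans (IsTower.norm_ker hT le_rfl hi)
    have h3 := SignalizersComponents.PerfectGoingUp.three_subgroups_mod
      (A := P i) (B := P (i + 1)) (C := zz P N i) (K := ker P i)
      (IsTower.norm_ker hT le_rfl hi) (IsTower.norm_ker hT (Nat.le_succ i) h2) hZK (by
        rw [commutator_le]
        intro u hu v hv
        have h4 : ⁅P (i + 1), zz P N i⁆ ≤ ker P i := by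
          rw [commutator_comm, commutator_le]
          exact fun z hz a ha => h.zz_comm_succ h2 hz ha
        exact h.ker_comm le_rfl hi (h4 hu) hv) (by
        rw [commutator_le]
        intro u hu v hv
        have h4 : ⁅zz P N i, P i⁆ ≤ zz P N i :=
          Lib.CoprimeCommutator.commutator_le_left (h.norm_zz le_rfl hi)
        exact h.zz_comm_succ h2 (h4 hu) hv)
    rw [h.comm_eq h2] at h3
    exact comm_swap (h3 (commutator_mem_commutator hx hz))
  · rw [zz_of_not h2] at hz
    exact h.ker_comm le_rfl hi hz hx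

/-- the nonabelian case -/
theorem MT.cen_le (h : MT R P p N) {i : ℕ} (hi : i < N)
    (hna : ∃ x ∈ P i, ∃ y ∈ P i, ⁅x, y⁆ ∉ ker P i) {x : Γ} (hx : x ∈ P i)
    (hxc : ∀ y ∈ P i, ⁅x, y⁆ ∈ ker P i) : x ∈ zz P N i := by
  have hT := h.toIsTower
  have h1 := h.le_zz hi (Q := P i ⊓ cmod (P i) (ker P i)) inf_le_left
    (le_normalizer_inf (hT.inv i hi) (cmod_norm (hT.inv i hi) (IsTower.inv_ker hT hi)))
    (fun j hj hjN => le_normalizer_inf (hT.norm i j (by omega) hjN)
      (cmod_norm (hT.norm i j (by omega) hjN) (IsTower.norm_ker hT (by omega) hjN))) (by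
      intro heq
      obtain ⟨a, ha, b, hb, hab⟩ := hna
      rw [← heq] at ha
      exact hab (ha.2.2 b hb))
  exact h1 ⟨hx, IsTower.norm_ker hT le_rfl hi hx, hxc⟩

/-- the abelian case -/
theorem MT.zz_eq (h : MT R P p N) {i : ℕ} (hi : i < N)
    (hab : ∀ x ∈ P i, ∀ y ∈ P i, ⁅x, y⁆ ∈ ker P i) : zz P N i ≤ ker P i := by
  have hT := h.toIsTower
  by_cases h2 : i + 1 < N
  · intro x hx
    have hxP : x ∈ P i := zz_le i hx
    have hcg := cent_le_gen (R := P (i + 1)) (F := P i) (N := ker P i) (IsTower.coprime hT h2)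
      (by rw [commutator_le]; exact hab) (hT.norm i (i + 1) (Nat.le_succ i) h2) (h.comm_eq h2)
    obtain ⟨c, hc, hcK⟩ := exists_cent_coset (hT.prime (i + 1) h2) (hT.pgroup (i + 1) h2)
      (IsTower.norm_ker hT (Nat.le_succ i) h2)
      (cop_of_ne (hT.prime (i + 1) h2) (hT.prime i hi) (hT.ne i h2).symm
        ((hT.pgroup i hi).to_le (ker_le P i))) (k := x) (by
      intro a ha
      have h3 := h.zz_comm_succ h2 (Subgroup.inv_mem _ hx) ha
      have h4 : x⁻¹ * (a * x * a⁻¹) = ⁅x⁻¹, a⁆ := by rw [commutatorElement_def, inv_inv]; group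
      rw [h4]
      exact h3)
    have hcP : c ∈ P i := by
      have := (P i).mul_mem hxP (ker_le P i hcK)
      rwa [mul_inv_cancel_left] at this
    have h5 : c ∈ ker P i := hcg ⟨hcP, hc⟩
    have h6 := Subgroup.mul_mem _ h5 (Subgroup.inv_mem _ hcK)
    rwa [mul_inv_rev, inv_inv, mul_inv_cancel_left] at h6
  · rw [zz_of_not h2]

/-- faithfulness modulo `zz` -/
theorem MT.mem_ker_of (h : MT R P p N) {i : ℕ} (hi : i + 1 < N) {x : Γ} (hx : x ∈ P (i + 1))
    (hxz : ∀ y ∈ P i, ⁅x, y⁆ ∈ zz P N i) : x ∈ ker P (i + 1) := by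
  have hT := h.toIsTower
  have hn := h.norm_zz (i := i) (Nat.le_succ i) hi
  let A : Subgroup Γ := P (i + 1) ⊓ cmod (P i) (zz P N i)
  have hxA : x ∈ A := ⟨hx, hn hx, hxz⟩
  have hAP : A ≤ normalizer (P i : Set Γ) :=
    inf_le_left.trans (hT.norm i (i + 1) (Nat.le_succ i) hi)
  have h1 : ⁅P i, A⁆ ≤ zz P N i := by
    rw [commutator_le]
    intro u hu v hv
    exact comm_swap (hv.2.2 u hu)
  have h2 : ⁅⁅P i, A⁆, A⁆ ≤ ker P i := by
    rw [commutator_le]
    intro u hu v hv
    exact h.zz_comm_succ hi (h1 hu) hv.1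
  rw [Lib.CoprimeCommutator.commutator_commutator_eq _ _ hAP
    ((IsTower.coprime hT hi).coprime_dvd_left (Subgroup.card_dvd_of_le inf_le_left))] at h2
  exact ⟨hx, IsTower.norm_ker hT (Nat.le_succ i) hi hx, fun y hy =>
    comm_swap (h2 (commutator_mem_commutator hy hxA))⟩

section Kappa

variable {κ : ℕ}

/-- above `κ` everything is centralized by `R` -/
theorem MT.cent_above (h : MT R P p N)
    (hκ : ∀ j, κ < j → j < N → ⁅P j, R⁆ ≤ ker P j) :
    ∀ n j, κ < j → j < N → N ≤ j + n → P j ≤ centralizer (R : Set Γ) := by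
  have hT := h.toIsTower
  intro n
  induction n with
  | zero => intro j _ _ _; omega
  | succ n ih =>
    intro j hj hjN hn
    by_contra hne
    have hRc : R ≤ normalizer ((centralizer (R : Set Γ) : Subgroup Γ) : Set Γ) :=
      le_normalizer_centralizer Subgroup.le_normalizer
    have h1 := h.le_zz hjN (Q := P j ⊓ centralizer (R : Set Γ)) inf_le_left
      (le_normalizer_inf (hT.inv j hjN) hRc)
      (fun k hk hkN => le_normalizer_inf (hT.norm j k (by omega) hkN)
        ((ih k (by omega) hkN (by omega)).trans Subgroup.le_normalizer)) (by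
        intro heq
        exact hne (inf_eq_left.mp heq))
    apply h.not_le_zz hjN
    intro x hx
    obtain ⟨c, hc, hcR, hcx⟩ := exists_cent_mul h.hR
      (GLev.isPGroup_of_card h.hR rfl) (hT.inv j hjN)
      (cop_of_ne h.hR (hT.prime j hjN) (h.hRp j hjN) (hT.pgroup j hjN)) hx
    have h2 : c⁻¹ * x ∈ zz P N j := IsTower.ker_le_zz hT hjN (hκ j hj hjN hcx)
    have h3 := Subgroup.mul_mem _ (h1 ⟨hc, hcR⟩) h2
    rwa [mul_inv_cancel_left] at h3

theorem MT.comm_R (h : MT R P p N) (hκN : κ < N)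
    (hκ1 : ¬ ⁅P κ, R⁆ ≤ ker P κ)
    (hc : ∀ j, κ < j → j < N → P j ≤ centralizer (R : Set Γ)) : ⁅P κ, R⁆ = P κ := by
  have hT := h.toIsTower
  by_contra hne
  have h1 := h.le_zz hκN (Q := ⁅P κ, R⁆)
    (Lib.CoprimeCommutator.commutator_le_left (hT.inv κ hκN))
    (Lib.CoprimeCommutator.right_le_normalizer_commutator _ _)
    (fun k hk hkN => le_normalizer_commutator (hT.norm κ k (by omega) hkN) (by
      refine (hc k hk hkN).trans ?_
      exact Subgroup.centralizer_le_normalizer (R : Set Γ))) hne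
  apply hκ1
  by_cases h2 : κ + 1 < N
  · have hRK := IsTower.inv_ker hT hκN
    have h3 := SignalizersComponents.PerfectGoingUp.three_subgroups_mod
      (A := P κ) (B := P (κ + 1)) (C := R) (K := ker P κ)
      (IsTower.norm_ker hT le_rfl hκN) (IsTower.norm_ker hT (Nat.le_succ κ) h2) hRK (by
        rw [commutator_le]
        intro u hu v hv
        have h4 : ⁅P (κ + 1), R⁆ ≤ ⊥ := by
          rw [commutator_le]
          intro x hx y hy
          rw [Subgroup.mem_bot, commutatorElement_eq_one_iff_mul_comm]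
          exact (Subgroup.mem_centralizer_iff.mp (hc (κ + 1) (by omega) h2 hx) y hy).symm
        have h5 : u = 1 := h4 hu
        rw [h5, commutatorElement_one_left]
        exact Subgroup.one_mem _) (by
        rw [commutator_le]
        intro u hu v hv
        rw [commutator_comm] at hu
        exact h.zz_comm_succ h2 (h1 hu) hv)
    rwa [h.comm_eq h2] at h3
  · rwa [zz_of_not h2] at h1

theorem MT.cop_R (h : MT R P p N) {i : ℕ} (hi : i < N) :
    (Nat.card R).Coprime (Nat.card (P i)) :=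
  cop_card (h.prime i hi) h.hR (h.hRp i hi).symm (GLev.isPGroup_of_card h.hR rfl) (h.pgroup i hi)

theorem MT.cent_kappa (h : MT R P p N) (hκN : κ < N) (hcomm : ⁅P κ, R⁆ = P κ) :
    P κ ⊓ centralizer (R : Set Γ) ≤ zz P N κ := by
  refine cent_le_gen (h.cop_R hκN) ?_ (h.inv κ hκN) hcomm
  rw [commutator_le]
  exact (h.phi hκN).1

theorem MT.R_nontriv (h : MT R P p N) (hκN : κ < N) (hcomm : ⁅P κ, R⁆ = P κ) :
    ∀ n i, i ≤ κ → κ ≤ i + n → ¬ ⁅P i, R⁆ ≤ zz P N i := by
  have hT := h.toIsTower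
  intro n
  induction n with
  | zero =>
    intro i hi hn
    have : i = κ := by omega
    rw [this, hcomm]
    exact h.not_le_zz hκN
  | succ n ih =>
    intro i hi hn
    rcases Nat.lt_or_eq_of_le hi with hlt | heq
    · intro hcon
      have h2 : i + 1 < N := by omega
      apply ih (i + 1) (by omega) (by omega)
      have hRZ := h.inv_zz (i := i) (by omega)
      have hP1 := h.norm_zz (i := i) (j := i + 1) (by omega) h2
      have hP0 := h.norm_zz (i := i) (j := i) le_rfl (by omega)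
      have h3 := SignalizersComponents.PerfectGoingUp.three_subgroups_mod
        (A := R) (B := P (i + 1)) (C := P i) (K := zz P N i) hRZ hP1 hP0 (by
          rw [commutator_comm (P (i + 1)) (P i), h.comm_eq h2]
          exact hcon) (by
          rw [commutator_le]
          intro u hu v hv
          exact IsTower.ker_le_zz hT (by omega) (h.zz_comm_succ h2 (hcon hu) hv))
      rw [commutator_comm R] at h3
      intro x hx
      refine IsTower.ker_le_zz hT h2 (h.mem_ker_of h2 ?_ fun y hy =>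
        h3 (commutator_mem_commutator hx hy))
      exact Lib.CoprimeCommutator.commutator_le_left (hT.inv (i + 1) h2) hx
    · rw [heq, hcomm]
      exact h.not_le_zz hκN

end Kappa

end Cfsg.Agent.H575.TThree
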