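import Cfsg.Agent.H575.MinTower

/-!
# The structure of a minimal tower
-/

set_option autoImplicit false
set_option linter.unusedSectionVars false
set_option linter.unusedVariables false

namespace Cfsg.Agent.H575.TThree

open Subgroup Cfsg.Agent.H575.Sect Cfsg.Agent.H575.Tower Cfsg.Agent.H575.HA
  Cfsg.Agent.H575.ExtraIrr Cfsg.Agent.H575.MinTower
open scoped commutatorElement

universe u

variable {Γ : Type u} [Group Γ]

/-- a minimal tower -/
structure MT (R : Subgroup Γ) (P : ℕ → Subgroup Γ) (p : ℕ → ℕ) (N : ℕ) : Prop extends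
    IsTower R P p N where
  hmin : ∀ P' : ℕ → Subgroup Γ, IsTower R P' p N → (∀ i < N, P' i ≤ P i) →
    ∀ i < N, P' i = P i
  hR : (Nat.card R).Prime
  hRp : ∀ i < N, Nat.card R ≠ p i

/-- the largest proper invariant subgroup of `P i` -/
def zz (P : ℕ → Subgroup Γ) (N i : ℕ) : Subgroup Γ :=
  open Classical in if i + 1 < N then P i ⊓ cmod (P (i + 1)) (ker P i) else ker P i

theorem zz_of_lt {P : ℕ → Subgroup Γ} {N i : ℕ} (h : i + 1 < N) :
    zz P N i = P i ⊓ cmod (P (i + 1)) (ker P i) := if_pos h

theorem zz_of_not {P : ℕ → Subgroup Γ} {N i : ℕ} (h : ¬ i + 1 < N) : zz P N i = ker P i :=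
  if_neg h

variable {R : Subgroup Γ} {P : ℕ → Subgroup Γ} {p : ℕ → ℕ} {N : ℕ}

theorem ker_congr {P' : ℕ → Subgroup Γ} {k : ℕ} (h : ∀ j ≤ k, P' j = P j) :
    ker P' k = ker P k := by
  induction k with
  | zero => rfl
  | succ k ih =>
    show P' (k + 1) ⊓ cmod (P' k) (ker P' k) = P (k + 1) ⊓ cmod (P k) (ker P k)
    rw [h _ le_rfl, h k (Nat.le_succ k), ih fun j hj => h j (hj.trans (Nat.le_succ k))]

theorem IsTower.norm_ker (h : IsTower R P p N) {i j : ℕ} (hij : i ≤ j) (hj : j < N) :
    P j ≤ normalizer (ker P i : Set Γ) :=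
  MinTower.norm_ker fun k hk => h.norm k j (hk.trans hij) hj

theorem IsTower.inv_ker (h : IsTower R P p N) {i : ℕ} (hi : i < N) :
    R ≤ normalizer (ker P i : Set Γ) :=
  MinTower.norm_ker fun k hk => h.inv k (lt_of_le_of_lt hk hi)

theorem IsTower.ker_le_zz (h : IsTower R P p N) {i : ℕ} (hi : i < N) :
    ker P i ≤ zz P N i := by
  by_cases h1 : i + 1 < N
  · rw [zz_of_lt h1]
    refine le_inf (ker_le P i) fun x hx => ⟨IsTower.norm_ker h le_rfl hi (ker_le P i hx), ?_⟩
    intro y hy
    have h2 := Sect.conj_mem (IsTower.norm_ker h (Nat.le_succ i) h1) hy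
      (Subgroup.inv_mem _ hx)
    have h3 : ⁅x, y⁆ = x * (y * x⁻¹ * y⁻¹) := by rw [commutatorElement_def]; group
    rw [h3]
    exact Subgroup.mul_mem _ hx h2
  · rw [zz_of_not h1]

theorem zz_le (i : ℕ) : zz P N i ≤ P i := by
  by_cases h1 : i + 1 < N
  · rw [zz_of_lt h1]
    exact inf_le_left
  · rw [zz_of_not h1]
    exact ker_le P i

variable [Finite Γ]

theorem IsTower.coprime (h : IsTower R P p N) {i : ℕ} (hi : i + 1 < N) :
    (Nat.card (P (i + 1))).Coprime (Nat.card (P i)) :=
  cop_card (h.prime i (by omega)) (h.prime (i + 1) hi) (h.ne i hi) (h.pgroup (i + 1) hi)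
    (h.pgroup i (by omega))

/-- if `[P i, P (i + 1)] ≤ K` and `[K, P (i+1)] ≤ ker P i` -/
theorem IsTower.contra (h : IsTower R P p N) {i : ℕ} (hi : i + 1 < N) {K : Subgroup Γ}
    (h1 : ⁅P i, P (i + 1)⁆ ≤ K) (h2 : K ≤ zz P N i) : False := by
  rw [zz_of_lt hi] at h2
  have h3 : ⁅⁅P i, P (i + 1)⁆, P (i + 1)⁆ ≤ ker P i := by
    rw [commutator_le]
    intro x hx y hy
    exact (h2 (h1 hx)).2.2 y hy
  rw [Lib.CoprimeCommutator.commutator_commutator_eq _ _ (h.norm i (i + 1) (Nat.le_succ i) hi)
    (IsTower.coprime h hi)] at h3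
  refine h.nontriv (i + 1) hi fun y hy => ⟨hy, IsTower.norm_ker h (Nat.le_succ i) hi hy, ?_⟩
  intro x hx
  have h4 : ⁅y, x⁆ = ⁅x, y⁆⁻¹ := (commutatorElement_inv x y).symm
  rw [h4]
  exact Subgroup.inv_mem _ (h3 (commutator_mem_commutator hx hy))

theorem MT.core (h : MT R P p N) : ∀ n i, i < N → N ≤ i + n → ∀ Q ≤ P i,
    R ≤ normalizer (Q : Set Γ) → (∀ j, i < j → j < N → P j ≤ normalizer (Q : Set Γ)) →
    Q ≠ P i → Q ≤ zz P N i := by
  intro n
  induction n with
  | zero => intro i hi hN; omega
  | succ n ih =>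
    intro i hi hN Q hQP hRQ hPQ hne
    by_contra hQ
    apply hne
    have hT := h.toIsTower
    let P' : ℕ → Subgroup Γ := Function.update P i Q
    have hPi : P' i = Q := Function.update_self i Q P
    have hPj : ∀ j, j ≠ i → P' j = P j := fun j hj => Function.update_of_ne hj Q P
    have hle : ∀ j, P' j ≤ P j := by
      intro j
      by_cases hj : j = i
      · rw [hj, hPi]
        exact hQP
      · rw [hPj j hj]
    have hnorm : ∀ a b, a ≤ b → b < N → P' b ≤ normalizer (P' a : Set Γ) := by
      intro a b hab hb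
      by_cases ha : a = i
      · subst ha
        rw [hPi]
        by_cases hb' : b = a
        · rw [hb', hPi]
          exact Subgroup.le_normalizer
        · rw [hPj b hb']
          exact hPQ b (lt_of_le_of_ne hab (Ne.symm hb')) hb
      · rw [hPj a ha]
        exact (hle b).trans (hT.norm a b hab hb)
    have hinv : ∀ a < N, R ≤ normalizer (P' a : Set Γ) := by
      intro a ha
      by_cases ha' : a = i
      · rw [ha', hPi]
        exact hRQ
      · rw [hPj a ha']
        exact hT.inv a ha
    have hker : ker P' i = Q ⊓ ker P i := by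
      cases i with
      | zero =>
        show (⊥ : Subgroup Γ) = Q ⊓ ⊥
        rw [inf_bot_eq]
      | succ i =>
        show P' (i + 1) ⊓ cmod (P' i) (ker P' i) = Q ⊓ (P (i + 1) ⊓ cmod (P i) (ker P i))
        rw [hPi, hPj i (by omega), ker_congr (P' := P') (P := P) (fun j hj => hPj j (by omega)),
          ← inf_assoc, inf_of_le_left hQP]
    -- above `i`
    have habove : ∀ d, i + 1 + d < N → ¬ P (i + 1 + d) ≤ ker P' (i + 1 + d) := by
      intro d
      induction d with
      | zero =>
        intro hd hcon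
        apply hQ
        rw [zz_of_lt hd]
        refine le_inf hQP fun x hx => ⟨IsTower.norm_ker hT le_rfl hi (hQP hx), fun y hy => ?_⟩
        have h1 : y ∈ P' (i + 1) ⊓ cmod (P' i) (ker P' i) := hcon hy
        rw [hPi, hker] at h1
        have h2 := (h1.2.2 x hx).2
        rw [← commutatorElement_inv]
        exact Subgroup.inv_mem _ h2
      | succ d ihd =>
        intro hd hcon
        have hd' : i + 1 + d < N := by omega
        have h1 := ihd hd'
        have h2 : ker P' (i + 1 + d) ≤ P (i + 1 + d) := by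
          have := ker_le P' (i + 1 + d)
          rwa [hPj (i + 1 + d) (by omega)] at this
        have h3 := ih (i + 1 + d) hd' (by omega) (ker P' (i + 1 + d)) h2
          (MinTower.norm_ker fun k hk => hinv k (by omega))
          (fun j hj hjN => MinTower.norm_ker fun k hk => by
            have h4 := hnorm k j (by omega) hjN
            rwa [hPj j (by omega)] at h4)
          (fun h4 => h1 (by rw [h4]))
        refine IsTower.contra hT (i := i + 1 + d) (by omega) (K := ker P' (i + 1 + d)) ?_ h3
        rw [commutator_le]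
        intro x hx y hy
        have h5 : y ∈ P' (i + 1 + d + 1) ⊓ cmod (P' (i + 1 + d)) (ker P' (i + 1 + d)) := hcon hy
        rw [hPj (i + 1 + d) (by omega)] at h5
        have h6 := h5.2.2 x hx
        rw [← commutatorElement_inv]
        exact Subgroup.inv_mem _ h6
    have htower : IsTower R P' p N :=
      { prime := hT.prime
        pgroup := fun j hj => (hT.pgroup j hj).to_le (hle j)
        ne := hT.ne
        norm := hnorm
        inv := hinv
        nontriv := by
          intro k hk hcon
          rcases lt_trichotomy k i with hki | hki | hki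
          · rw [hPj k (by omega), ker_congr (P' := P') (P := P) (fun j hj => hPj j (by omega))]
              at hcon
            exact hT.nontriv k hk hcon
          · subst hki
            rw [hPi, hker] at hcon
            exact hQ ((hcon.trans inf_le_right).trans (IsTower.ker_le_zz hT hk))
          · obtain ⟨d, rfl⟩ : ∃ d, k = i + 1 + d := ⟨k - (i + 1), by omega⟩
            rw [hPj (i + 1 + d) (by omega)] at hcon
            exact habove d hk hcon }
    have h1 := h.hmin P' htower (fun j _ => hle j) i hi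
    rw [hPi] at h1
    exact h1

theorem MT.le_zz (h : MT R P p N) {i : ℕ} (hi : i < N) {Q : Subgroup Γ} (hQ : Q ≤ P i)
    (hRQ : R ≤ normalizer (Q : Set Γ))
    (hPQ : ∀ j, i < j → j < N → P j ≤ normalizer (Q : Set Γ)) (hne : Q ≠ P i) :
    Q ≤ zz P N i := h.core N i hi (by omega) Q hQ hRQ hPQ hne

end Cfsg.Agent.H575.TThree
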