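import Cfsg.Agent.H575.Chain
import Mathlib.GroupTheory.Sylow

/-!
# Towers of `p`-subgroups

Definitions for the theorem on the Fitting height of the fixed points of a coprime automorphism
of prime order (`S4363`).  The group `P 0` is at the bottom; `P j` normalizes `P i` for `i ≤ j`.
-/

set_option autoImplicit false

open Subgroup
open scoped commutatorElement

namespace Cfsg.Agent.H575.Tower

variable {Γ : Type*} [Group Γ]

/-- the elements normalizing `K` and centralizing `P` modulo `K` -/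
def cmod (P K : Subgroup Γ) : Subgroup Γ where
  carrier := {x | x ∈ normalizer (K : Set Γ) ∧ ∀ y ∈ P, ⁅x, y⁆ ∈ K}
  one_mem' := ⟨one_mem _, fun y _ => by rw [commutatorElement_one_left]; exact K.one_mem⟩
  mul_mem' := by
    rintro a b ⟨ha, ha'⟩ ⟨hb, hb'⟩
    refine ⟨mul_mem ha hb, fun y hy => ?_⟩
    have h1 : ⁅a * b, y⁆ = a * ⁅b, y⁆ * a⁻¹ * ⁅a, y⁆ := by
      simp only [commutatorElement_def]
      group
    rw [h1]
    exact K.mul_mem ((mem_normalizer_iff.mp ha _).mp (hb' y hy)) (ha' y hy)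
  inv_mem' := by
    rintro a ⟨ha, ha'⟩
    refine ⟨inv_mem ha, fun y hy => ?_⟩
    have h1 : ⁅a⁻¹, y⁆ = a⁻¹ * ⁅a, y⁆⁻¹ * a⁻¹⁻¹ := by
      simp only [commutatorElement_def]
      group
    rw [h1]
    exact (mem_normalizer_iff.mp (inv_mem ha) _).mp (K.inv_mem (ha' y hy))

theorem mem_cmod {P K : Subgroup Γ} {x : Γ} :
    x ∈ cmod P K ↔ x ∈ normalizer (K : Set Γ) ∧ ∀ y ∈ P, ⁅x, y⁆ ∈ K := Iff.rfl

/-- the kernels of a tower: `K 0 = 1` and `K (i + 1)` is the kernel of the action of `P (i + 1)`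
on `P i / K i` -/
def ker (P : ℕ → Subgroup Γ) : ℕ → Subgroup Γ
  | 0 => ⊥
  | i + 1 => P (i + 1) ⊓ cmod (P i) (ker P i)

/-- A tower of height `n` (with `P i`, `i < n`) of `R`-invariant subgroups. -/
structure IsTower (R : Subgroup Γ) (P : ℕ → Subgroup Γ) (p : ℕ → ℕ) (n : ℕ) : Prop where
  prime : ∀ i < n, (p i).Prime
  pgroup : ∀ i < n, IsPGroup (p i) (P i)
  ne : ∀ i, i + 1 < n → p i ≠ p (i + 1)
  norm : ∀ i j, i ≤ j → j < n → P j ≤ normalizer (P i : Set Γ)
  inv : ∀ i < n, R ≤ normalizer (P i : Set Γ)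
  nontriv : ∀ i < n, ¬ P i ≤ ker P i

end Cfsg.Agent.H575.Tower
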