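import Cfsg.Agent.H575.StartD
import Cfsg.Agent.H823.TowerMain

/-!
# Turull's theorem
-/

set_option autoImplicit false
set_option linter.unusedSectionVars false
set_option linter.unusedVariables false

namespace Cfsg.Agent.H575.Turull

open Subgroup Cfsg.Agent.H575.Tower Cfsg.Agent.H575.TThree
open scoped commutatorElement

universe u

variable {Γ : Type u} [Group Γ] [Finite Γ]

theorem exists_min {R X : Subgroup Γ} {p : ℕ → ℕ} {N : ℕ} {P : ℕ → Subgroup Γ}
    (hT : IsTower R P p N) (hPX : ∀ i < N, P i ≤ X) (hR : (Nat.card R).Prime)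
    (hcop : ¬ Nat.card R ∣ Nat.card X) : ∃ P', MT R P' p N ∧ ∀ i < N, P' i ≤ X := by
  classical
  let S : Set ℕ := {a | ∃ P' : ℕ → Subgroup Γ, IsTower R P' p N ∧ (∀ i < N, P' i ≤ X) ∧
    a = ∑ i ∈ Finset.range N, Nat.card (P' i)}
  have hS : S.Nonempty := ⟨_, P, hT, hPX, rfl⟩
  obtain ⟨P', hT', hPX', hsum⟩ := Nat.sInf_mem hS
  refine ⟨P', { toIsTower := hT', hmin := ?_, hR := hR, hRp := ?_ }, hPX'⟩
  · intro P'' hT'' hle
    have h1 : ∑ i ∈ Finset.range N, Nat.card (P' i) ≤ ∑ i ∈ Finset.range N, Nat.card (P'' i) := by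
      rw [← hsum]
      exact Nat.sInf_le ⟨P'', hT'', fun i hi => (hle i hi).trans (hPX' i hi), rfl⟩
    have h2 : ∀ i ∈ Finset.range N, Nat.card (P'' i) ≤ Nat.card (P' i) := fun i hi =>
      Subgroup.card_le_of_le (hle i (Finset.mem_range.mp hi))
    have h3 := (Finset.sum_eq_sum_iff_of_le h2).mp (le_antisymm (Finset.sum_le_sum h2) h1)
    intro i hi
    exact Subgroup.eq_of_le_of_card_ge (hle i hi) (h3 i (Finset.mem_range.mpr hi)).ge
  · intro i hi heq
    apply hcop
    have hpf : Fact (p i).Prime := ⟨hT'.prime i hi⟩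
    obtain ⟨k, hk⟩ := (hT'.pgroup i hi).exists_card_eq
    have hk0 : k ≠ 0 := by
      rintro rfl
      rw [pow_zero] at hk
      apply hT'.nontriv i hi
      rw [Subgroup.card_eq_one.mp hk]
      exact bot_le
    have h1 : p i ∣ Nat.card (P' i) := by
      rw [hk]
      exact dvd_pow_self _ hk0
    rw [heq]
    exact h1.trans (Subgroup.card_dvd_of_le (hPX' i hi))

/-- **Turull's theorem**, for an operator group of prime order -/
theorem turull (X R : Subgroup Γ) (hX : X.Normal) (hsol : Group.IsSolvable X)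
    (hR : (Nat.card R).Prime) (hcop : ¬ Nat.card R ∣ Nat.card X) (n : ℕ)
    (h : Chain.FChain n ↥(X ⊓ centralizer (R : Set Γ))) : Chain.FChain (n + 2) X := by
  by_contra hcon
  obtain ⟨P, p, hT, hPX⟩ := H823.Tow.exists_tower X R hX hsol hR hcop (n + 2) hcon
  obtain ⟨P', hMT, hPX'⟩ := exists_min hT hPX hR hcop
  obtain ⟨c, hc⟩ := exists_cc h
  exact hMT.main hPX' hc rfl

/-- Turull's theorem for an automorphism -/
theorem turull_aut {G : Type u} [Group G] [Finite G] (hG : Group.IsSolvable G) (σ : MulAut G)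
    (r : ℕ) (hr : r.Prime) (hσ : orderOf σ = r) (hcop : ¬ r ∣ Nat.card G) (C : Subgroup G)
    (hC : ∀ g : G, g ∈ C ↔ σ g = g) (n : ℕ) (hn : Chain.FChain n C) :
    Chain.FChain (n + 2) G := by
  let S : Subgroup (MulAut G) := zpowers σ
  let φ : S →* MulAut G := S.subtype
  have hfin : Finite (G ⋊[φ] S) :=
    Finite.of_equiv (G × S) SemidirectProduct.equivProd.symm
  let X : Subgroup (G ⋊[φ] S) := (SemidirectProduct.inl : G →* G ⋊[φ] S).range
  let R : Subgroup (G ⋊[φ] S) := (SemidirectProduct.inr : S →* G ⋊[φ] S).range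
  have hXmem : ∀ x : G ⋊[φ] S, x ∈ X ↔ x.right = 1 := by
    intro x
    show x ∈ (SemidirectProduct.inl : G →* G ⋊[φ] S).range ↔ _
    rw [SemidirectProduct.range_inl_eq_ker_rightHom, MonoidHom.mem_ker]
    rfl
  have hXn : X.Normal := by
    show ((SemidirectProduct.inl : G →* G ⋊[φ] S).range).Normal
    rw [SemidirectProduct.range_inl_eq_ker_rightHom]
    infer_instance
  have hcX : Nat.card X = Nat.card G :=
    (Nat.card_congr (MonoidHom.ofInjective (f := (SemidirectProduct.inl : G →* G ⋊[φ] S))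
      SemidirectProduct.inl_injective).toEquiv).symm
  have hcR : Nat.card R = r := by
    rw [← hσ, ← Nat.card_zpowers]
    exact (Nat.card_congr (MonoidHom.ofInjective (f := (SemidirectProduct.inr : S →* G ⋊[φ] S))
      SemidirectProduct.inr_injective).toEquiv).symm
  have hsolX : Group.IsSolvable X :=
    Group.isSolvable_of_surjective (MonoidHom.rangeRestrict_surjective
      (SemidirectProduct.inl : G →* G ⋊[φ] S))
  have hfixed : ∀ x : G ⋊[φ] S, x ∈ X ⊓ centralizer (R : Set (G ⋊[φ] S)) → x.left ∈ C := by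
    rintro x ⟨hx, hxR⟩
    rw [hC]
    have hx1 := (hXmem x).mp hx
    have h1 := Subgroup.mem_centralizer_iff.mp hxR
      (SemidirectProduct.inr ⟨σ, mem_zpowers σ⟩) ⟨⟨σ, mem_zpowers σ⟩, rfl⟩
    have h2 := congrArg SemidirectProduct.left h1
    rw [SemidirectProduct.mul_left, SemidirectProduct.mul_left, SemidirectProduct.left_inr,
      one_mul, SemidirectProduct.right_inr, map_one, mul_one] at h2
    exact h2
  have hCh : Chain.FChain n ↥(X ⊓ centralizer (R : Set (G ⋊[φ] S))) := by
    refine hn.of_injective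
      { toFun := fun x => (⟨(x : G ⋊[φ] S).left, hfixed x x.2⟩ : C)
        map_one' := rfl
        map_mul' := fun x y => Subtype.ext ?_ } ?_
    · show ((x : G ⋊[φ] S) * y).left = (x : G ⋊[φ] S).left * (y : G ⋊[φ] S).left
      rw [SemidirectProduct.mul_left, (hXmem x).mp x.2.1, map_one]
      rfl
    · intro x y hxy
      have h1 : (x : G ⋊[φ] S).left = (y : G ⋊[φ] S).left := congrArg Subtype.val hxy
      apply Subtype.ext
      refine SemidirectProduct.ext h1 ?_
      rw [(hXmem x).mp x.2.1, (hXmem y).mp y.2.1]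
  have hmain := turull X R hXn hsolX (by rw [hcR]; exact hr) (by rw [hcR, hcX]; exact hcop) n hCh
  exact hmain.of_injective (SemidirectProduct.inl : G →* G ⋊[φ] S).rangeRestrict
    (fun a b hab => SemidirectProduct.inl_injective (congrArg Subtype.val hab))

end Cfsg.Agent.H575.Turull
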